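import Cfsg.Agent.FusRankThree.Defs
import Cfsg.Agent.PGroup.Frattini
import Cfsg.Agent.PGroup.ClassTwo
import Cfsg.Agent.PGroup.Basic

/-!
# Tools for the single Jordan block case (S5180)
-/

set_option autoImplicit false
set_option linter.unusedSectionVars false
set_option linter.style.haveILetI false

open scoped commutatorElement

namespace Cfsg.Agent.FusRankThree.Jordan

universe u

variable {p : ℕ} [hp : Fact p.Prime] {N : Type u} [Group N] [Finite N]

theorem eq_of_relIndex_one {A B : Subgroup N} (h : A ≤ B) (h1 : A.relIndex B = 1) : A = B :=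
  le_antisymm h (Subgroup.relIndex_eq_one.mp h1)

/-- Nothing lies strictly between a subgroup and one of relative index `p` above it. -/
theorem between {A B C : Subgroup N} (hAB : A ≤ B) (hBC : B ≤ C) (h : A.relIndex C = p) :
    B = A ∨ B = C := by
  have hm := Subgroup.relIndex_mul_relIndex A B C hAB hBC
  rw [h] at hm
  rcases (hp.out.eq_one_or_self_of_dvd _ ⟨_, hm.symm⟩) with h1 | h1
  · exact Or.inl (eq_of_relIndex_one hAB h1).symm
  · rw [h1] at hm
    refine Or.inr (eq_of_relIndex_one hBC ?_)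
    have := hp.out.pos
    exact Nat.eq_of_mul_eq_mul_left this (by rw [hm, mul_one])

theorem exists_relIndex_eq_pow (hN : IsPGroup p N) (A B : Subgroup N) :
    ∃ k : ℕ, A.relIndex B = p ^ k :=
  (hN.to_subgroup B).index _

theorem le_relIndex_of_lt (hN : IsPGroup p N) {A B : Subgroup N} (h : A < B) :
    p ≤ A.relIndex B := by
  obtain ⟨k, hk⟩ := exists_relIndex_eq_pow hN A B
  rcases k with _ | k
  · exact absurd (eq_of_relIndex_one h.le (by simpa using hk)) h.ne
  · rw [hk]; exact Nat.le_self_pow (Nat.succ_ne_zero k) p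

/-- `[A, N] B < A` for normal subgroups `B < A` of a finite p-group. -/
theorem commutator_sup_lt (hN : IsPGroup p N) {A B : Subgroup N} [A.Normal] [B.Normal]
    (h : B < A) : ⁅A, (⊤ : Subgroup N)⁆ ⊔ B < A := by
  refine lt_of_le_of_ne (sup_le (Subgroup.commutator_le_left A ⊤) h.le) fun heq => ?_
  have hsurj := QuotientGroup.mk'_surjective B
  haveI : (A.map (QuotientGroup.mk' B)).Normal := Subgroup.Normal.map inferInstance _ hsurj
  have hne : A.map (QuotientGroup.mk' B) ≠ ⊥ := by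
    intro h0
    rw [Subgroup.map_eq_bot_iff, QuotientGroup.ker_mk'] at h0
    exact h.not_ge h0
  refine (Cfsg.Agent.PGroup.commutator_top_lt (hN.to_quotient B) hne).ne ?_
  have h2 := congrArg (Subgroup.map (QuotientGroup.mk' B)) heq
  rw [Subgroup.map_sup, Subgroup.map_commutator, Subgroup.map_top_of_surjective _ hsurj,
    QuotientGroup.map_mk'_self, sup_bot_eq] at h2
  exact h2

/-- One step of the filtration `A ≥ [A, N] B`. -/
theorem relIndex_step (hN : IsPGroup p N) {A B : Subgroup N} [A.Normal] [B.Normal]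
    (hBA : B ≤ A) {k : ℕ} (h : B.relIndex A ≤ p ^ (k + 1)) :
    B.relIndex (⁅A, (⊤ : Subgroup N)⁆ ⊔ B) ≤ p ^ k := by
  have hk : 1 ≤ p ^ k := Nat.one_le_pow _ _ hp.out.pos
  rcases eq_or_lt_of_le hBA with h0 | hlt
  · have : ⁅A, (⊤ : Subgroup N)⁆ ⊔ B = B := by
      rw [sup_eq_right, h0]; exact Subgroup.commutator_le_left A ⊤
    rw [this, Subgroup.relIndex_self]
    exact hk
  · have h1 := commutator_sup_lt hN hlt
    have h2 := le_relIndex_of_lt hN h1
    have h3 := Subgroup.relIndex_mul_relIndex B _ A le_sup_right h1.le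
    have h4 : B.relIndex (⁅A, (⊤ : Subgroup N)⁆ ⊔ B) * p ≤ p ^ k * p := by
      rw [← pow_succ]
      exact le_trans (Nat.mul_le_mul_left _ h2) (h3 ▸ h)
    exact Nat.le_of_mul_le_mul_right h4 hp.out.pos

/-- A normal section of order at most `p` is central. -/
theorem commutator_le_of_relIndex (hN : IsPGroup p N) {A B : Subgroup N} [A.Normal] [B.Normal]
    (hBA : B ≤ A) (h : B.relIndex A ≤ p) : ⁅A, (⊤ : Subgroup N)⁆ ≤ B := by
  have h1 := relIndex_step hN hBA (k := 0) (by simpa using h)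
  have h2 : B.relIndex (⁅A, (⊤ : Subgroup N)⁆ ⊔ B) = 1 := by
    refine le_antisymm (by simpa using h1) (Nat.one_le_iff_ne_zero.2 ?_)
    exact Subgroup.index_ne_zero_of_finite
  exact le_trans le_sup_left (Subgroup.relIndex_eq_one.mp h2)

theorem dvd_of_zpow_mem {A : Subgroup N} {a : N} {i : ℤ} (ha : a ∉ A) (hap : a ^ p ∈ A)
    (hi : a ^ i ∈ A) : (p : ℤ) ∣ i := by
  by_contra hd
  obtain ⟨r, s, hrs⟩ := ((Int.prime_iff_natAbs_prime.2 (by simpa using hp.out) :
    Prime (p : ℤ)).coprime_iff_not_dvd).2 hd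
  apply ha
  have : a = (a ^ (p : ℤ)) ^ r * (a ^ i) ^ s := by
    rw [← zpow_mul, ← zpow_mul, ← zpow_add]
    conv_lhs => rw [← zpow_one a, ← hrs]
    congr 1; ring
  rw [this, zpow_natCast]
  exact mul_mem (zpow_mem hap r) (zpow_mem hi s)

theorem eq_one_of_zpow {M : Type*} [Group M] {a : M} {n : ℤ} (hn : ¬ (p : ℤ) ∣ n)
    (hap : a ^ p = 1) (ha : a ^ n = 1) : a = 1 := by
  obtain ⟨r, s, hrs⟩ := ((Int.prime_iff_natAbs_prime.2 (by simpa using hp.out) :
    Prime (p : ℤ)).coprime_iff_not_dvd).2 hn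
  rw [← zpow_one a, ← hrs, zpow_add, mul_comm r, zpow_mul, mul_comm s, zpow_mul, zpow_natCast,
    hap, ha, one_zpow, one_zpow, one_mul]

omit hp in
/-- The closure of a set invariant under all automorphisms is characteristic. -/
theorem characteristic_closure {G : Type*} [Group G] (S : Set G)
    (h : ∀ φ : G ≃* G, ∀ s ∈ S, φ s ∈ S) : (Subgroup.closure S).Characteristic := by
  rw [Subgroup.characteristic_iff_le_comap]
  exact fun φ => (Subgroup.closure_le _).2 fun s hs => Subgroup.subset_closure (h φ s hs)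

omit hp in
/-- In class two, commutators of elements of a closure lie wherever those of the generators do. -/
theorem commutator_mem_of_closure {Q : Type*} [Group Q] (hc : commutator Q ≤ Subgroup.center Q)
    {R : Subgroup Q} {S : Set Q} (h : ∀ a ∈ S, ∀ b ∈ S, ⁅a, b⁆ ∈ R) {a b : Q}
    (ha : a ∈ Subgroup.closure S) (hb : b ∈ Subgroup.closure S) : ⁅a, b⁆ ∈ R := by
  have hz := fun x y : Q => Cfsg.Agent.PGroup.commutatorElement_mem_center hc x y
  induction ha using Subgroup.closure_induction with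
  | one => rw [commutatorElement_one_left]; exact one_mem R
  | mul x y _ _ hx hy =>
    rw [Cfsg.Agent.PGroup.commutatorElement_mul_left (hz y b)]; exact mul_mem hx hy
  | inv x _ hx => rw [Cfsg.Agent.PGroup.commutatorElement_inv_left (hz x b)]; exact inv_mem hx
  | mem x hx =>
    induction hb using Subgroup.closure_induction with
    | mem y hy => exact h x hx y hy
    | one => rw [commutatorElement_one_right]; exact one_mem R
    | mul y w _ _ hy hw =>
      rw [Cfsg.Agent.PGroup.commutatorElement_mul_right (hz x w)]; exact mul_mem hy hw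
    | inv y _ hy => rw [Cfsg.Agent.PGroup.commutatorElement_inv_right (hz x y)]; exact inv_mem hy

omit hp in
theorem pow_mem_of_closure {Q : Type*} [Group Q] (hc : commutator Q ≤ Subgroup.center Q)
    (hodd : Odd p) (hpow : ∀ x : Q, x ^ p ∈ Subgroup.center Q) {R : Subgroup Q} {S : Set Q}
    (h : ∀ a ∈ S, a ^ p ∈ R) {a : Q} (ha : a ∈ Subgroup.closure S) : a ^ p ∈ R := by
  induction ha using Subgroup.closure_induction with
  | mem x hx => exact h x hx
  | one => rw [one_pow]; exact one_mem R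
  | mul x y _ _ hx hy =>
    rw [Cfsg.Agent.PGroup.mul_pow_of_classTwo hc hodd (hpow x)]; exact mul_mem hx hy
  | inv x _ hx => rw [inv_pow]; exact inv_mem hx

omit hp in
/-- Solving for `[e₁, z]` in the commutative group `D/K`. -/
theorem solve {Z : Type*} [CommGroup Z] (T : Z →* Z) {Pe P1 Pz A B C d : Z} {l : ℤ}
    (h1 : T Pe = P1⁻¹ * Pe) (h2 : T P1 = Pz⁻¹ * P1)
    (hA : T A = C * B⁻¹ * A) (hB : T B = C⁻¹ * B) (hC : T C = C)
    (hd : A = Pe ^ l * d) (hδ : T (T d * d⁻¹) = T d * d⁻¹) : C = Pz ^ l := by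
  generalize hw : T d * d⁻¹ = w at hδ
  have hTd : T d = w * d := by rw [← hw]; group
  have e1 : C * B⁻¹ * (Pe ^ l * d) = P1⁻¹ ^ l * Pe ^ l * (w * d) := by
    rw [← hd, ← hA, hd, map_mul, map_zpow, h1, mul_zpow, hTd]
  have e2 : C * B⁻¹ = P1⁻¹ ^ l * w := by
    apply mul_right_cancel (b := Pe ^ l * d)
    rw [e1]; ac_rfl
  have e3 := congrArg T e2
  simp only [map_mul, map_inv, map_zpow, hC, hB, hδ, h2] at e3
  have e4 : C * (C * B⁻¹) = Pz ^ l * (C * B⁻¹) := by
    calc C * (C * B⁻¹) = C * (C⁻¹ * B)⁻¹ := by rw [mul_inv_rev, inv_inv]; ac_rfl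
      _ = (Pz⁻¹ * P1)⁻¹ ^ l * w := e3
      _ = Pz ^ l * (P1⁻¹ ^ l * w) := by rw [mul_inv, inv_inv, mul_zpow, mul_assoc]
      _ = Pz ^ l * (C * B⁻¹) := by rw [e2]
  exact mul_right_cancel e4

open Cfsg.Agent.PGroup in
/-- How a Jordan block acts on the commutators of its basis, in class two. -/
theorem jordan_comm {Q : Type*} [Group Q] (hc : commutator Q ≤ Subgroup.center Q) (T : Q ≃* Q)
    {e e1 z d1 : Q} (h0 : T e = e1⁻¹ * e) (h1 : T e1 = z⁻¹ * e1) (hz : T z = z * d1)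
    (hd1 : d1 ∈ Subgroup.center Q) :
    T ⁅e, e1⁆ = ⁅e1, z⁆ * ⁅e, z⁆⁻¹ * ⁅e, e1⁆ ∧ T ⁅e, z⁆ = ⁅e1, z⁆⁻¹ * ⁅e, z⁆ ∧
      T ⁅e1, z⁆ = ⁅e1, z⁆ := by
  have hm := fun x y : Q => commutatorElement_mem_center hc x y
  have hl : ∀ a b c : Q, ⁅a * b, c⁆ = ⁅a, c⁆ * ⁅b, c⁆ := fun a b c =>
    commutatorElement_mul_left (hm b c)
  have hr : ∀ a b c : Q, ⁅a, b * c⁆ = ⁅a, b⁆ * ⁅a, c⁆ := fun a b c =>
    commutatorElement_mul_right (hm a c)
  have hil : ∀ a b : Q, ⁅a⁻¹, b⁆ = ⁅a, b⁆⁻¹ := fun a b =>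
    Cfsg.Agent.PGroup.commutatorElement_inv_left (hm a b)
  have hir : ∀ a b : Q, ⁅a, b⁻¹⁆ = ⁅a, b⁆⁻¹ := fun a b =>
    Cfsg.Agent.PGroup.commutatorElement_inv_right (hm a b)
  have hd : ∀ a : Q, ⁅a, d1⁆ = 1 := fun a =>
    commutatorElement_eq_one_iff_mul_comm.2 (Subgroup.mem_center_iff.1 hd1 a)
  refine ⟨?_, ?_, ?_⟩
  · rw [map_commutatorElement, h0, h1]
    simp only [hl, hr, hil, hir, commutatorElement_self, inv_inv, inv_one, mul_one]
    group
  · rw [map_commutatorElement, h0, hz]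
    simp only [hl, hr, hil, hd, inv_one, mul_one]
  · rw [map_commutatorElement, h1, hz]
    simp only [hl, hr, hil, hd, commutatorElement_self, inv_one, mul_one, one_mul]

/-- The commutator computed through `(z x)^p`. -/
theorem power_side {M : Type*} [Group M] (hodd : Odd p) {X E1 Z d : M} {l : ℤ}
    (hZ : Z = ⁅E1, X⁆) (hZd : Z = ((X ^ p) ^ l)⁻¹ * d) (hYd : Commute (X ^ p) d)
    (hdp : d ^ p = 1) (hEd : Commute E1 d) (hδ : ⁅X, d⁆ ∈ Subgroup.center M)
    (hδp : ⁅X, d⁆ ^ p = 1) : ⁅E1, Z⁆ = ((Z ^ p) ^ l)⁻¹ := by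
  obtain ⟨Y, hY⟩ : ∃ Y, Y = X ^ p := ⟨_, rfl⟩
  rw [← hY] at hZd hYd
  have hYX : Commute Y X := by rw [hY]; exact (Commute.refl X).pow_left p
  have hZp : Z ^ p = ((Y ^ l) ^ p)⁻¹ := by
    rw [hZd, ((hYd.zpow_left l).inv_left).mul_pow, hdp, mul_one, inv_pow]
  have hc1 : Commute (Y ^ l)⁻¹ (d * X) :=
    ((hYd.zpow_left l).inv_left).mul_right ((hYX.zpow_left l).inv_left)
  have hconj : E1 * Y * E1⁻¹ = Z ^ p * Y := by
    have h1 : E1 * X * E1⁻¹ = Z * X := by rw [hZ, commutatorElement_def]; group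
    rw [hY, ← conj_pow, h1, hZd, mul_assoc, hc1.mul_pow,
      Cfsg.Agent.PGroup.mul_pow_of_odd hodd hδ hδp, hdp, one_mul, ← hY, ← hZd, hZp, inv_pow]
  have hPY : Commute (Z ^ p) Y := by
    rw [hZp]; exact (((Commute.refl Y).zpow_left l).pow_left p).inv_left
  have hPd : Commute (Z ^ p) d := by
    rw [hZp]; exact (((hYd.zpow_left l)).pow_left p).inv_left
  have hcE : E1 * Z * E1⁻¹ = ((Z ^ p) ^ l)⁻¹ * Z := by
    calc E1 * Z * E1⁻¹ = E1 * ((Y ^ l)⁻¹ * d) * E1⁻¹ := by rw [hZd]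
      _ = ((E1 * Y * E1⁻¹) ^ l)⁻¹ * (E1 * d * E1⁻¹) := by rw [conj_zpow]; group
      _ = ((Z ^ p * Y) ^ l)⁻¹ * d := by rw [hconj, hEd.eq, mul_inv_cancel_right]
      _ = ((Z ^ p) ^ l)⁻¹ * ((Y ^ l)⁻¹ * d) := by
          rw [hPY.mul_zpow, mul_inv_rev, ← mul_assoc, ((hPY.zpow_zpow l l).symm.inv_inv).eq]
      _ = ((Z ^ p) ^ l)⁻¹ * Z := by rw [← hZd]
  rw [commutatorElement_def, hcE, mul_inv_cancel_right]

end Cfsg.Agent.FusRankThree.Jordan
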