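import Cfsg.Prelude.Def_CaseTheorems
import Mathlib.GroupTheory.Frattini

/-!
# Rank three essential subgroups: common definitions (S5180)

`RankThree p N` is the elementary reformulation of sectional rank at most three that the case
files use: an elementary abelian section has order at most `p ^ 3`.
-/

set_option autoImplicit false

open Cfsg

namespace Cfsg.Agent.FusRankThree

universe u

/-- Every elementary abelian section has order at most `p ^ 3`. -/
def RankThree (p : ℕ) (N : Type u) [Group N] : Prop :=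
  ∀ H R : Subgroup N, R ≤ H → (∀ a ∈ H, a ^ p ∈ R) →
    (∀ a ∈ H, ∀ b ∈ H, a * b * a⁻¹ * b⁻¹ ∈ R) → R.relIndex H ≤ p ^ 3

/-- `a ≡ b` modulo `D`. -/
def CongMod {N : Type u} [Group N] (D : Subgroup N) (a b : N) : Prop := a⁻¹ * b ∈ D

variable {p : ℕ} {N : Type u} [Group N]

theorem rankThree_subgroup (h : RankThree p N) (M : Subgroup N) : RankThree p M := by
  intro H R hRH hpow hcomm
  rw [← Subgroup.relIndex_map_map_of_injective R H M.subtype_injective]
  refine h _ _ (Subgroup.map_mono hRH) ?_ ?_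
  · rintro _ ⟨a, ha, rfl⟩
    exact ⟨a ^ p, hpow a ha, map_pow _ _ _⟩
  · rintro _ ⟨a, ha, rfl⟩ _ ⟨b, hb, rfl⟩
    exact ⟨_, hcomm a ha b hb, by simp⟩

theorem rankThree_of_sectional (h : Cfsg.SectionalPRankLE p 3 N) : RankThree p N := by
  intro H R hRH hpow hcomm
  have hn : (R.subgroupOf H).Normal := ⟨fun r hr a => by
    show ((a * r * a⁻¹ : H) : N) ∈ R
    have h1 := R.mul_mem (hcomm a a.2 r (hRH hr)) hr
    simpa [mul_assoc] using h1⟩
  have h1 := h H (R.subgroupOf H) ⊤ ⟨⟨?_⟩⟩ ?_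
  · rw [Nat.card_congr Subgroup.topEquiv.toEquiv] at h1
    exact h1
  · rintro ⟨x, -⟩ ⟨y, -⟩
    refine Subtype.ext ?_
    obtain ⟨a, rfl⟩ := QuotientGroup.mk'_surjective (R.subgroupOf H) x
    obtain ⟨b, rfl⟩ := QuotientGroup.mk'_surjective (R.subgroupOf H) y
    show QuotientGroup.mk' _ a * QuotientGroup.mk' _ b = QuotientGroup.mk' _ b * QuotientGroup.mk' _ a
    rw [← map_mul, ← map_mul]
    refine QuotientGroup.eq.2 ?_
    show ((((a * b)⁻¹ * (b * a) : H)) : N) ∈ R
    have h2 := hcomm (b : N)⁻¹ (inv_mem b.2) (a : N)⁻¹ (inv_mem a.2)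
    simpa [mul_assoc] using h2
  · rintro x -
    obtain ⟨a, rfl⟩ := QuotientGroup.mk'_surjective (R.subgroupOf H) x
    rw [← map_pow]
    exact (QuotientGroup.eq_one_iff _).2 (hpow a a.2)

end Cfsg.Agent.FusRankThree
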