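import Mathlib
import Cfsg.Agent.FusRankThree.Defs
import Cfsg.Agent.FusionSys.Essential
import Cfsg.Agent.PGroup.Basic

/-!
# Subgroups of `GL(3,p)` with a strongly embedded Sylow subgroup (S5180)
-/

set_option autoImplicit false

open Cfsg

namespace Cfsg.Agent.FusRankThree

namespace LinAux

universe u

variable {p : ℕ} [Fact p.Prime] {V : Type u} [CommGroup V]

/-- The displacement homomorphism `v ↦ v⁻¹ * t v`. -/
def dl (t : MulAut V) : V →* V where
  toFun v := v⁻¹ * t v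
  map_one' := by simp
  map_mul' v w := by rw [map_mul, mul_inv]; ac_rfl

@[simp] theorem dl_apply (t : MulAut V) (v : V) : dl t v = v⁻¹ * t v := rfl

theorem apply_eq (t : MulAut V) (v : V) : t v = v * dl t v := by simp

theorem mem_ker {t : MulAut V} {v : V} : v ∈ (dl t).ker ↔ t v = v := by
  rw [MonoidHom.mem_ker, dl_apply, inv_mul_eq_one, eq_comm]

theorem dl_ker_ne_top {t : MulAut V} (ht : t ≠ 1) : (dl t).ker ≠ ⊤ := by
  intro h
  exact ht (MulEquiv.ext fun v => mem_ker.1 (h ▸ Subgroup.mem_top v))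

theorem inv_fixed {t : MulAut V} {v : V} (h : t v = v) : t⁻¹ v = v := t.symm_apply_eq.2 h.symm

/-- Powers of `u` on a vector shifted by a fixed vector. -/
theorem pow_shift {u : MulAut V} {v d : V} (hd : u d = d) (hv : u v = v * d) :
    ∀ n : ℕ, (u ^ n) v = v * d ^ n := by
  intro n
  induction n with
  | zero => simp
  | succ n ih =>
    rw [pow_succ', MulAut.mul_apply, ih, map_mul, map_pow, hd, hv, mul_assoc, ← pow_succ']

theorem pow_fixed {u : MulAut V} {v : V} (hv : u v = v) : ∀ n : ℕ, (u ^ n) v = v := fun n => by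
  have := pow_shift (u := u) (v := v) (d := 1) (by simp) (by simp [hv]) n
  simpa using this

/-- Powers of `u` on the top vector of a chain of length three. -/
theorem pow_shift₂ {u : MulAut V} {v d f : V} (hf : u f = f) (hd : u d = d * f)
    (hv : u v = v * d) : ∀ n : ℕ, (u ^ n) v = v * d ^ n * f ^ n.choose 2 := by
  intro n
  induction n with
  | zero => simp
  | succ n ih =>
    have hc : (n + 1).choose 2 = n + n.choose 2 := by
      rw [Nat.choose_succ_succ', Nat.choose_one_right]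
    rw [pow_succ', MulAut.mul_apply, ih, map_mul, map_mul, map_pow, map_pow, hd, hf, hv, hc,
      pow_succ' d, pow_add, mul_pow]
    ac_rfl

/-- An automorphism stabilising a series of length three has order dividing `p`. -/
theorem pow_prime_eq_one (hp : 5 ≤ p) (hexp : ∀ v : V, v ^ p = 1) {u : MulAut V}
    {C W : Subgroup V} (h1 : ∀ c ∈ C, u c = c) (h2 : ∀ w ∈ W, dl u w ∈ C)
    (h3 : ∀ v, dl u v ∈ W) : u ^ p = 1 := by
  refine MulEquiv.ext fun v => ?_
  have hf := h1 _ (h2 _ (h3 v))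
  rw [pow_shift₂ hf (apply_eq u (dl u v)) (apply_eq u v) p, hexp]
  obtain ⟨m, hm⟩ := (Fact.out : p.Prime).dvd_choose_self (k := 2) (by omega) (by omega)
  rw [hm, pow_mul, hexp]
  simp

/-- The stabiliser of a series of length three. -/
def StabSet (C W : Subgroup V) : Set (MulAut V) :=
  {u | (∀ c ∈ C, u c = c) ∧ (∀ w ∈ W, dl u w ∈ C) ∧ ∀ v, dl u v ∈ W}

theorem stabSet_mul {C W : Subgroup V} (hCW : C ≤ W) {s t : MulAut V} (hs : s ∈ StabSet C W)
    (ht : t ∈ StabSet C W) : s * t ∈ StabSet C W := by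
  have key : ∀ v, dl (s * t) v = dl s v * s (dl t v) := fun v => by
    simp [mul_assoc]
  refine ⟨fun c hc => ?_, fun w hw => ?_, fun v => ?_⟩
  · rw [MulAut.mul_apply, ht.1 c hc, hs.1 c hc]
  · rw [key, hs.1 _ (ht.2.1 w hw)]
    exact C.mul_mem (hs.2.1 w hw) (ht.2.1 w hw)
  · rw [key, apply_eq s]
    exact W.mul_mem (hs.2.2 v) (W.mul_mem (ht.2.2 v) (hCW (hs.2.1 _ (ht.2.2 v))))

theorem isPGroup_closure_stab [Finite V] (hp : 5 ≤ p) (hexp : ∀ v : V, v ^ p = 1)
    {C W : Subgroup V} (hCW : C ≤ W) {S : Set (MulAut V)} (hS : S ⊆ StabSet C W) :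
    IsPGroup p (Subgroup.closure S) := by
  rintro ⟨x, hx⟩
  refine ⟨1, Subtype.ext ?_⟩
  have hx' : x ∈ Submonoid.closure S := by
    rw [← Subgroup.closure_toSubmonoid_of_finite]
    exact hx
  have hm : x ∈ StabSet C W := by
    clear hx
    induction hx' using Submonoid.closure_induction with
    | mem a ha => exact hS ha
    | one => exact ⟨fun c _ => rfl, fun w _ => by simp, fun v => by simp⟩
    | mul a b _ _ ha hb => exact stabSet_mul hCW ha hb
  show x ^ p ^ 1 = 1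
  rw [pow_one]
  exact pow_prime_eq_one hp hexp hm.1 hm.2.1 hm.2.2

/-- A `p`-group acting on `V` fixes a vector outside an invariant proper subgroup modulo it. -/
theorem exists_fixed_mod [Finite V] (hV : IsPGroup p V) {G : Subgroup (MulAut V)}
    {U : Subgroup G} (hU : IsPGroup p U) {A : Subgroup V}
    (hA : ∀ u ∈ U, ∀ a ∈ A, (u : MulAut V) a ∈ A) (hA' : A ≠ ⊤) :
    ∃ v, v ∉ A ∧ ∀ u ∈ U, dl (u : MulAut V) v ∈ A := by
  have hsm : ∀ u : U, A ≤ A.comap (((u : G) : MulAut V).toMonoidHom) := fun u a ha => hA u u.2 a ha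
  let act : MulAction U (V ⧸ A) :=
    { smul := fun u q => QuotientGroup.map A A _ (hsm u) q
      one_smul := fun q => by
        obtain ⟨v, rfl⟩ := QuotientGroup.mk_surjective q
        rfl
      mul_smul := fun u w q => by
        obtain ⟨v, rfl⟩ := QuotientGroup.mk_surjective q
        rfl }
  have h0 : (1 : V ⧸ A) ∈ MulAction.fixedPoints U (V ⧸ A) := fun u => map_one _
  have hd : p ∣ Nat.card (V ⧸ A) := by
    rcases (hV.to_quotient A).card_eq_or_dvd with h | h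
    · exact absurd (Subgroup.index_eq_one.1 h) hA'
    · exact h
  obtain ⟨q, hq, hq1⟩ := hU.exists_fixed_point_of_prime_dvd_card_of_fixed_point (V ⧸ A) hd h0
  obtain ⟨v, rfl⟩ := QuotientGroup.mk_surjective q
  refine ⟨v, fun hv => hq1 ((QuotientGroup.eq_one_iff v).2 hv).symm, fun u hu => ?_⟩
  have h := hq ⟨u, hu⟩
  rw [dl_apply]
  exact QuotientGroup.eq.1 (Eq.symm h)

/-- Cardinality step for subgroups of an exponent-`p` group. -/
theorem card_mul_le [Finite V] (hV : IsPGroup p V) {A B : Subgroup V} (h : A < B) :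
    Nat.card A * p ≤ Nat.card B := by
  obtain ⟨a, ha⟩ := (hV.to_subgroup A).exists_card_eq
  obtain ⟨b, hb⟩ := (hV.to_subgroup B).exists_card_eq
  have hlt : Nat.card A < Nat.card B := by
    refine lt_of_not_ge fun hge => h.ne (Subgroup.eq_of_le_of_card_ge h.le hge)
  rw [ha, hb] at hlt ⊢
  rw [← pow_succ]
  exact Nat.pow_le_pow_right (Fact.out : p.Prime).pos
    ((Nat.pow_lt_pow_iff_right (Fact.out : p.Prime).one_lt).1 hlt)

theorem orderOf_eq {G : Type*} [Group G] {g : G} (h : g ^ p = 1) (h1 : g ≠ 1) : orderOf g = p :=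
  orderOf_eq_prime h h1

theorem exists_pow_eq {G : Type*} [Group G] [Finite G] {Z : Subgroup G} (hZ : Nat.card Z = p)
    {a b : G} (ha : a ∈ Z) (ha1 : a ≠ 1) (hb : b ∈ Z) : ∃ n : ℕ, a ^ n = b := by
  have : (⟨b, hb⟩ : Z) ∈ Submonoid.powers (⟨a, ha⟩ : Z) := by
    rw [mem_powers_iff_mem_zpowers]
    rw [zpowers_eq_top_of_prime_card hZ (fun h => ha1 (congrArg Subtype.val h))]
    trivial
  obtain ⟨n, hn⟩ := this
  exact ⟨n, congrArg Subtype.val hn⟩

section Embedded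

set_option linter.unusedSectionVars false
variable [Finite V] {G : Subgroup (MulAut V)}

/-- The hypotheses: `Y` is strongly embedded over the Sylow subgroup `R`. -/
structure Setup (p : ℕ) [Fact p.Prime] (R : Sylow p G) (Y : Subgroup G) : Prop where
  five : 5 ≤ p
  exp : ∀ v : V, v ^ p = 1
  card : Nat.card V = p ^ 3
  ne : (R : Subgroup G) ≠ ⊥
  proper : Y ≠ ⊤
  norm : ∀ Q ≤ (R : Subgroup G), Q ≠ ⊥ → Subgroup.normalizer (Q : Set G) ≤ Y

variable {R : Sylow p G} {Y : Subgroup G}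

theorem Setup.pgroup (h : Setup p R Y) : IsPGroup p V := IsPGroup.of_card h.card

theorem Setup.le (h : Setup p R Y) : (R : Subgroup G) ≤ Y :=
  Subgroup.le_normalizer.trans (h.norm R le_rfl h.ne)

/-- Conjugating a nontrivial `p`-element inside `Y` forces membership in `Y`. -/
theorem Setup.mem_of_conj (h : Setup p R Y) {a g : G} (ha : IsPGroup p (Subgroup.zpowers a))
    (ha1 : a ≠ 1) (haY : a ∈ Y) (hgY : g * a * g⁻¹ ∈ Y) : g ∈ Y := by
  have move : ∀ b ∈ Y, IsPGroup p (Subgroup.zpowers b) →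
      ∃ y ∈ Y, y * b * y⁻¹ ∈ (R : Subgroup G) := by
    intro b hbY hb
    have hb' : IsPGroup p ((Subgroup.zpowers b).subgroupOf Y) :=
      hb.of_equiv (Subgroup.subgroupOfEquivOfLe (Subgroup.zpowers_le.2 hbY)).symm
    obtain ⟨T, hT⟩ := hb'.exists_le_sylow
    obtain ⟨y, hy⟩ := MulAction.exists_smul_eq Y T (R.subtype h.le)
    refine ⟨y, y.2, ?_⟩
    have h1 : MulAut.conj y (⟨b, hbY⟩ : Y) ∈ (y • T : Sylow p Y) :=
      Subgroup.smul_mem_pointwise_smul _ (MulAut.conj y) (T : Subgroup Y)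
        (hT (Subgroup.mem_zpowers b))
    rw [hy] at h1
    exact h1
  have hga : IsPGroup p (Subgroup.zpowers (g * a * g⁻¹)) := by
    have h1 := ha.map (MulAut.conj g).toMonoidHom
    rwa [MonoidHom.map_zpowers] at h1
  obtain ⟨y1, hy1, h1⟩ := move a haY ha
  obtain ⟨y2, hy2, h2⟩ := move _ hgY hga
  have hx : y2 * g * y1⁻¹ ∈ Y := by
    refine FusionSys.spe_mem_of_conj R h.norm (U := Subgroup.zpowers (y1 * a * y1⁻¹))
      (Subgroup.zpowers_le.2 h1) ?_ ?_
    · rw [Ne, Subgroup.zpowers_eq_bot]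
      simpa using ha1
    · rintro _ ⟨k, rfl⟩
      show y2 * g * y1⁻¹ * (y1 * a * y1⁻¹) ^ k * (y2 * g * y1⁻¹)⁻¹ ∈ _
      rw [← conj_zpow (a := y2 * g * y1⁻¹) (b := y1 * a * y1⁻¹)]
      refine zpow_mem ?_ k
      have he : y2 * g * y1⁻¹ * (y1 * a * y1⁻¹) * (y2 * g * y1⁻¹)⁻¹ =
          y2 * (g * a * g⁻¹) * y2⁻¹ := by group
      rw [he]
      exact h2
  have := Y.mul_mem (Y.mul_mem (Y.inv_mem hy2) hx) hy1
  simpa [mul_assoc] using this

/-- A `p`-subgroup meeting `Y` nontrivially lies in `Y`. -/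
theorem Setup.pgroup_le (h : Setup p R Y) {P : Subgroup G} (hP : IsPGroup p P) {a : G}
    (haP : a ∈ P) (ha1 : a ≠ 1) (haY : a ∈ Y) : P ≤ Y := by
  have : Nontrivial P := ⟨⟨⟨a, haP⟩, 1, fun e => ha1 (congrArg Subtype.val e)⟩⟩
  obtain ⟨z, hz, hz1⟩ := Subgroup.bot_or_exists_ne_one (Subgroup.center P) |>.resolve_left
    hP.bot_lt_center.ne'
  have hsub : ∀ b ∈ P, IsPGroup p (Subgroup.zpowers b) := fun b hb =>
    hP.to_le (Subgroup.zpowers_le.2 hb)
  have hzY : (z : G) ∈ Y := by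
    refine h.mem_of_conj (hsub a haP) ha1 haY ?_
    have hc := congrArg Subtype.val (Subgroup.mem_center_iff.1 hz ⟨a, haP⟩)
    simp only [Subgroup.coe_mul] at hc
    rw [← hc, mul_inv_cancel_right]
    exact haY
  intro q hq
  refine h.mem_of_conj (hsub z z.2) (fun e => hz1 (Subtype.ext e)) hzY ?_
  have hc := congrArg Subtype.val (Subgroup.mem_center_iff.1 hz ⟨q, hq⟩)
  simp only [Subgroup.coe_mul] at hc
  rw [hc, mul_inv_cancel_right]
  exact hzY

/-- Two elements stabilising a common series are in `Y` together. -/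
theorem Setup.stab_mem (h : Setup p R Y) {x y : G} {C W : Subgroup V} (hCW : C ≤ W)
    (hx : (x : MulAut V) ∈ StabSet C W) (hy : (y : MulAut V) ∈ StabSet C W) :
    IsPGroup p (Subgroup.closure {x, y}) := by
  have h1 : (Subgroup.closure {x, y}).map G.subtype ≤
      Subgroup.closure {(x : MulAut V), (y : MulAut V)} := by
    rw [MonoidHom.map_closure, Set.image_pair]
    rfl
  refine ((isPGroup_closure_stab h.five h.exp hCW
    (Set.pair_subset hx hy)).to_le h1).of_injective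
    (G.subtype.subgroupMap _) ?_
  exact fun a b e => Subtype.ext (Subtype.ext (congrArg Subtype.val e :))

/-- A transvection `t`: centre of order `p`, fixed pointwise. -/
theorem transvection_stab {t t' : MulAut V} (ht : (dl t).range ≤ (dl t).ker)
    (ht' : (dl t').range ≤ (dl t').ker) (hh : (dl t').range ≤ (dl t).ker) :
    (dl t').range ≤ (dl t').range ⊔ (dl t).range ∧
      t ∈ StabSet (dl t').range ((dl t').range ⊔ (dl t).range) ∧
      t' ∈ StabSet (dl t').range ((dl t').range ⊔ (dl t).range) := by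
  refine ⟨le_sup_left, ⟨fun c hc => mem_ker.1 (hh hc), fun w hw => ?_, fun v => ?_⟩,
    ⟨fun c hc => mem_ker.1 (ht' hc), fun w _ => ⟨w, rfl⟩, fun v => Subgroup.mem_sup_left ⟨v, rfl⟩⟩⟩
  · rw [MonoidHom.mem_ker.1 (sup_le hh ht hw)]
    exact one_mem _
  · exact Subgroup.mem_sup_right ⟨v, rfl⟩

/-- The displacement of a conjugate. -/
theorem dl_conj (g t : MulAut V) (v : V) : dl (g * t * g⁻¹) (g v) = g (dl t v) := by
  simp

theorem range_conj (g t : MulAut V) :
    (dl (g * t * g⁻¹)).range = (dl t).range.map g.toMonoidHom := by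
  ext w
  constructor
  · rintro ⟨v, rfl⟩
    refine ⟨dl t (g⁻¹ v), ⟨_, rfl⟩, ?_⟩
    show g (dl t (g⁻¹ v)) = dl (g * t * g⁻¹) v
    rw [← dl_conj]
    simp
  · rintro ⟨u, ⟨v, rfl⟩, rfl⟩
    exact ⟨g v, dl_conj g t v⟩

theorem ker_conj (g t : MulAut V) :
    (dl (g * t * g⁻¹)).ker = (dl t).ker.map g.toMonoidHom := by
  ext w
  rw [Subgroup.mem_map, mem_ker]
  constructor
  · intro hw
    refine ⟨g⁻¹ w, mem_ker.2 ?_, by simp⟩
    apply g.injective
    simpa using hw
  · rintro ⟨u, hu, rfl⟩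
    simp [mem_ker.1 hu]

theorem card_ker_range (t : MulAut V) (h : Setup p R Y) :
    Nat.card (dl t).ker * Nat.card (dl t).range = p ^ 3 := by
  rw [← Subgroup.index_ker, Subgroup.card_mul_index, h.card]

theorem card_map_aut (A : Subgroup V) (g : MulAut V) :
    Nat.card (A.map g.toMonoidHom) = Nat.card A :=
  Nat.card_congr (A.equivMapOfInjective g.toMonoidHom g.injective).toEquiv.symm

theorem card_eq_p (h : Setup p R Y) {v : V} (hv : v ≠ 1) :
    Nat.card (Subgroup.zpowers v) = p := by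
  rw [Nat.card_zpowers, orderOf_eq (h.exp v) hv]

set_option maxHeartbeats 1000000 in
/-- The Sylow subgroup has order `p`. -/
theorem Setup.sylow_card (h : Setup p R Y) : Nat.card R = p := by
  have hp := (Fact.out : p.Prime)
  by_contra hne
  obtain ⟨k, hk⟩ := R.2.exists_card_eq
  have hbig : p < Nat.card R := by
    rcases Nat.lt_or_ge k 2 with hk2 | hk2
    · interval_cases k
      · exact absurd (Subgroup.eq_bot_of_card_eq _ (by simpa using hk)) h.ne
      · exact absurd (by simpa using hk) hne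
    · rw [hk]
      exact lt_self_pow₀ hp.one_lt (by omega)
  have hVne : (⊥ : Subgroup V) ≠ ⊤ := fun e => by
    have h0 := congrArg (fun H : Subgroup V => Nat.card H) e
    simp only [Subgroup.card_bot, Subgroup.card_top, h.card] at h0
    exact (Nat.one_lt_pow (by norm_num) hp.one_lt).ne h0
  -- a fixed vector and a second one
  obtain ⟨c1, hc1, hc1R⟩ := exists_fixed_mod h.pgroup R.2 (A := ⊥)
    (fun u _ a ha => by simp [Subgroup.mem_bot.1 ha]) hVne
  have hfix1 : ∀ u ∈ (R : Subgroup G), (u : MulAut V) c1 = c1 := fun u hu =>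
    mem_ker.1 (Subgroup.mem_bot.1 (hc1R u hu))
  set A1 := Subgroup.zpowers c1 with hA1
  have hA1p : Nat.card A1 = p := card_eq_p h (fun e => hc1 (by simp [e]))
  have hA1fix : ∀ u ∈ (R : Subgroup G), A1 ≤ (dl (u : MulAut V)).ker := fun u hu =>
    Subgroup.zpowers_le.2 (mem_ker.2 (hfix1 u hu))
  have hA1top : A1 ≠ ⊤ := fun e => by
    rw [e, Subgroup.card_top, h.card] at hA1p
    exact (lt_self_pow₀ hp.one_lt (by norm_num)).ne' hA1p
  obtain ⟨a2, ha2, ha2R⟩ := exists_fixed_mod h.pgroup R.2 (A := A1)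
    (fun u hu a ha => by rw [mem_ker.1 (hA1fix u hu ha)]; exact ha) hA1top
  let φ : R →* V :=
    { toFun := fun u => dl ((u : G) : MulAut V) a2
      map_one' := by simp
      map_mul' := fun u w => by
        have e : ((u : G) : MulAut V) (dl ((w : G) : MulAut V) a2) =
            dl ((w : G) : MulAut V) a2 := mem_ker.1 (hA1fix u u.2 (ha2R w w.2))
        show a2⁻¹ * ((u : G) : MulAut V) (((w : G) : MulAut V) a2) = _
        rw [apply_eq ((w : G) : MulAut V) a2, map_mul, e, dl_apply, dl_apply]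
        ac_rfl }
  have hφ : φ.ker ≠ ⊥ := by
    intro e
    have h1 : Nat.card φ.range ≤ p := hA1p ▸ Subgroup.card_le_of_le (by
      rintro _ ⟨u, rfl⟩
      exact ha2R u u.2)
    have h2 := Subgroup.card_mul_index φ.ker
    rw [Subgroup.index_ker, e, Subgroup.card_bot, one_mul] at h2
    omega
  obtain ⟨τ0, hτ0, hτ01⟩ := (Subgroup.bot_or_exists_ne_one _).resolve_left
    (PGroup.inf_center_ne_bot R.2 φ.ker hφ)
  set τ : G := (τ0 : G) with hτdef
  have hτR : τ ∈ (R : Subgroup G) := τ0.2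
  have hτ1 : (τ : MulAut V) ≠ 1 := fun e => hτ01 (Subtype.ext (Subtype.ext e))
  have hK2 : p ^ 2 ≤ Nat.card (dl (τ : MulAut V)).ker := by
    have hlt : A1 < (dl (τ : MulAut V)).ker := lt_of_le_of_ne (hA1fix τ hτR) (fun e => ha2 (by
      rw [e]
      exact MonoidHom.mem_ker.2 hτ0.1))
    calc p ^ 2 = Nat.card A1 * p := by rw [hA1p, sq]
      _ ≤ _ := card_mul_le h.pgroup hlt
  have hrp : Nat.card (dl (τ : MulAut V)).range = p := by
    have h1 := card_ker_range (τ : MulAut V) h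
    have h2 : Nat.card (dl (τ : MulAut V)).range ≤ p := by
      refine Nat.le_of_mul_le_mul_left ?_ (pow_pos hp.pos 2)
      calc p ^ 2 * Nat.card (dl (τ : MulAut V)).range
          ≤ Nat.card (dl (τ : MulAut V)).ker * Nat.card (dl (τ : MulAut V)).range :=
            Nat.mul_le_mul_right _ hK2
        _ = p ^ 2 * p := by rw [h1]; ring
    rcases (h.pgroup.to_subgroup (dl (τ : MulAut V)).range).card_eq_or_dvd with e | e
    · exfalso
      rw [e, mul_one] at h1
      exact dl_ker_ne_top hτ1 ((Subgroup.card_eq_iff_eq_top _).1 (h1.trans h.card.symm))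
    · exact le_antisymm h2 (Nat.le_of_dvd Nat.card_pos e)
  -- the centre of `τ` is fixed by `R`
  have hcR : ∀ u ∈ (R : Subgroup G), (dl (τ : MulAut V)).range ≤ (dl (u : MulAut V)).ker := by
    intro u hu
    have hcom : (u : MulAut V) * (τ : MulAut V) = τ * u := by
      have := Subgroup.mem_center_iff.1 hτ0.2 ⟨u, hu⟩
      exact congrArg (fun z : R => ((z : G) : MulAut V)) this
    have hinv : ∀ z ∈ (R : Subgroup G), ∀ a ∈ (dl (τ : MulAut V)).range,
        (z : MulAut V) a ∈ (dl (τ : MulAut V)).range := by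
      rintro z hz _ ⟨v, rfl⟩
      have hcom' : (z : MulAut V) * (τ : MulAut V) = τ * z := by
        have := Subgroup.mem_center_iff.1 hτ0.2 ⟨z, hz⟩
        exact congrArg (fun z : R => ((z : G) : MulAut V)) this
      refine ⟨(z : MulAut V) v, ?_⟩
      have e : (τ : MulAut V) ((z : MulAut V) v) = (z : MulAut V) ((τ : MulAut V) v) :=
        (DFunLike.congr_fun hcom' v).symm
      simp [e]
    -- the fixed points on a group of order `p`
    obtain ⟨w, hw, hw1⟩ : ∃ w ∈ (dl (τ : MulAut V)).range ⊓ (dl (u : MulAut V)).ker, w ≠ 1 := by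
      let act : MulAction R (dl (τ : MulAut V)).range :=
        { smul := fun z a => ⟨((z : G) : MulAut V) a, hinv z z.2 a a.2⟩
          one_smul := fun a => rfl
          mul_smul := fun z w a => rfl }
      obtain ⟨b, hb, hb1⟩ := R.2.exists_fixed_point_of_prime_dvd_card_of_fixed_point _
        (a := (1 : (dl (τ : MulAut V)).range)) (by rw [hrp])
        (fun z => Subtype.ext (map_one ((z : G) : MulAut V)))
      exact ⟨b, ⟨b.2, mem_ker.2 (congrArg Subtype.val (hb ⟨u, hu⟩))⟩,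
        fun e => hb1 (Subtype.ext e.symm)⟩
    intro a ha
    obtain ⟨n, rfl⟩ := exists_pow_eq hrp hw.1 hw1 ha
    exact pow_mem hw.2 n
  have htr : (dl (τ : MulAut V)).range ≤ (dl (τ : MulAut V)).ker := hcR τ hτR
  have hτp : (τ : MulAut V) ^ p = 1 := pow_prime_eq_one h.five h.exp
    (C := (dl (τ : MulAut V)).range) (W := (dl (τ : MulAut V)).range)
    (fun c hc => mem_ker.1 (htr hc)) (fun w _ => ⟨w, rfl⟩) (fun v => ⟨v, rfl⟩)
  obtain ⟨g, hgY⟩ : ∃ g, g ∉ Y := by
    by_contra hall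
    push Not at hall
    exact h.proper ((Subgroup.eq_top_iff' Y).2 hall)
  have hτne : τ ≠ 1 := fun e => hτ1 (by rw [e]; rfl)
  have hτY := h.le hτR
  set τ' : G := g * τ * g⁻¹ with hτ'
  have hτ'Y : τ' ∉ Y := fun e =>
    hgY (h.mem_of_conj (R.2.to_le (Subgroup.zpowers_le.2 hτR)) hτne hτY e)
  have hr' : (dl (τ' : MulAut V)).range = (dl (τ : MulAut V)).range.map
      (g : MulAut V).toMonoidHom := range_conj _ _
  have hk' : (dl (τ' : MulAut V)).ker = (dl (τ : MulAut V)).ker.map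
      (g : MulAut V).toMonoidHom := ker_conj _ _
  have htr' : (dl (τ' : MulAut V)).range ≤ (dl (τ' : MulAut V)).ker := by
    rw [hr', hk']; exact Subgroup.map_mono htr
  have hrp' : Nat.card (dl (τ' : MulAut V)).range = p := by rw [hr', card_map_aut, hrp]
  have notP : ¬ IsPGroup p (Subgroup.closure {τ, τ'}) := fun hP =>
    hτ'Y (h.pgroup_le hP (Subgroup.subset_closure (by simp)) hτne hτY
      (Subgroup.subset_closure (by simp)))
  obtain ⟨c, hc, hc1⟩ := (Subgroup.bot_or_exists_ne_one (dl (τ : MulAut V)).range).resolve_left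
    (fun e => by rw [e, Subgroup.card_bot] at hrp; exact hp.ne_one hrp.symm)
  set c' := (g : MulAut V) c with hc'
  have hc'r : c' ∈ (dl (τ' : MulAut V)).range := by rw [hr']; exact ⟨c, hc, rfl⟩
  have hc'1 : c' ≠ 1 := fun e => hc1 ((g : MulAut V).injective (by rw [map_one]; exact e))
  have hnfix : dl (τ : MulAut V) c' ≠ 1 := by
    intro e
    obtain ⟨h1, h2, h3⟩ := transvection_stab htr htr' (fun a ha => by
      obtain ⟨n, rfl⟩ := exists_pow_eq hrp' hc'r hc'1 ha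
      exact pow_mem (MonoidHom.mem_ker.2 e) n)
    exact notP (h.stab_mem h1 h2 h3)
  have hnfix' : dl (τ' : MulAut V) c ≠ 1 := by
    intro e
    obtain ⟨h1, h2, h3⟩ := transvection_stab htr' htr (fun a ha => by
      obtain ⟨n, rfl⟩ := exists_pow_eq hrp hc hc1 ha
      exact pow_mem (MonoidHom.mem_ker.2 e) n)
    exact notP (h.stab_mem h1 h3 h2)
  obtain ⟨u, huR, hu⟩ : ∃ u ∈ (R : Subgroup G), u ∉ Subgroup.zpowers τ := by
    by_contra hall
    push Not at hall
    have h1 := Subgroup.card_le_of_le (show (R : Subgroup G) ≤ Subgroup.zpowers τ from hall)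
    rw [Nat.card_zpowers, orderOf_eq (G := G) (Subtype.ext hτp) hτne] at h1
    omega
  set w := (u : MulAut V) c' with hw
  obtain ⟨j, hj⟩ := exists_pow_eq hrp' (a := dl (τ' : MulAut V) c)
    (b := (dl (τ' : MulAut V) w)⁻¹) ⟨c, rfl⟩ hnfix' (inv_mem ⟨w, rfl⟩)
  obtain ⟨i, hi⟩ := exists_pow_eq hrp (a := dl (τ : MulAut V) c') (b := c ^ j) ⟨c', rfl⟩ hnfix
    (pow_mem hc j)
  set u' : G := u * τ ^ i with hu'
  have hu'R : u' ∈ (R : Subgroup G) := mul_mem huR (pow_mem hτR i)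
  have hu'1 : u' ≠ 1 := fun e => hu (by
    rw [eq_inv_of_mul_eq_one_left e]
    exact inv_mem (pow_mem (Subgroup.mem_zpowers τ) i))
  have hu'c : (u' : MulAut V) c' = w * c ^ j := by
    have e := pow_shift (u := (τ : MulAut V)) (v := c') (mem_ker.1 (htr ⟨c', rfl⟩))
      (apply_eq _ _) i
    show ((u : MulAut V) * (τ : MulAut V) ^ i) c' = _
    rw [MulAut.mul_apply, e, hi, map_mul, map_pow, mem_ker.1 (hcR u huR hc)]
  have hin : (u' : MulAut V) c' ∈ (dl (τ' : MulAut V)).ker := by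
    rw [MonoidHom.mem_ker, hu'c, map_mul, map_pow, hj, mul_inv_cancel]
  set τ'' : G := u' * τ' * u'⁻¹ with hτ''
  have htr'' : (dl (τ'' : MulAut V)).range ≤ (dl (τ'' : MulAut V)).ker := by
    show (dl ((u' : MulAut V) * (τ' : MulAut V) * (u' : MulAut V)⁻¹)).range ≤
      (dl ((u' : MulAut V) * (τ' : MulAut V) * (u' : MulAut V)⁻¹)).ker
    rw [range_conj, ker_conj]
    exact Subgroup.map_mono htr'
  obtain ⟨h1, h2, h3⟩ := transvection_stab htr' htr'' (by
    show (dl ((u' : MulAut V) * (τ' : MulAut V) * (u' : MulAut V)⁻¹)).range ≤ _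
    rw [range_conj]
    rintro _ ⟨a, ha, rfl⟩
    obtain ⟨n, rfl⟩ := exists_pow_eq hrp' hc'r hc'1 ha
    rw [map_pow]
    exact pow_mem hin n)
  have hP := (h.stab_mem h1 h2 h3).map (MulAut.conj g⁻¹).toMonoidHom
  have hmem := h.pgroup_le hP (a := τ)
    ⟨τ', Subgroup.subset_closure (by simp), by simp [hτ', mul_assoc]⟩ hτne hτY
    ⟨τ'', Subgroup.subset_closure (by simp), rfl⟩
  have hgu : g⁻¹ * u' * g ∈ Y := by
    refine h.mem_of_conj (R.2.to_le (Subgroup.zpowers_le.2 hτR)) hτne hτY ?_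
    have e : g⁻¹ * u' * g * τ * (g⁻¹ * u' * g)⁻¹ = g⁻¹ * τ'' * g⁻¹⁻¹ := by
      rw [hτ'', hτ']; group
    rw [e]
    simpa using hmem
  refine hgY (h.mem_of_conj ?_ ?_ hgu ?_)
  · have h1 := (R.2.to_le (Subgroup.zpowers_le.2 hu'R)).map (MulAut.conj g⁻¹).toMonoidHom
    rw [MonoidHom.map_zpowers] at h1
    have e : (MulAut.conj g⁻¹).toMonoidHom u' = g⁻¹ * u' * g := by simp
    rwa [e] at h1
  · intro e
    apply hu'1
    calc u' = g * (g⁻¹ * u' * g) * g⁻¹ := by group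
      _ = 1 := by rw [e]; simp
  · have e : g * (g⁻¹ * u' * g) * g⁻¹ = u' := by group
    rw [e]
    exact h.le hu'R

theorem Setup.exists_not_mem (h : Setup p R Y) : ∃ g, g ∉ Y := by
  by_contra hall
  push Not at hall
  exact h.proper ((Subgroup.eq_top_iff' Y).2 hall)

theorem Setup.exists_pair (h : Setup p R Y) {x : G} (hx : x ∈ (R : Subgroup G)) (hx1 : x ≠ 1) :
    ∃ g : G, ¬ IsPGroup p (Subgroup.closure {x, g * x * g⁻¹}) := by
  obtain ⟨g, hg⟩ := h.exists_not_mem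
  refine ⟨g, fun hP => hg (h.mem_of_conj (R.2.to_le (Subgroup.zpowers_le.2 hx)) hx1 (h.le hx) ?_)⟩
  exact h.pgroup_le hP (Subgroup.subset_closure (by simp)) hx1 (h.le hx)
    (Subgroup.subset_closure (by simp))

theorem Setup.gen (h : Setup p R Y) : ∃ x ∈ (R : Subgroup G), x ≠ 1 ∧ x ^ p = 1 ∧
    ∀ z ∈ (R : Subgroup G), ∃ n : ℕ, x ^ n = z := by
  obtain ⟨x, hx, hx1⟩ := (Subgroup.bot_or_exists_ne_one _).resolve_left h.ne
  refine ⟨x, hx, hx1, ?_, fun z hz => exists_pow_eq h.sylow_card hx hx1 hz⟩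
  have h1 := pow_card_eq_one' (G := (R : Subgroup G)) (x := ⟨x, hx⟩)
  rw [h.sylow_card] at h1
  exact congrArg Subtype.val h1

theorem Setup.dvd_of_pow (h : Setup p R Y) {v : V} (hv : v ≠ 1) {n : ℕ} (hn : v ^ n = 1) :
    p ∣ n := orderOf_eq (h.exp v) hv ▸ orderOf_dvd_of_pow_eq_one hn

theorem Setup.mem_of_sq (h : Setup p R Y) {A : Subgroup V} {v : V} (hv : v * v ∈ A) : v ∈ A := by
  obtain ⟨k, hk⟩ := (Fact.out : p.Prime).odd_of_ne_two (by have := h.five; omega)
  have e : v = (v * v) ^ (k + 1) := by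
    rw [← sq, ← pow_mul, show 2 * (k + 1) = p + 1 by omega, pow_succ, h.exp, one_mul]
  rw [e]
  exact pow_mem hv _

theorem stab_conj {t g : MulAut V} {C W : Subgroup V} (ht : t ∈ StabSet C W) :
    g * t * g⁻¹ ∈ StabSet (C.map g.toMonoidHom) (W.map g.toMonoidHom) := by
  refine ⟨?_, ?_, fun v => ?_⟩
  · rintro _ ⟨c, hc, rfl⟩
    simp [ht.1 c hc]
  · rintro _ ⟨w, hw, rfl⟩
    exact ⟨_, ht.2.1 w hw, (dl_conj g t w).symm⟩
  · refine ⟨_, ht.2.2 (g⁻¹ v), ?_⟩
    show g (dl t (g⁻¹ v)) = _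
    rw [← dl_conj]
    simp

/-- Inversion test homomorphism. -/
def neg (t : MulAut V) : V →* V where
  toFun v := v * t v
  map_one' := by simp
  map_mul' v w := by rw [map_mul]; ac_rfl

@[simp] theorem neg_apply (t : MulAut V) (v : V) : neg t v = v * t v := rfl

/-- The kernel of the square of the displacement. -/
abbrev ker₂ (t : MulAut V) : Subgroup V := ((dl t).comp (dl t)).ker

theorem mem_ker₂ {t : MulAut V} {v : V} : v ∈ ker₂ t ↔ dl t (dl t v) = 1 := Iff.rfl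

theorem ker_le_ker₂ (t : MulAut V) : (dl t).ker ≤ ker₂ t := fun v hv => by
  rw [mem_ker₂, MonoidHom.mem_ker.1 hv, map_one]

/-- One Jordan block: the chain of kernels. -/
structure Jordan (p : ℕ) (x : MulAut V) : Prop where
  cube : ∀ v, dl x v ∈ ker₂ x
  card₁ : Nat.card (dl x).ker = p
  card₂ : Nat.card (ker₂ x) = p ^ 2

theorem Jordan.stab {x : MulAut V} (hJ : Jordan p x) : x ∈ StabSet (dl x).ker (ker₂ x) :=
  ⟨fun _ hc => mem_ker.1 hc, fun _ hw => MonoidHom.mem_ker.2 (mem_ker₂.1 hw), hJ.cube⟩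

theorem Setup.step (h : Setup p R Y) {x : G} (hx : x ∈ (R : Subgroup G))
    (hgen : ∀ z ∈ (R : Subgroup G), ∃ n : ℕ, x ^ n = z) {A : Subgroup V}
    (hA : ∀ a ∈ A, (x : MulAut V) a ∈ A) (hA' : A ≠ ⊤) :
    ∃ v, v ∉ A ∧ dl (x : MulAut V) v ∈ A := by
  obtain ⟨v, hv, hv'⟩ := exists_fixed_mod h.pgroup R.2 (A := A) (fun u hu => by
    obtain ⟨n, rfl⟩ := hgen u hu
    intro a ha
    show ((x : MulAut V) ^ n) a ∈ A
    clear hu
    induction n with
    | zero => simpa using ha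
    | succ n ih => rw [pow_succ', MulAut.mul_apply]; exact hA _ ih) hA'
  exact ⟨v, hv, hv' x hx⟩

theorem Setup.jordan (h : Setup p R Y) {x : G} (hx : x ∈ (R : Subgroup G))
    (hgen : ∀ z ∈ (R : Subgroup G), ∃ n : ℕ, x ^ n = z) {e : V}
    (he : dl (x : MulAut V) (dl (x : MulAut V) e) ≠ 1) : Jordan p (x : MulAut V) := by
  have hp := (Fact.out : p.Prime)
  set D := dl (x : MulAut V) with hD
  have hinv₁ : ∀ a ∈ D.ker, (x : MulAut V) a ∈ D.ker := fun a ha => by
    rw [mem_ker.1 ha]; exact ha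
  have hinv₂ : ∀ a ∈ ker₂ (x : MulAut V), (x : MulAut V) a ∈ ker₂ (x : MulAut V) := fun a ha => by
    rw [apply_eq (x : MulAut V) a]
    exact mul_mem ha (ker_le_ker₂ _ (MonoidHom.mem_ker.2 (mem_ker₂.1 ha)))
  have h2top : ker₂ (x : MulAut V) ≠ ⊤ := fun e' =>
    he (mem_ker₂.1 (e' ▸ Subgroup.mem_top e))
  have h1top : D.ker ≠ ⊤ := fun e' => h2top (top_le_iff.1 (e' ▸ ker_le_ker₂ _))
  obtain ⟨v, hv, hv'⟩ := h.step hx hgen (A := D.ker) hinv₁ h1top
  have hlt12 : D.ker < ker₂ (x : MulAut V) := lt_of_le_of_ne (ker_le_ker₂ _) fun e' =>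
    hv (e' ▸ (MonoidHom.mem_ker.1 hv' : v ∈ ker₂ (x : MulAut V)))
  obtain ⟨w, hw, hw'⟩ := h.step hx hgen (A := ker₂ (x : MulAut V)) hinv₂ h2top
  obtain ⟨w0, hw0, hw0'⟩ := h.step hx hgen (A := ⊥) (fun a ha => by simp [Subgroup.mem_bot.1 ha])
    (fun e' => h1top (top_le_iff.1 (e' ▸ bot_le)))
  have hlt01 : ⊥ < D.ker := bot_lt_iff_ne_bot.2 fun e' => hw0 (e' ▸ (Subgroup.mem_bot.1 hw0' :
    w0 ∈ D.ker))
  have hlt23 : ker₂ (x : MulAut V) < ker₂ (x : MulAut V) ⊔ Subgroup.zpowers w :=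
    left_lt_sup.2 fun hle => hw (hle (Subgroup.mem_zpowers w))
  have c01 := card_mul_le h.pgroup hlt01
  have c12 := card_mul_le h.pgroup hlt12
  have c23 := card_mul_le h.pgroup hlt23
  rw [Subgroup.card_bot, one_mul] at c01
  have hup := Subgroup.card_le_of_le (le_top (a := ker₂ (x : MulAut V) ⊔ Subgroup.zpowers w))
  rw [Subgroup.card_top, h.card] at hup
  have hK2 : Nat.card (ker₂ (x : MulAut V)) ≤ p ^ 2 := Nat.le_of_mul_le_mul_right
    (c23.trans (hup.trans (le_of_eq (pow_succ p 2)))) hp.pos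
  have hK1 : Nat.card D.ker ≤ p := Nat.le_of_mul_le_mul_right
    (c12.trans (hK2.trans (le_of_eq (sq p)))) hp.pos
  have c1 : Nat.card D.ker = p := le_antisymm hK1 c01
  have c2 : Nat.card (ker₂ (x : MulAut V)) = p ^ 2 := le_antisymm hK2
    (by rw [c1, ← sq] at c12; exact c12)
  have htop : ker₂ (x : MulAut V) ⊔ Subgroup.zpowers w = ⊤ :=
    Subgroup.eq_top_of_le_card _ (by rw [h.card, pow_succ p 2, ← c2]; exact c23)
  refine ⟨fun u => ?_, c1, c2⟩
  obtain ⟨s, hs, t, ht, rfl⟩ := Subgroup.mem_sup.1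
    (htop.symm ▸ Subgroup.mem_top u : u ∈ ker₂ (x : MulAut V) ⊔ Subgroup.zpowers w)
  rw [map_mul]
  refine mul_mem (ker_le_ker₂ _ (MonoidHom.mem_ker.2 (mem_ker₂.1 hs))) ?_
  obtain ⟨n, rfl⟩ := ht
  show D (w ^ n) ∈ _
  rw [map_zpow]
  exact zpow_mem hw' n

/-- An invariant nontrivial subgroup contains the fixed line. -/
theorem Jordan.ker_le {x : MulAut V} (hJ : Jordan p x) {A : Subgroup V}
    (hA : ∀ a ∈ A, x a ∈ A) (hA' : A ≠ ⊥) : (dl x).ker ≤ A := by
  obtain ⟨a, ha, ha1⟩ := (Subgroup.bot_or_exists_ne_one A).resolve_left hA'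
  have hdA : ∀ b ∈ A, dl x b ∈ A := fun b hb => mul_mem (inv_mem hb) (hA b hb)
  obtain ⟨z, hzA, hz1, hz⟩ : ∃ z ∈ A, z ≠ 1 ∧ z ∈ (dl x).ker := by
    by_cases h1 : dl x a = 1
    · exact ⟨a, ha, ha1, h1⟩
    by_cases h2 : dl x (dl x a) = 1
    · exact ⟨_, hdA a ha, h1, h2⟩
    exact ⟨_, hdA _ (hdA a ha), h2, MonoidHom.mem_ker.2 (mem_ker₂.1 (hJ.cube a))⟩
  intro k hk
  obtain ⟨n, rfl⟩ := exists_pow_eq hJ.card₁ hz hz1 hk
  exact pow_mem hzA n

theorem swap_square {N : Subgroup V} {x y : MulAut V} (hx : ∀ v ∈ N, x v ∈ N)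
    (hy : ∀ v ∈ N, y v ∈ N) {a b : V} (hxa : (x a : V ⧸ N) = a) (hxb : (x b : V ⧸ N) = b * a)
    (hya : (y a : V ⧸ N) = a * (b : V ⧸ N)⁻¹) (hyb : (y b : V ⧸ N) = b) :
    ((x * y * x * (x * y * x)) a : V ⧸ N) = (a : V ⧸ N)⁻¹ ∧
      ((x * y * x * (x * y * x)) b : V ⧸ N) = (b : V ⧸ N)⁻¹ := by
  have cg : ∀ t : MulAut V, (∀ v ∈ N, t v ∈ N) → ∀ u v : V, (u : V ⧸ N) = v →
      (t u : V ⧸ N) = t v := fun t ht u v e => by
    rw [QuotientGroup.eq] at e ⊢
    simpa using ht _ e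
  have wa : (x (y (x a)) : V ⧸ N) = (b : V ⧸ N)⁻¹ := by
    rw [cg x hx _ _ (cg y hy _ _ hxa), cg x hx (y a) (a * b⁻¹) hya, map_mul, map_inv,
      QuotientGroup.mk_mul, QuotientGroup.mk_inv, hxa, hxb, mul_inv, mul_left_comm, mul_inv_cancel,
      mul_one]
  have wb : (x (y (x b)) : V ⧸ N) = a := by
    have e : (y (x b) : V ⧸ N) = a := by
      rw [cg y hy (x b) (b * a) hxb, map_mul, QuotientGroup.mk_mul, hya, hyb]
      rw [mul_left_comm, mul_inv_cancel, mul_one]
    rw [cg x hx _ _ e, hxa]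
  have hw : ∀ v ∈ N, (x * y * x) v ∈ N := fun v hv => hx _ (hy _ (hx _ hv))
  refine ⟨?_, ?_⟩
  · show ((x * y * x) (x (y (x a))) : V ⧸ N) = _
    rw [cg (x * y * x) hw _ b⁻¹ wa, map_inv, QuotientGroup.mk_inv]
    show (x (y (x b)) : V ⧸ N)⁻¹ = _
    rw [wb]
  · show ((x * y * x) (x (y (x b))) : V ⧸ N) = _
    rw [cg (x * y * x) hw _ a wb]
    exact wa

theorem pow_inv_mem {A : Subgroup V} {t : MulAut V} (ht : ∀ v ∈ A, t v ∈ A) :
    ∀ n : ℕ, ∀ v ∈ A, (t ^ n) v ∈ A := by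
  intro n
  induction n with
  | zero => intro v hv; simpa using hv
  | succ n ih => intro v hv; rw [pow_succ', MulAut.mul_apply]; exact ht _ (ih v hv)

theorem map_eq_of_inv {A : Subgroup V} {g : MulAut V} (hg : ∀ v ∈ A, g v ∈ A) :
    A.map g.toMonoidHom = A :=
  Subgroup.eq_of_le_of_card_ge (by rintro _ ⟨v, hv, rfl⟩; exact hg v hv) (card_map_aut A g).ge

theorem dl_mul_mem {A : Subgroup V} {s t : MulAut V} (hsA : ∀ v ∈ A, s v ∈ A)
    (hs : ∀ v, dl s v ∈ A) (ht : ∀ v, dl t v ∈ A) : ∀ v, dl (s * t) v ∈ A := fun v => by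
  have e : dl (s * t) v = dl s v * s (dl t v) := by simp [mul_assoc]
  rw [e]
  exact mul_mem (hs v) (hsA _ (ht v))

set_option maxHeartbeats 1000000 in
/-- With one Jordan block the group is irreducible. -/
theorem Setup.irreducible (h : Setup p R Y) {x : G} (hx : x ∈ (R : Subgroup G)) {e : V}
    (he : dl (x : MulAut V) (dl (x : MulAut V) e) ≠ 1) (hJ : Jordan p (x : MulAut V))
    (hR : ∀ z ∈ (R : Subgroup G), z ≠ 1 →
      dl (z : MulAut V) (dl (z : MulAut V) e) ≠ 1) {X : Subgroup V}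
    (hX : ∀ g ∈ G, ∀ v ∈ X, g v ∈ X) : X = ⊥ ∨ X = ⊤ := by
  have hp := (Fact.out : p.Prime)
  by_contra hne
  push Not at hne
  obtain ⟨hXb, hXt⟩ := hne
  set x' : MulAut V := (x : MulAut V) with hx'
  set K1 := (dl x').ker with hK1
  set K2 := ker₂ x' with hK2
  have hK12 : K1 ≤ K2 := ker_le_ker₂ x'
  have hXx : ∀ a ∈ X, x' a ∈ X := hX x' x.2
  have hK1X : K1 ≤ X := hJ.ker_le hXx hXb
  have hXK : X = K1 ∨ X = K2 := by
    by_cases hle : X ≤ K1
    · exact Or.inl (le_antisymm hle hK1X)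
    right
    obtain ⟨a, haX, ha⟩ := SetLike.not_le_iff_exists.1 hle
    obtain ⟨a', ha'X, ha'2, ha'1⟩ : ∃ a' ∈ X, a' ∈ K2 ∧ a' ∉ K1 := by
      by_cases h2 : a ∈ K2
      · exact ⟨a, haX, h2, ha⟩
      · exact ⟨dl x' a, mul_mem (inv_mem haX) (hXx a haX), hJ.cube a,
          fun e' => h2 (mem_ker₂.2 (MonoidHom.mem_ker.1 e'))⟩
    have hlt : K1 < X ⊓ K2 := lt_of_le_of_ne (le_inf hK1X hK12)
      fun e' => ha'1 (e' ▸ ⟨ha'X, ha'2⟩)
    have h1 := card_mul_le h.pgroup hlt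
    rw [hJ.card₁, ← sq] at h1
    have h2 := card_mul_le h.pgroup hXt.lt_top
    rw [Subgroup.card_top, h.card, pow_succ] at h2
    have hXle : Nat.card X ≤ p ^ 2 := Nat.le_of_mul_le_mul_right h2 hp.pos
    have e1 : X ⊓ K2 = X := Subgroup.eq_of_le_of_card_ge inf_le_left (hXle.trans h1)
    have e2 : X ⊓ K2 = K2 := Subgroup.eq_of_le_of_card_ge inf_le_right (hJ.card₂.le.trans h1)
    exact e1.symm.trans e2
  have hx1 : x ≠ 1 := fun e' => by rw [hx', e'] at he; simp at he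
  obtain ⟨g, hg⟩ := h.exists_pair hx hx1
  set g' : MulAut V := (g : MulAut V) with hg'
  set y : MulAut V := g' * x' * g'⁻¹ with hy
  have hyG : y ∈ G := G.mul_mem (G.mul_mem g.2 x.2) (G.inv_mem g.2)
  have hsy : y ∈ StabSet (K1.map g'.toMonoidHom) (K2.map g'.toMonoidHom) := stab_conj hJ.stab
  have hgX : X.map g'.toMonoidHom = X := map_eq_of_inv (hX g' g.2)
  have notser : K1.map g'.toMonoidHom = K1 → K2.map g'.toMonoidHom = K2 → False := fun e1 e2 => by
    rw [e1, e2] at hsy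
    exact hg (h.stab_mem (y := g * x * g⁻¹) hK12 hJ.stab hsy)
  have kill : ∀ k ∈ G, (∀ v ∈ X, k v = v) → (∀ v, dl k v ∈ X) → k = 1 := by
    intro k hk h1 h2
    by_contra hk1
    have hkp : (⟨k, hk⟩ : G) ^ p = 1 :=
      Subtype.ext (pow_prime_eq_one h.five h.exp (C := X) (W := X) h1 (fun w _ => h2 w) h2)
    have hP : IsPGroup p (Subgroup.zpowers (⟨k, hk⟩ : G)) := IsPGroup.of_card (n := 1) (by
      rw [Nat.card_zpowers, orderOf_eq hkp (fun e' => hk1 (congrArg Subtype.val e')), pow_one])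
    obtain ⟨T, hT⟩ := hP.exists_le_sylow
    obtain ⟨s, hs⟩ := MulAction.exists_smul_eq G T R
    have hm : MulAut.conj s (⟨k, hk⟩ : G) ∈ (s • T : Sylow p G) :=
      Subgroup.smul_mem_pointwise_smul _ (MulAut.conj s) (T : Subgroup G)
        (hT (Subgroup.mem_zpowers _))
    rw [hs] at hm
    refine hR _ hm (fun e' => hk1 (congrArg Subtype.val
      ((MulAut.conj s).injective (e'.trans (map_one _).symm)))) ?_
    show dl ((s : MulAut V) * k * (s : MulAut V)⁻¹) (dl ((s : MulAut V) * k * (s : MulAut V)⁻¹) e) = 1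
    obtain ⟨u, rfl⟩ := (s : MulAut V).surjective e
    rw [dl_conj, dl_conj, MonoidHom.mem_ker.1 (mem_ker.2 (h1 _ (h2 u))), map_one]
  have endgame : ∀ c : MulAut V, c * c = 1 → c * x' = x' * c → (neg c).ker ≠ ⊥ →
      (dl c).ker ≠ ⊥ → False := by
    intro c _ hcx hM hP
    have iP : ∀ v ∈ (dl c).ker, x' v ∈ (dl c).ker := fun v hv => mem_ker.2 (by
      rw [← MulAut.mul_apply, hcx, MulAut.mul_apply, mem_ker.1 hv])
    have iM : ∀ v ∈ (neg c).ker, x' v ∈ (neg c).ker := fun v hv => by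
      rw [MonoidHom.mem_ker, neg_apply, show c (x' v) = x' (c v) from DFunLike.congr_fun hcx v, ← map_mul]
      rw [MonoidHom.mem_ker, neg_apply] at hv
      rw [hv, map_one]
    obtain ⟨z, hz, hz1⟩ := (Subgroup.bot_or_exists_ne_one K1).resolve_left (fun e' => by
      have := hJ.card₁
      rw [← hK1, e', Subgroup.card_bot] at this
      exact hp.ne_one this.symm)
    have h1 := mem_ker.1 (hJ.ker_le iP hP hz)
    have h2 := MonoidHom.mem_ker.1 (hJ.ker_le iM hM hz)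
    rw [neg_apply, h1] at h2
    exact hz1 (Subgroup.mem_bot.1 (h.mem_of_sq (Subgroup.mem_bot.2 h2)))
  have heK2 : e ∉ K2 := fun e' => he (mem_ker₂.1 e')
  rcases hXK with rfl | rfl
  · -- an invariant line
    have hg1 : K1.map g'.toMonoidHom = K1 := hgX
    have hne2 : K2.map g'.toMonoidHom ≠ K2 := notser hg1
    rw [hg1] at hsy
    set W := K2.map g'.toMonoidHom with hW
    have hK1W : K1 ≤ W := hg1 ▸ Subgroup.map_mono hK12
    have hWcard : Nat.card W = p ^ 2 := (card_map_aut K2 g').trans hJ.card₂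
    obtain ⟨b, hbW, hb⟩ := SetLike.not_le_iff_exists.1 (show ¬ W ≤ K2 from fun hle =>
      hne2 (Subgroup.eq_of_le_of_card_ge hle (hJ.card₂.trans_le hWcard.ge)))
    set a := dl x' b with ha
    have ha2 : a ∈ K2 := hJ.cube b
    have ha1 : a ∉ K1 := fun e' => hb (mem_ker₂.2 (MonoidHom.mem_ker.1 e'))
    have haW : a ∉ W := by
      intro e'
      have hlt : K1 < K2 ⊓ W := lt_of_le_of_ne (le_inf hK12 hK1W)
        fun e'' => ha1 (e'' ▸ ⟨ha2, e'⟩)
      have h1 := card_mul_le h.pgroup hlt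
      rw [hJ.card₁, ← sq] at h1
      have e1 : K2 ⊓ W = K2 := Subgroup.eq_of_le_of_card_ge inf_le_left (hJ.card₂.le.trans h1)
      have e2 : K2 ⊓ W = W := Subgroup.eq_of_le_of_card_ge inf_le_right (hWcard.le.trans h1)
      exact hne2 (e2.symm.trans e1)
    set d := dl y a with hd
    have hdW : d ∈ W := hsy.2.2 a
    have hd1 : d ∉ K1 := by
      intro e'
      apply haW
      obtain ⟨a0, ha0⟩ := g'.surjective a
      refine ⟨a0, mem_ker₂.2 (MonoidHom.mem_ker.1 ?_), ha0⟩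
      rw [← hg1] at e'
      obtain ⟨q, hq, hq'⟩ := e'
      rw [hd, hy, ← ha0, dl_conj] at hq'
      rwa [← g'.injective hq']
    have hsup : K1 ⊔ Subgroup.zpowers d = W := by
      refine Subgroup.eq_of_le_of_card_ge (sup_le hK1W (Subgroup.zpowers_le.2 hdW)) ?_
      have h1 := card_mul_le h.pgroup (left_lt_sup.2 fun hle => hd1 (hle (Subgroup.mem_zpowers d)) :
        K1 < K1 ⊔ Subgroup.zpowers d)
      rw [hJ.card₁, ← sq] at h1
      rw [hWcard]
      exact h1
    obtain ⟨k, hk, m, hm, hkm⟩ := Subgroup.mem_sup.1 (hsup.symm ▸ hbW)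
    obtain ⟨j, hj⟩ := mem_powers_iff_mem_zpowers.2 (inv_mem hm)
    change d ^ j = m⁻¹ at hj
    set y' : MulAut V := y ^ j with hy'
    have hfixK : ∀ v ∈ K1, y' v = v := fun v hv => pow_fixed (hsy.1 v hv) j
    have hsw := swap_square (N := K1) (x := x') (y := y') hXx
      (fun v hv => by rw [hfixK v hv]; exact hv) (a := a) (b := b)
      (QuotientGroup.eq.2 (by
        have : (x' a)⁻¹ * a = (dl x' a)⁻¹ := by simp [mul_comm]
        rw [this]
        exact inv_mem (MonoidHom.mem_ker.2 (mem_ker₂.1 ha2))))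
      (by rw [← QuotientGroup.mk_mul, ha, ← apply_eq])
      (by
        rw [← QuotientGroup.mk_inv, ← QuotientGroup.mk_mul, hy',
          pow_shift₂ (hsy.1 _ (hsy.2.1 d hdW)) (apply_eq y d) (apply_eq y a) j, QuotientGroup.eq]
        have hj' : d ^ j = k * b⁻¹ := by rw [hj, ← hkm]; simp
        rw [hj', show (a * (k * b⁻¹) * dl y d ^ j.choose 2)⁻¹ * (a * b⁻¹) =
          k⁻¹ * (dl y d ^ j.choose 2)⁻¹ from
            Additive.ofMul.injective (by simp only [ofMul_mul, ofMul_inv]; abel)]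
        exact mul_mem (inv_mem hk) (inv_mem (pow_mem (hsy.2.1 d hdW) _)))
      (QuotientGroup.eq.2 (by
        rw [hy', pow_shift (hsy.1 _ (hsy.2.1 b hbW)) (apply_eq y b) j]
        rw [show (b * dl y b ^ j)⁻¹ * b = (dl y b ^ j)⁻¹ by simp [mul_comm, mul_left_comm]]
        exact inv_mem (pow_mem (hsy.2.1 b hbW) _)))
    obtain ⟨c, hcd⟩ : ∃ c, c = x' * y' * x' * (x' * y' * x') := ⟨_, rfl⟩
    rw [← hcd] at hsw
    have hcG : c ∈ G := by
      have hyG' : y' ∈ G := G.pow_mem hyG j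
      have hw : x' * y' * x' ∈ G := G.mul_mem (G.mul_mem x.2 hyG') x.2
      exact hcd ▸ G.mul_mem hw hw
    have hcK : ∀ v ∈ K1, c v = v := fun v hv => by
      simp [hcd, mem_ker.1 hv, hfixK v hv]
    let Inv : Subgroup V := K1.comap (neg c)
    have hmem : ∀ v : V, (c v : V ⧸ K1) = (v : V ⧸ K1)⁻¹ → v ∈ Inv := fun v hv => by
      show v * c v ∈ K1
      rw [← QuotientGroup.eq_one_iff, QuotientGroup.mk_mul, hv, mul_inv_cancel]
    have hK1I : K1 ≤ Inv := fun v hv => by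
      show v * c v ∈ K1
      rw [hcK v hv]; exact mul_mem hv hv
    have hItop : ∀ v, v * c v ∈ K1 := by
      have h1 := card_mul_le h.pgroup (lt_of_le_of_ne (le_inf hK12 hK1I)
        fun e' => ha1 (e' ▸ ⟨ha2, hmem a hsw.1⟩) : K1 < K2 ⊓ Inv)
      rw [hJ.card₁, ← sq] at h1
      have e1 : K2 ⊓ Inv = K2 := Subgroup.eq_of_le_of_card_ge inf_le_left (hJ.card₂.le.trans h1)
      have h2 := card_mul_le h.pgroup (lt_of_le_of_ne (inf_eq_left.1 e1)
        fun e' => hb (e'.symm ▸ hmem b hsw.2) : K2 < Inv)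
      rw [hJ.card₂, ← pow_succ, ← h.card] at h2
      intro v
      have : v ∈ Inv := (Subgroup.eq_top_of_le_card Inv h2).symm ▸ Subgroup.mem_top v
      exact this
    have hc2 : c * c = 1 := by
      refine kill _ (G.mul_mem hcG hcG) (fun v hv => by simp [hcK v hv]) fun v => ?_
      show v⁻¹ * c (c v) ∈ K1
      rw [show v⁻¹ * c (c v) = (v * c v)⁻¹ * (c v * c (c v)) from
        Additive.ofMul.injective (by simp only [ofMul_mul, ofMul_inv]; abel)]
      exact mul_mem (inv_mem (hItop v)) (hItop (c v))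
    have hcom : c * x' = x' * c := by
      refine (mul_inv_eq_one.1 ?_).symm
      refine kill _ (G.mul_mem (G.mul_mem x.2 hcG) (G.inv_mem (G.mul_mem hcG x.2))) ?_ ?_
      · intro v hv
        rw [MulAut.mul_apply, inv_fixed (show (c * x') v = v by simp [mem_ker.1 hv, hcK v hv])]
        simp [mem_ker.1 hv, hcK v hv]
      · intro w
        obtain ⟨v, rfl⟩ := (c * x').surjective w
        rw [dl_apply]
        rw [show (x' * c * (c * x')⁻¹) ((c * x') v) = x' (c v) by simp]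
        show (c (x' v))⁻¹ * x' (c v) ∈ K1
        rw [show (c (x' v))⁻¹ * x' (c v) = x' (v * c v) * (x' v * c (x' v))⁻¹ from
          Additive.ofMul.injective (by simp only [dl_apply, map_mul, map_inv, ofMul_mul, ofMul_inv]; abel)]
        exact mul_mem (hXx _ (hItop v)) (inv_mem (hItop _))
    refine endgame c hc2 hcom (fun e' => heK2 ?_) (fun e' => hXb ?_)
    · have h1 : e⁻¹ * c e ∈ (neg c).ker := by
        rw [MonoidHom.mem_ker, neg_apply, map_mul, map_inv,
          show c (c e) = e from DFunLike.congr_fun hc2 e]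
        exact Additive.ofMul.injective (by simp only [ofMul_mul, ofMul_inv, ofMul_one]; abel)
      rw [e', Subgroup.mem_bot, inv_mul_eq_one] at h1
      have h2 := hItop e
      rw [← h1] at h2
      exact hK12 (h.mem_of_sq h2)
    · exact le_bot_iff.1 fun v hv => e' ▸ mem_ker.2 (hcK v hv)
  · -- an invariant plane
    have hg2 : K2.map g'.toMonoidHom = K2 := hgX
    have hne1 : K1.map g'.toMonoidHom ≠ K1 := fun e' => notser e' hg2
    rw [hg2] at hsy
    set W := K1.map g'.toMonoidHom with hW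
    have hWcard : Nat.card W = p := (card_map_aut K1 g').trans hJ.card₁
    have hWK2 : W ≤ K2 := hg2 ▸ Subgroup.map_mono hK12
    obtain ⟨b, hbW, hb⟩ := SetLike.not_le_iff_exists.1 (show ¬ W ≤ K1 from fun hle =>
      hne1 (Subgroup.eq_of_le_of_card_ge hle (hJ.card₁.trans_le hWcard.ge)))
    have hb1 : b ≠ 1 := fun e' => hb (e' ▸ one_mem _)
    set a := dl x' b with ha
    have haK : a ∈ K1 := MonoidHom.mem_ker.2 (mem_ker₂.1 (hWK2 hbW))
    have hxb : b ∈ K2 := hWK2 hbW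
    have ha1 : a ≠ 1 := fun e' => hb (MonoidHom.mem_ker.2 e')
    set d := dl y a with hd
    have hdW : d ∈ W := hsy.2.1 a (hK12 haK)
    have hd1 : d ≠ 1 := by
      intro e'
      have haW : a ∈ W := by
        obtain ⟨a0, ha0⟩ := g'.surjective a
        refine ⟨a0, MonoidHom.mem_ker.2 (g'.injective ?_), ha0⟩
        rw [map_one, ← dl_conj, ha0]
        exact e'
      obtain ⟨n, hn⟩ := exists_pow_eq hWcard haW ha1 hbW
      exact hb (hn ▸ pow_mem haK n)
    obtain ⟨j, hj⟩ := exists_pow_eq hWcard hdW hd1 (inv_mem hbW)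
    set y' : MulAut V := y ^ j with hy'
    have hy'X : ∀ v ∈ K2, y' v ∈ K2 := pow_inv_mem (fun v hv => hX y hyG v hv) j
    have hsw := swap_square (N := (⊥ : Subgroup V)) (x := x') (y := y')
      (fun v hv => by simp [Subgroup.mem_bot.1 hv]) (fun v hv => by simp [Subgroup.mem_bot.1 hv])
      (a := a) (b := b)
      (by rw [mem_ker.1 haK])
      (by rw [← QuotientGroup.mk_mul, ha, ← apply_eq])
      (by rw [← QuotientGroup.mk_inv, ← QuotientGroup.mk_mul, hy',
        pow_shift (hsy.1 d hdW) (apply_eq y a) j, hj])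
      (by rw [hy', pow_fixed (hsy.1 b hbW) j])
    obtain ⟨c, hcd⟩ : ∃ c, c = x' * y' * x' * (x' * y' * x') := ⟨_, rfl⟩
    rw [← hcd] at hsw
    have hcG : c ∈ G := by
      have hyG' : y' ∈ G := G.pow_mem hyG j
      have hw : x' * y' * x' ∈ G := G.mul_mem (G.mul_mem x.2 hyG') x.2
      exact hcd ▸ G.mul_mem hw hw
    have hmem : ∀ v : V, (c v : V ⧸ (⊥ : Subgroup V)) = (v : V ⧸ (⊥ : Subgroup V))⁻¹ →
        v ∈ (neg c).ker := fun v hv => by
      rw [← QuotientGroup.mk_inv, QuotientGroup.eq, Subgroup.mem_bot, inv_mul_eq_one] at hv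
      rw [MonoidHom.mem_ker, neg_apply, hv, mul_inv_cancel]
    have hinv : ∀ v ∈ K2, v * c v = 1 := by
      have hlt : K1 < K2 ⊓ (neg c).ker := lt_of_le_of_ne (le_inf hK12 (fun v hv => by
          obtain ⟨n, rfl⟩ := exists_pow_eq hJ.card₁ haK ha1 hv
          exact pow_mem (hmem a hsw.1) n)) fun e' => hb (e' ▸ ⟨hxb, hmem b hsw.2⟩)
      have h1 := card_mul_le h.pgroup hlt
      rw [hJ.card₁, ← sq] at h1
      have e1 : K2 ⊓ (neg c).ker = K2 :=
        Subgroup.eq_of_le_of_card_ge inf_le_left (hJ.card₂.le.trans h1)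
      intro v hv
      exact MonoidHom.mem_ker.1 (inf_eq_left.1 e1 hv)
    have hyV : ∀ n : ℕ, ∀ v, dl (y ^ n) v ∈ K2 := by
      intro n
      induction n with
      | zero => intro v; simp
      | succ n ih => rw [pow_succ']; exact dl_mul_mem (fun v hv => hX y hyG v hv) hsy.2.2 ih
    have hcV : ∀ v, dl c v ∈ K2 := by
      have hwX : ∀ v ∈ K2, (x' * y' * x') v ∈ K2 := fun v hv => hXx _ (hy'X _ (hXx _ hv))
      have hwV : ∀ v, dl (x' * y' * x') v ∈ K2 := dl_mul_mem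
        (fun v hv => hXx _ (hy'X _ hv)) (dl_mul_mem hXx hJ.cube (hyV j)) hJ.cube
      exact hcd ▸ dl_mul_mem hwX hwV hwV
    have hc2 : c * c = 1 := by
      refine kill _ (G.mul_mem hcG hcG) (fun v hv => ?_)
        (dl_mul_mem (fun v hv => hX c hcG v hv) hcV hcV)
      have e1 := eq_inv_of_mul_eq_one_right (hinv v hv)
      rw [MulAut.mul_apply, e1, map_inv, e1, inv_inv]
    have hcom : c * x' = x' * c := by
      refine (mul_inv_eq_one.1 ?_).symm
      have hcx : c * x' ∈ G := G.mul_mem hcG x.2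
      refine kill _ (G.mul_mem (G.mul_mem x.2 hcG) (G.inv_mem hcx)) ?_ ?_
      · intro v hv
        obtain ⟨u, rfl⟩ : ∃ u, (c * x') u = v := (c * x').surjective v
        have hu : u ∈ K2 := by
          have := hX _ (G.inv_mem hcx) _ hv
          simpa using this
        rw [show (x' * c * (c * x')⁻¹) ((c * x') u) = x' (c u) by simp]
        show x' (c u) = c (x' u)
        rw [eq_inv_of_mul_eq_one_right (hinv u hu),
          eq_inv_of_mul_eq_one_right (hinv _ (hXx u hu)), map_inv]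
      · intro w
        obtain ⟨u, rfl⟩ := (c * x').surjective w
        rw [dl_apply, show (x' * c * (c * x')⁻¹) ((c * x') u) = x' (c u) by simp]
        show (c (x' u))⁻¹ * x' (c u) ∈ K2
        rw [show (c (x' u))⁻¹ * x' (c u) = x' (dl c u) * (dl c (x' u))⁻¹ from
          Additive.ofMul.injective (by simp only [dl_apply, map_mul, map_inv, ofMul_mul, ofMul_inv]; abel)]
        exact mul_mem (hXx _ (hcV u)) (inv_mem (hcV _))
    refine endgame c hc2 hcom (fun e' => ?_) (fun e' => heK2 ?_)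
    · exact hXb (le_bot_iff.1 fun v hv => e' ▸ MonoidHom.mem_ker.2 (hinv v hv))
    · have h1 : e * c e ∈ (dl c).ker := by
        rw [mem_ker, map_mul, show c (c e) = e from DFunLike.congr_fun hc2 e, mul_comm]
      rw [e', Subgroup.mem_bot] at h1
      have h2 := hcV e
      rw [dl_apply, eq_inv_of_mul_eq_one_right h1] at h2
      exact h.mem_of_sq (by simpa using inv_mem h2)

/-- The transvection case. -/
theorem Setup.transvection_case (h : Setup p R Y) {x : G} (hx : x ∈ (R : Subgroup G))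
    (hx1 : x ≠ 1) (hsq : ∀ v, dl (x : MulAut V) (dl (x : MulAut V) v) = 1) :
    ∃ y ∈ G, ∃ e1 e2 e3 : V,
      Subgroup.closure {e1, e2, e3} = ⊤ ∧
      ((x : MulAut V) e1 = e1 ∧ (x : MulAut V) e2 = e2 * e1 ∧ (x : MulAut V) e3 = e3) ∧
      (y e1 = e1 * e2 ∧ y e2 = e2 ∧ y e3 = e3) ∧
      ∀ a : ℕ, ¬ p ∣ a → ∃ b : ℕ, a * b % p = 1 ∧
        ∃ t ∈ G, t e1 = e1 ^ a ∧ t e2 = e2 ^ b ∧ t e3 = e3 := by
  have hp := (Fact.out : p.Prime)
  set x' : MulAut V := (x : MulAut V) with hx'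
  have hx'1 : x' ≠ 1 := fun e => hx1 (Subtype.ext e)
  set K := (dl x').ker with hK
  set C := (dl x').range with hC
  have htr : C ≤ K := by rintro _ ⟨v, rfl⟩; exact hsq v
  have hCb : C ≠ ⊥ := fun e => dl_ker_ne_top hx'1 ((Subgroup.eq_top_iff' _).2 fun v =>
    Subgroup.mem_bot.1 (e ▸ ⟨v, rfl⟩ : dl x' v ∈ (⊥ : Subgroup V)))
  have hprod := card_ker_range x' h
  have hCp : Nat.card C = p := by
    obtain ⟨k, hk⟩ := (h.pgroup.to_subgroup C).exists_card_eq
    have hle := Subgroup.card_le_of_le htr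
    have hmul : Nat.card C * Nat.card C ≤ p ^ 3 :=
      le_of_le_of_eq (Nat.mul_le_mul_right _ hle) hprod
    rw [hk, ← pow_add] at hmul
    have h2 := (Nat.pow_le_pow_iff_right hp.one_lt).1 hmul
    have hk1 : k ≤ 1 := by omega
    interval_cases k
    · exact absurd (Subgroup.eq_bot_of_card_eq _ (by simpa using hk)) hCb
    · simpa using hk
  have hKp : Nat.card K = p ^ 2 := by
    rw [← hC, ← hK, hCp, pow_succ p 2] at hprod
    exact Nat.eq_of_mul_eq_mul_right hp.pos hprod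
  obtain ⟨g, hg⟩ := h.exists_pair hx hx1
  set g' : MulAut V := (g : MulAut V) with hg'
  set y : MulAut V := g' * x' * g'⁻¹ with hy
  have hyG : y ∈ G := G.mul_mem (G.mul_mem g.2 x.2) (G.inv_mem g.2)
  set K' := (dl y).ker with hK'
  set C' := (dl y).range with hC'
  have hC'p : Nat.card C' = p := by
    rw [hC', hy, range_conj, card_map_aut]; exact hCp
  have hK'p : Nat.card K' = p ^ 2 := by
    rw [hK', hy, ker_conj, card_map_aut]; exact hKp
  have htr' : C' ≤ K' := by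
    rw [hC', hK', hy, range_conj, ker_conj]; exact Subgroup.map_mono htr
  obtain ⟨e1₀, he1₀, he1₀1⟩ := (Subgroup.bot_or_exists_ne_one C).resolve_left hCb
  set e2 := g' e1₀ with he2
  have he2C : e2 ∈ C' := by
    rw [hC', hy, range_conj]; exact ⟨e1₀, he1₀, rfl⟩
  have he21 : e2 ≠ 1 := fun e => he1₀1 (g'.injective (e.trans (map_one g').symm))
  have he2K : e2 ∉ K := by
    intro e
    obtain ⟨h1, h2, h3⟩ := transvection_stab (t := x') (t' := y) htr htr' (fun a ha => by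
      obtain ⟨n, rfl⟩ := exists_pow_eq hC'p he2C he21 ha
      exact pow_mem e n)
    exact hg (h.stab_mem (y := g * x * g⁻¹) h1 h2 h3)
  set e1 := dl x' e2 with he1
  have he11 : e1 ≠ 1 := fun e => he2K e
  have he1C : e1 ∈ C := ⟨e2, rfl⟩
  have he1K' : e1 ∉ K' := by
    intro e
    obtain ⟨h1, h2, h3⟩ := transvection_stab (t := y) (t' := x') htr' htr (fun a ha => by
      obtain ⟨n, rfl⟩ := exists_pow_eq hCp he1C he11 ha
      exact pow_mem e n)
    exact hg (h.stab_mem (y := g * x * g⁻¹) h1 h3 h2)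
  obtain ⟨j, hj⟩ := exists_pow_eq hC'p (a := dl y e1) ⟨e1, rfl⟩ he1K' he2C
  obtain ⟨e3, he3K, he3K', he31⟩ : ∃ e3 ∈ K, e3 ∈ K' ∧ e3 ≠ 1 := by
    by_contra hall
    push Not at hall
    have hinj : Function.Injective ((dl x').rangeRestrict.comp K'.subtype) := by
      rw [injective_iff_map_eq_one]
      intro v hv
      exact Subtype.ext (hall v (congrArg Subtype.val hv) v.2)
    have hle := Nat.card_le_card_of_injective _ hinj
    rw [hK'p, hCp] at hle
    exact absurd hle (not_le.2 (lt_self_pow₀ hp.one_lt (by norm_num)))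
  have hx'e1 : x' e1 = e1 := mem_ker.1 (htr he1C)
  have hx'e2 : x' e2 = e2 * e1 := apply_eq x' e2
  have hy'e1 : (y ^ j) e1 = e1 * e2 := by
    rw [pow_shift (mem_ker.1 (htr' ⟨e1, rfl⟩)) (apply_eq y e1) j, hj]
  have hy'e2 : (y ^ j) e2 = e2 := pow_fixed (mem_ker.1 (htr' he2C)) j
  have hy'e3 : (y ^ j) e3 = e3 := pow_fixed (mem_ker.1 he3K') j
  refine ⟨y ^ j, G.pow_mem hyG j, e1, e2, e3, ?_,
    ⟨hx'e1, hx'e2, mem_ker.1 he3K⟩, ⟨hy'e1, hy'e2, hy'e3⟩, ?_⟩
  · set H := Subgroup.closure {e1, e2, e3} with hH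
    have m1 : e1 ∈ H := Subgroup.subset_closure (by simp)
    have m2 : e2 ∈ H := Subgroup.subset_closure (by simp)
    have m3 : e3 ∈ H := Subgroup.subset_closure (by simp)
    have hCH : C ≤ H ⊓ K := fun v hv => by
      obtain ⟨n, rfl⟩ := exists_pow_eq hCp he1C he11 hv
      exact pow_mem (⟨m1, htr he1C⟩ : e1 ∈ H ⊓ K) n
    have hlt : C < H ⊓ K := lt_of_le_of_ne hCH (fun e => by
      obtain ⟨n, hn⟩ := exists_pow_eq hCp (e ▸ ⟨m3, he3K⟩ : e3 ∈ C) he31 he1C
      exact he1K' (hn ▸ pow_mem he3K' n))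
    have h1 := card_mul_le h.pgroup hlt
    rw [hCp, ← sq] at h1
    have e : H ⊓ K = K := Subgroup.eq_of_le_of_card_ge inf_le_right (hKp.le.trans h1)
    have h2 := card_mul_le h.pgroup
      (lt_of_le_of_ne (inf_eq_right.1 e) fun e' => he2K (e'.symm ▸ m2) : K < H)
    rw [hKp, ← pow_succ, ← h.card] at h2
    exact Subgroup.eq_top_of_le_card H h2
  · intro a ha
    obtain ⟨b, hb⟩ : ∃ b : ℕ, a * b % p = 1 := by
      refine ⟨((a : ZMod p)⁻¹).val, ?_⟩
      have h0 : (a : ZMod p) ≠ 0 := fun e => ha ((ZMod.natCast_eq_zero_iff a p).1 e)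
      have h1 : (((a * ((a : ZMod p)⁻¹).val : ℕ)) : ZMod p) = ((1 : ℕ) : ZMod p) := by
        push_cast
        rw [ZMod.natCast_zmod_val, mul_inv_cancel₀ h0]
      have h2 := (ZMod.natCast_eq_natCast_iff' _ _ _).1 h1
      rwa [Nat.one_mod_eq_one.2 hp.ne_one] at h2
    refine ⟨b, hb, ?_⟩
    set y' := y ^ j with hy'
    let w : ℕ → ℕ → MulAut V := fun a b => x' ^ a * (y'⁻¹) ^ b * x' ^ a
    have hwG : ∀ a b, w a b ∈ G := fun a b =>
      G.mul_mem (G.mul_mem (G.pow_mem x.2 a) (G.pow_mem (G.inv_mem (G.pow_mem hyG j)) b))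
        (G.pow_mem x.2 a)
    have hyi : y'⁻¹ e1 = e1 * e2⁻¹ := by
      apply y'.injective
      rw [MulAut.apply_inv_self, map_mul, map_inv, hy'e1, hy'e2, mul_inv_cancel_right]
    have hw : ∀ a b, a * b % p = 1 → w a b e1 = (e2⁻¹) ^ b ∧ w a b e2 = e1 ^ a ∧
        w a b e3 = e3 := by
      intro a b hab
      have hpow : ∀ v : V, v ^ (a * b) = v := fun v => by
        rw [← Nat.mod_add_div (a * b) p, hab, pow_add, pow_mul, h.exp, one_pow, mul_one, pow_one]
      have hye2 : y'⁻¹ e2 = e2 := inv_fixed hy'e2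
      have hye3 : y'⁻¹ e3 = e3 := inv_fixed hy'e3
      refine ⟨?_, ?_, ?_⟩
      · simp only [w, MulAut.mul_apply]
        rw [pow_fixed hx'e1, pow_shift (by rw [map_inv, hye2]) hyi, map_mul, map_pow, map_inv,
          pow_shift hx'e1 hx'e2, pow_fixed hx'e1, mul_inv, mul_pow,
          inv_pow (e1 ^ a), ← pow_mul, hpow]
        exact mul_inv_cancel_comm_assoc ..
      · simp only [w, MulAut.mul_apply]
        rw [pow_shift hx'e1 hx'e2, map_mul, map_pow, pow_fixed hye2, pow_shift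
          (by rw [map_inv, hye2]) hyi, mul_pow, ← pow_mul (e2⁻¹), mul_comm b a, hpow,
          mul_left_comm, mul_inv_cancel, mul_one, map_pow, pow_fixed hx'e1]
      · simp only [w, MulAut.mul_apply]
        rw [pow_fixed (mem_ker.1 he3K), pow_fixed hye3, pow_fixed (mem_ker.1 he3K)]
    obtain ⟨a1, a2, a3⟩ := hw a b hb
    obtain ⟨o1, o2, o3⟩ := hw 1 1 (by rw [one_mul, Nat.one_mod_eq_one.2 hp.ne_one])
    rw [pow_one] at o1 o2
    refine ⟨w a b * (w 1 1)⁻¹, G.mul_mem (hwG a b) (G.inv_mem (hwG 1 1)), ?_, ?_, ?_⟩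
    · conv_lhs => rw [← o2, MulAut.mul_apply, MulAut.inv_apply_self]
      exact a2
    · have e : (w 1 1)⁻¹ e2 = e1⁻¹ := by
        apply (w 1 1).injective
        rw [MulAut.apply_inv_self, map_inv, o1, inv_inv]
      rw [MulAut.mul_apply, e, map_inv, a1, inv_pow, inv_inv]
    · rw [MulAut.mul_apply, inv_fixed o3, a3]

theorem Setup.cases_comm (h : Setup p R Y) :
    ((∃ e : V, ∀ z ∈ (R : Subgroup G), z ≠ 1 →
        (z : MulAut V) (e⁻¹ * (z : MulAut V) e) ≠ e⁻¹ * (z : MulAut V) e) ∧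
      ∀ X : Subgroup V, (∀ g ∈ G, ∀ v ∈ X, g v ∈ X) → X = ⊥ ∨ X = ⊤) ∨
    ∃ x ∈ (R : Subgroup G), ∃ y ∈ G, ∃ e1 e2 e3 : V,
      Subgroup.closure {e1, e2, e3} = ⊤ ∧
      ((x : MulAut V) e1 = e1 ∧ (x : MulAut V) e2 = e2 * e1 ∧ (x : MulAut V) e3 = e3) ∧
      (y e1 = e1 * e2 ∧ y e2 = e2 ∧ y e3 = e3) ∧
      ∀ a : ℕ, ¬ p ∣ a → ∃ b : ℕ, a * b % p = 1 ∧
        ∃ t ∈ G, t e1 = e1 ^ a ∧ t e2 = e2 ^ b ∧ t e3 = e3 := by
  obtain ⟨x, hx, hx1, hxp, hgen⟩ := h.gen
  by_cases hsq : ∀ v, dl (x : MulAut V) (dl (x : MulAut V) v) = 1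
  · exact Or.inr ⟨x, hx, h.transvection_case hx hx1 hsq⟩
  push Not at hsq
  obtain ⟨e, he⟩ := hsq
  have hJ := h.jordan hx hgen he
  have hall : ∀ z ∈ (R : Subgroup G), z ≠ 1 →
      dl (z : MulAut V) (dl (z : MulAut V) e) ≠ 1 := by
    intro z hz hz1
    obtain ⟨n, rfl⟩ := hgen z hz
    set x' : MulAut V := (x : MulAut V) with hx'
    have hn : ¬ p ∣ n := fun ⟨m, hm⟩ => hz1 (by rw [hm, pow_mul, hxp, one_pow])
    have hf : x' (dl x' (dl x' e)) = dl x' (dl x' e) := mem_ker.1 (hJ.stab.2.1 _ (hJ.cube e))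
    show dl (x' ^ n) (dl (x' ^ n) e) ≠ 1
    have e1 : dl (x' ^ n) e = dl x' e ^ n * dl x' (dl x' e) ^ n.choose 2 := by
      rw [dl_apply (x' ^ n) e, pow_shift₂ hf (apply_eq x' (dl x' e)) (apply_eq x' e) n, mul_assoc,
        inv_mul_cancel_left]
    have e2 : dl (x' ^ n) (dl x' e) = dl x' (dl x' e) ^ n := by
      rw [dl_apply (x' ^ n) (dl x' e), pow_shift hf (apply_eq x' (dl x' e)) n, inv_mul_cancel_left]
    have e3 : dl (x' ^ n) (dl x' (dl x' e)) = 1 := by
      rw [dl_apply (x' ^ n), pow_fixed hf n, inv_mul_cancel]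
    rw [e1, map_mul, map_pow, map_pow, e2, e3, one_pow, mul_one, ← pow_mul]
    intro hd
    rcases (Fact.out : p.Prime).dvd_mul.1 (h.dvd_of_pow he hd) with h1 | h1 <;> exact hn h1
  refine Or.inl ⟨⟨e, fun z hz hz1 heq => hall z hz hz1 ?_⟩,
    fun X hX => h.irreducible hx he hJ hall hX⟩
  exact MonoidHom.mem_ker.1 (mem_ker.2 heq)

end Embedded

end LinAux

universe u

variable {p : ℕ} [Fact p.Prime] {V : Type u} [Group V] [Finite V] {G : Subgroup (MulAut V)}

/-- A Sylow `p`-subgroup of such a subgroup of `GL(3,p)` has order `p`. -/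
theorem lin_sylow_card (hp : 5 ≤ p) (hexp : ∀ v : V, v ^ p = 1) (hcomm : ∀ a b : V, a * b = b * a)
    (hcard : Nat.card V = p ^ 3) (R : Sylow p G) (hR : (R : Subgroup G) ≠ ⊥) {Y : Subgroup G}
    (hY : Y ≠ ⊤)
    (hN : ∀ Q ≤ (R : Subgroup G), Q ≠ ⊥ → Subgroup.normalizer (Q : Set G) ≤ Y) :
    Nat.card R = p := by
  let : CommGroup V := { ‹Group V› with mul_comm := hcomm }
  exact LinAux.Setup.sylow_card (R := R) (Y := Y) ⟨hp, hexp, hcard, hR, hY, hN⟩

/-- Either a single Jordan block and irreducible, or a transvection configuration. -/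
theorem lin_cases (hp : 5 ≤ p) (hexp : ∀ v : V, v ^ p = 1) (hcomm : ∀ a b : V, a * b = b * a)
    (hcard : Nat.card V = p ^ 3) (R : Sylow p G) (hR : (R : Subgroup G) ≠ ⊥) {Y : Subgroup G}
    (hY : Y ≠ ⊤)
    (hN : ∀ Q ≤ (R : Subgroup G), Q ≠ ⊥ → Subgroup.normalizer (Q : Set G) ≤ Y) :
    ((∃ e : V, ∀ x ∈ (R : Subgroup G), x ≠ 1 →
        (x : MulAut V) (e⁻¹ * (x : MulAut V) e) ≠ e⁻¹ * (x : MulAut V) e) ∧
      ∀ X : Subgroup V, (∀ g ∈ G, ∀ v ∈ X, g v ∈ X) → X = ⊥ ∨ X = ⊤) ∨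
    ∃ x ∈ (R : Subgroup G), ∃ y ∈ G, ∃ e1 e2 e3 : V,
      Subgroup.closure {e1, e2, e3} = ⊤ ∧
      ((x : MulAut V) e1 = e1 ∧ (x : MulAut V) e2 = e2 * e1 ∧ (x : MulAut V) e3 = e3) ∧
      (y e1 = e1 * e2 ∧ y e2 = e2 ∧ y e3 = e3) ∧
      ∀ a : ℕ, ¬ p ∣ a → ∃ b : ℕ, a * b % p = 1 ∧
        ∃ t ∈ G, t e1 = e1 ^ a ∧ t e2 = e2 ^ b ∧ t e3 = e3 := by
  let : CommGroup V := { ‹Group V› with mul_comm := hcomm }
  exact LinAux.Setup.cases_comm (R := R) (Y := Y) ⟨hp, hexp, hcard, hR, hY, hN⟩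

end Cfsg.Agent.FusRankThree
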