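import Cfsg.Agent.FusRankThree.Frame

/-!
# Automorphisms of the frame group (S5180)

Automorphisms act on the quotient by the centre, in coordinates `ZMod p × ZMod p`.
-/

set_option autoImplicit false

open Cfsg

namespace Cfsg.Agent.FusRankThree

universe u

namespace Base

variable {p : ℕ} [hp : Fact p.Prime] {Q : Type u} [Group Q] [Finite Q] {e1 e2 e3 x : Q}
  (B : Base p e1 e2 e3 x)
include B

theorem one_central (q : Q) : Commute e1 q := by
  have h : (⊤ : Subgroup Q) ≤ Subgroup.centralizer {e1} := by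
    rw [← B.gen, Subgroup.closure_le]
    rintro y (rfl | rfl | rfl | rfl) <;> rw [SetLike.mem_coe, Subgroup.mem_centralizer_singleton_iff]
    · exact B.c12.eq.symm
    · exact B.c13.eq.symm
    · exact B.c1x.eq.symm
  exact (Subgroup.mem_centralizer_singleton_iff.1 (h (Subgroup.mem_top q))).symm

theorem three_central (q : Q) : Commute e3 q := by
  have h : (⊤ : Subgroup Q) ≤ Subgroup.centralizer {e3} := by
    rw [← B.gen, Subgroup.closure_le]
    rintro y (rfl | rfl | rfl | rfl) <;> rw [SetLike.mem_coe, Subgroup.mem_centralizer_singleton_iff]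
    · exact B.c13.eq
    · exact B.c23.eq
    · exact B.c3x.eq.symm
  exact (Subgroup.mem_centralizer_singleton_iff.1 (h (Subgroup.mem_top q))).symm

/-- The coordinates of an element in the quotient by `⟨e1, e3⟩`. -/
noncomputable def co (q : Q) : ZMod p × ZMod p :=
  ((((B.exists_norm q).choose_spec.choose : ℤ) : ZMod p),
    (((B.exists_norm q).choose_spec.choose_spec.choose_spec.choose : ℕ) : ZMod p))

theorem co_eq (hx1 : x ^ p = 1) (i j k : ℤ) (t : ℕ) :
    B.co (wrd e1 e2 e3 i j k * x ^ t) = ((j : ZMod p), (t : ZMod p)) := by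
  have h := (B.exists_norm
    (wrd e1 e2 e3 i j k * x ^ t)).choose_spec.choose_spec.choose_spec.choose_spec
  have ht := B.norm_congr h
  have hxt := zpow_congr hx1 (i := (t : ℤ))
    (j := ((B.exists_norm (wrd e1 e2 e3 i j k * x ^ t)).choose_spec.choose_spec.choose_spec.choose : ℤ))
    (by exact_mod_cast ht)
  rw [zpow_natCast, zpow_natCast] at hxt
  rw [← hxt, mul_left_inj] at h
  exact Prod.ext (B.wrd_inj h).2.1.symm ht.symm

theorem co_mul (hx1 : x ^ p = 1) (q r : Q) : B.co (q * r) = B.co q + B.co r := by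
  obtain ⟨i, j, k, t, rfl⟩ := B.exists_norm q
  obtain ⟨i', j', k', t', rfl⟩ := B.exists_norm r
  have e : wrd e1 e2 e3 i j k * x ^ t * (wrd e1 e2 e3 i' j' k' * x ^ t') =
      wrd e1 e2 e3 (i + (i' + j' * t)) (j + j') (k + k') * x ^ (t + t') := by
    calc wrd e1 e2 e3 i j k * x ^ t * (wrd e1 e2 e3 i' j' k' * x ^ t')
        = wrd e1 e2 e3 i j k * (x ^ t * wrd e1 e2 e3 i' j' k' * (x ^ t)⁻¹) * (x ^ t * x ^ t') := by
          group
      _ = _ := by rw [B.x_conj, B.wrd_mul, ← pow_add]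
  rw [e, B.co_eq hx1, B.co_eq hx1, B.co_eq hx1, Prod.mk_add_mk]
  push_cast
  rfl

theorem co_one (hx1 : x ^ p = 1) : B.co 1 = 0 := by
  have := B.co_mul hx1 1 1
  rw [one_mul] at this
  exact left_eq_add.1 this

theorem co_pow (hx1 : x ^ p = 1) (q : Q) (n : ℕ) : B.co (q ^ n) = (n : ZMod p) • B.co q := by
  induction n with
  | zero => simp [B.co_one hx1]
  | succ n ih => rw [pow_succ, B.co_mul hx1, ih, Nat.cast_succ, add_smul, one_smul]

theorem co_inv (hx1 : x ^ p = 1) (q : Q) : B.co q⁻¹ = - B.co q := by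
  have := B.co_mul hx1 q⁻¹ q
  rw [inv_mul_cancel, B.co_one hx1] at this
  exact eq_neg_of_add_eq_zero_left this.symm

theorem co_gen (hx1 : x ^ p = 1) :
    B.co e1 = 0 ∧ B.co e2 = (1, 0) ∧ B.co e3 = 0 ∧ B.co x = (0, 1) := by
  have h1 := B.co_eq hx1 1 0 0 0
  have h2 := B.co_eq hx1 0 1 0 0
  have h3 := B.co_eq hx1 0 0 1 0
  have h4 := B.co_eq hx1 0 0 0 1
  simp [wrd] at h1 h2 h3 h4
  exact ⟨h1, h2, h3, h4⟩

/-- An element with given coordinates. -/
theorem co_form (hx1 : x ^ p = 1) {q : Q} {j t : ℕ} (h : B.co q = ((j : ZMod p), (t : ZMod p))) :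
    ∃ r s : ℕ, q = e2 ^ j * x ^ t * e3 ^ r * e1 ^ s := by
  obtain ⟨i, j', k, t', rfl⟩ := B.exists_norm q
  rw [B.co_eq hx1, Prod.mk.injEq] at h
  refine ⟨((k : ZMod p)).val, ((i : ZMod p)).val, ?_⟩
  have hj : e2 ^ j' = e2 ^ j := by
    rw [← zpow_natCast e2 j]; exact zpow_congr B.q2 (by simpa using h.1)
  have hk : e3 ^ k = e3 ^ ((k : ZMod p)).val := by
    rw [← zpow_natCast]; exact zpow_congr B.q3 (by simp)
  have hi : e1 ^ i = e1 ^ ((i : ZMod p)).val := by
    rw [← zpow_natCast]; exact zpow_congr B.q1 (by simp)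
  have hxt : x ^ t' = x ^ t := by
    have := zpow_congr hx1 (i := (t' : ℤ)) (j := (t : ℤ)) (by exact_mod_cast h.2)
    simpa using this
  unfold wrd
  rw [hj, hk, hi, hxt]
  set z1 := e1 ^ ((i : ZMod p)).val
  set z3 := e3 ^ ((k : ZMod p)).val
  have c1 : ∀ w, Commute z1 w := fun w => (B.one_central w).pow_left _
  have c3 : ∀ w, Commute z3 w := fun w => (B.three_central w).pow_left _
  calc z1 * e2 ^ j * z3 * x ^ t = z1 * (e2 ^ j * (z3 * x ^ t)) := by simp only [mul_assoc]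
    _ = e2 ^ j * (z3 * x ^ t) * z1 := (c1 _).eq
    _ = e2 ^ j * x ^ t * z3 * z1 := by rw [(c3 _).eq]; simp only [mul_assoc]

theorem co_zero_form (hx1 : x ^ p = 1) {q : Q} (h : B.co q = 0) :
    ∃ r s : ℕ, q = e3 ^ r * e1 ^ s := by
  obtain ⟨r, s, hq⟩ := B.co_form hx1 (j := 0) (t := 0) (by rw [h]; simp [Prod.ext_iff])
  exact ⟨r, s, by simpa using hq⟩

theorem co_eq_zero_iff (hx1 : x ^ p = 1) {q : Q} : B.co q = 0 ↔ q ∈ Subgroup.center Q := by
  constructor
  · intro h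
    obtain ⟨r, s, rfl⟩ := B.co_zero_form hx1 h
    exact mul_mem (pow_mem (Subgroup.mem_center_iff.2 fun w => (B.three_central w).eq.symm) _)
      (pow_mem (Subgroup.mem_center_iff.2 fun w => (B.one_central w).eq.symm) _)
  · intro h
    obtain ⟨i, j, k, t, rfl⟩ := B.exists_norm q
    have hq := Subgroup.mem_center_iff.1 h
    have h1 : (j : ZMod p) = 0 := by
      have e := hq x
      have e' : x * (wrd e1 e2 e3 i j k * x ^ t) =
          x ^ 1 * wrd e1 e2 e3 i j k * (x ^ 1)⁻¹ * (x ^ t * x) := by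
        rw [pow_one, (Commute.pow_self x t).eq]; group
      rw [e', B.x_conj, ← mul_assoc, mul_assoc (wrd e1 e2 e3 i j k), ← mul_assoc, mul_left_inj,
        mul_left_inj] at e
      have := (B.wrd_inj e).1
      push_cast at this
      simpa using this
    have h2 : (t : ZMod p) = 0 := by
      have e := hq e2
      have ee : e2 = wrd e1 e2 e3 0 1 0 := by simp [wrd]
      have e' : wrd e1 e2 e3 i j k * x ^ t * e2 =
          wrd e1 e2 e3 i j k * (x ^ t * wrd e1 e2 e3 0 1 0 * (x ^ t)⁻¹) * x ^ t := by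
        rw [← ee]; group
      have e'' : ∀ w, e2 * w = wrd e1 e2 e3 0 1 0 * w := fun w => by rw [← ee]
      rw [e', B.x_conj, B.wrd_mul, e'', ← mul_assoc, B.wrd_mul, mul_left_inj] at e
      have := (B.wrd_inj e).1
      push_cast at this
      simpa using this
    rw [B.co_eq hx1, h1, h2]
    rfl

theorem mem_abelian_iff (hx1 : x ^ p = 1) {q : Q} :
    q ∈ Subgroup.closure {e1, e2, e3} ↔ (B.co q).2 = 0 := by
  constructor
  · intro h
    obtain ⟨i, j, k, rfl⟩ := B.mem_closure h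
    have := B.co_eq hx1 i j k 0
    rw [pow_zero, mul_one] at this
    rw [this]
    simp
  · intro h
    obtain ⟨i, j, k, t, rfl⟩ := B.exists_norm q
    rw [B.co_eq hx1] at h
    obtain ⟨c, rfl⟩ := (ZMod.natCast_eq_zero_iff t p).1 h
    rw [pow_mul, hx1, one_pow, mul_one]
    exact B.wrd_mem i j k

/-- The linear map induced on the quotient by the centre. -/
noncomputable def lin (α : MulAut Q) (v : ZMod p × ZMod p) : ZMod p × ZMod p :=
  v.1 • B.co (α e2) + v.2 • B.co (α x)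

theorem lin_add (α : MulAut Q) (v w : ZMod p × ZMod p) :
    B.lin α (v + w) = B.lin α v + B.lin α w := by
  simp only [lin, Prod.fst_add, Prod.snd_add, add_smul]
  abel

theorem lin_smul (α : MulAut Q) (c : ZMod p) (v : ZMod p × ZMod p) :
    B.lin α (c • v) = c • B.lin α v := by
  simp only [lin, Prod.smul_fst, Prod.smul_snd, smul_add, smul_smul, smul_eq_mul]

theorem co_apply (hx1 : x ^ p = 1) (α : MulAut Q) (q : Q) : B.co (α q) = B.lin α (B.co q) := by
  obtain ⟨g1, g2, g3, g4⟩ := B.co_gen hx1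
  have hz : ∀ z : Q, B.co z = 0 → B.co (α z) = 0 := fun z hz => (B.co_eq_zero_iff hx1).2 <|
    Subgroup.mem_center_iff.2 fun w => by
      obtain ⟨w, rfl⟩ := α.surjective w
      rw [← map_mul, ← map_mul, Subgroup.mem_center_iff.1 ((B.co_eq_zero_iff hx1).1 hz) w]
  have hq : q ∈ Subgroup.closure {e1, e2, e3, x} := B.gen ▸ Subgroup.mem_top q
  induction hq using Subgroup.closure_induction with
  | mem y hy =>
    rcases hy with rfl | rfl | rfl | rfl
    · rw [hz _ g1, g1]; simp [lin]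
    · rw [g2]; simp [lin]
    · rw [hz _ g3, g3]; simp [lin]
    · rw [g4]; simp [lin]
  | one => rw [map_one, B.co_one hx1]; simp [lin]
  | mul a b _ _ ha hb => rw [map_mul, B.co_mul hx1, B.co_mul hx1, ha, hb, B.lin_add]
  | inv a _ ha =>
    rw [map_inv, B.co_inv hx1, B.co_inv hx1, ha, ← neg_one_smul (ZMod p) (B.co a), B.lin_smul,
      neg_one_smul]

theorem lin_one (hx1 : x ^ p = 1) (v : ZMod p × ZMod p) : B.lin 1 v = v := by
  obtain ⟨g1, g2, g3, g4⟩ := B.co_gen hx1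
  simp [lin, g2, g4]

theorem lin_mul (hx1 : x ^ p = 1) (α β : MulAut Q) (v : ZMod p × ZMod p) :
    B.lin (α * β) v = B.lin α (B.lin β v) := by
  have h1 : B.co ((α * β) e2) = B.lin α (B.co (β e2)) := B.co_apply hx1 α _
  have h2 : B.co ((α * β) x) = B.lin α (B.co (β x)) := B.co_apply hx1 α _
  show B.lin (α * β) v = B.lin α (v.1 • B.co (β e2) + v.2 • B.co (β x))
  rw [B.lin_add, B.lin_smul, B.lin_smul, ← h1, ← h2]
  rfl

theorem lin_inv (hx1 : x ^ p = 1) {α : MulAut Q} {v w : ZMod p × ZMod p} (h : B.lin α v = w) :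
    B.lin α⁻¹ w = v := by
  rw [← h, ← B.lin_mul hx1, inv_mul_cancel, B.lin_one hx1]

theorem exists_fixed (hx1 : x ^ p = 1) {α : MulAut Q} (hα : ∃ m, α ^ p ^ m = 1) :
    ∃ v : ZMod p × ZMod p, v ≠ 0 ∧ B.lin α v = v := by
  obtain ⟨m, hm⟩ := hα
  have hG : IsPGroup p (Subgroup.zpowers α) := by
    rintro ⟨_, k, rfl⟩
    refine ⟨m, Subtype.ext ?_⟩
    show (α ^ k) ^ p ^ m = 1
    rw [← zpow_natCast, ← zpow_mul, mul_comm, zpow_mul, zpow_natCast, hm, one_zpow]
  let : MulAction (Subgroup.zpowers α) (ZMod p × ZMod p) :=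
    { smul := fun a v => B.lin (a : MulAut Q) v
      one_smul := fun v => B.lin_one hx1 v
      mul_smul := fun a b v => B.lin_mul hx1 a b v }
  have h0 : (0 : ZMod p × ZMod p) ∈ MulAction.fixedPoints (Subgroup.zpowers α) (ZMod p × ZMod p) :=
    fun a => by
      show B.lin (a : MulAut Q) 0 = 0
      simp [lin]
  obtain ⟨v, hv, hne⟩ := hG.exists_fixed_point_of_prime_dvd_card_of_fixed_point (ZMod p × ZMod p)
    (by rw [Nat.card_prod, Nat.card_zmod]; exact dvd_mul_right p p) h0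
  exact ⟨v, hne.symm, hv ⟨α, Subgroup.mem_zpowers α⟩⟩

/-- An automorphism of `p`-power order fixing `(r, 1)` is a transvection. -/
theorem lin_unip (hx1 : x ^ p = 1) {α : MulAut Q} (hα : ∃ m, α ^ p ^ m = 1) {r : ZMod p}
    (hr : B.lin α (r, 1) = (r, 1)) :
    ∃ c : ZMod p, ∀ v, B.lin α v = v + (c * (v.1 - r * v.2)) • ((r, 1) : ZMod p × ZMod p) := by
  obtain ⟨m, hm⟩ := hα
  set A := B.lin α (1, 0) with hA
  have hv : ∀ v : ZMod p × ZMod p, v = (v.1 - r * v.2) • ((1, 0) : ZMod p × ZMod p) +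
      v.2 • ((r, 1) : ZMod p × ZMod p) := fun v => by
    ext <;> simp [mul_comm r]
  have hlin : ∀ v, B.lin α v = (v.1 - r * v.2) • A + v.2 • ((r, 1) : ZMod p × ZMod p) := fun v => by
    conv_lhs => rw [hv v, B.lin_add, B.lin_smul, B.lin_smul, hr, ← hA]
  have hn : ∀ (n : ℕ) v, (B.lin (α ^ n) v).1 - r * (B.lin (α ^ n) v).2 =
      (A.1 - r * A.2) ^ n * (v.1 - r * v.2) := by
    intro n
    induction n with
    | zero => intro v; simp [B.lin_one hx1]
    | succ n ih =>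
      intro v
      rw [pow_succ', B.lin_mul hx1, pow_succ', mul_assoc, ← ih, hlin]
      simp only [Prod.fst_add, Prod.snd_add, Prod.smul_fst, Prod.smul_snd, smul_eq_mul]
      ring
  have h1 : A.1 - r * A.2 = 1 := by
    have := hn (p ^ m) (1, 0)
    rw [hm, B.lin_one hx1, ZMod.pow_card_pow] at this
    simpa using this.symm
  refine ⟨A.2, fun v => ?_⟩
  rw [hlin]
  ext
  · simp only [Prod.fst_add, Prod.smul_fst, smul_eq_mul]
    linear_combination (v.1 - r * v.2) * h1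
  · simp only [Prod.snd_add, Prod.smul_snd, smul_eq_mul]
    ring

/-- The stabiliser of the flag `Q > ⟨x⟩ Z > Z > ⟨e1⟩ > 1`. -/
def flag (hx1 : x ^ p = 1) : Subgroup (MulAut Q) where
  carrier := {α | α e1 = e1 ∧ (∃ t : ℤ, α e3 = e3 * e1 ^ t) ∧
    ∀ v, (B.lin α v).1 = v.1 ∧ (v.1 = 0 → B.lin α v = v)}
  one_mem' := ⟨rfl, ⟨0, by simp⟩, fun v => by simp [B.lin_one hx1]⟩
  mul_mem' := by
    rintro α β ⟨a1, ⟨t, a3⟩, av⟩ ⟨b1, ⟨t', b3⟩, bv⟩
    refine ⟨by rw [MulAut.mul_apply, b1, a1], ⟨t + t', ?_⟩, fun v => ?_⟩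
    · rw [MulAut.mul_apply, b3, map_mul, map_zpow, a1, a3, zpow_add, mul_assoc]
    · rw [B.lin_mul hx1]
      exact ⟨by rw [(av _).1, (bv v).1], fun h => by rw [(bv v).2 h, (av v).2 h]⟩
  inv_mem' := by
    rintro α ⟨a1, ⟨t, a3⟩, av⟩
    have a1' : α⁻¹ e1 = e1 := (MulEquiv.symm_apply_eq α).2 a1.symm
    refine ⟨a1', ⟨-t, (MulEquiv.symm_apply_eq α).2 ?_⟩, fun v => ?_⟩
    · rw [map_mul, map_zpow, a1, a3, mul_assoc, ← zpow_add, add_neg_cancel, zpow_zero, mul_one]
    · have e : B.lin α (B.lin α⁻¹ v) = v := by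
        rw [← B.lin_mul hx1, mul_inv_cancel, B.lin_one hx1]
      have h1 : (B.lin α⁻¹ v).1 = v.1 := by
        conv_rhs => rw [← e, (av _).1]
      refine ⟨h1, fun h => ?_⟩
      exact B.lin_inv hx1 ((av v).2 h)

theorem flag_apply (hx1 : x ^ p = 1) {α : MulAut Q} (hα : α ∈ B.flag hx1) (v : ZMod p × ZMod p) :
    B.lin α v = (v.1, v.2 + v.1 * (B.co (α e2)).2) := by
  obtain ⟨-, -, av⟩ := hα
  obtain ⟨g1, g2, g3, g4⟩ := B.co_gen hx1
  have e : v = v.1 • ((1, 0) : ZMod p × ZMod p) + (0, v.2) := by ext <;> simp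
  conv_lhs => rw [e, B.lin_add, B.lin_smul, (av (0, v.2)).2 rfl, ← g2, ← B.co_apply hx1]
  have h1 : (B.co (α e2)).1 = 1 := by
    rw [B.co_apply hx1, (av _).1, g2]
  ext <;> simp [h1, add_comm]

theorem flag_pow (hx1 : x ^ p = 1) {α : MulAut Q} (hα : α ∈ B.flag hx1) (n : ℕ) :
    B.co ((α ^ n) e2) = (1, (n : ZMod p) * (B.co (α e2)).2) := by
  obtain ⟨g1, g2, g3, g4⟩ := B.co_gen hx1
  induction n with
  | zero => simp [g2]
  | succ n ih =>
    rw [pow_succ', MulAut.mul_apply, B.co_apply hx1, ih, B.flag_apply hx1 hα]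
    ext <;> push_cast <;> ring

theorem flag_pgroup (hp5 : 5 ≤ p) (hx1 : x ^ p = 1) {α : MulAut Q} (hα : α ∈ B.flag hx1) :
    α ^ p ^ 2 = 1 := by
  obtain ⟨a1, ⟨t, a3⟩, -⟩ := id hα
  have hδ : α ^ p ∈ B.flag hx1 := pow_mem hα p
  set δ := α ^ p with hδdef
  have d1 : δ e1 = e1 := hδ.1
  have d3 : δ e3 = e3 := by
    have key : ∀ n : ℕ, (α ^ n) e3 = e3 * e1 ^ ((n : ℤ) * t) := by
      intro n
      induction n with
      | zero => simp
      | succ n ih =>
        rw [pow_succ', MulAut.mul_apply, ih, map_mul, map_zpow, a1, a3, mul_assoc, ← zpow_add]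
        congr 2
        push_cast
        ring
    rw [hδdef, key, zpow_mul, zpow_natCast, B.q1, one_zpow, mul_one]
  have dco : ∀ q, B.co (δ q) = B.co q := fun q => by
    rw [B.co_apply hx1, B.flag_apply hx1 hδ, hδdef, B.flag_pow hx1 hα]
    simp
  have hfix : ∀ z, B.co z = 0 → δ z = z := fun z hz => by
    obtain ⟨r, s, rfl⟩ := B.co_zero_form hx1 hz
    rw [map_mul, map_pow, map_pow, d1, d3]
  have : δ ^ p = 1 := by
    refine MulEquiv.ext fun q => ?_
    set z := q⁻¹ * δ q with hz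
    have hz0 : δ z = z := hfix z (by rw [hz, B.co_mul hx1, B.co_inv hx1, dco, neg_add_cancel])
    have key : ∀ n : ℕ, (δ ^ n) q = q * z ^ n := by
      intro n
      induction n with
      | zero => simp
      | succ n ih =>
        rw [pow_succ', MulAut.mul_apply, ih, map_mul, map_pow, hz0, pow_succ', ← mul_assoc, hz]
        group
    rw [key, B.exp_p hp5 hx1, mul_one]
    rfl
  rw [sq, pow_mul]
  exact this

theorem conj_mem_flag (hx1 : x ^ p = 1) (q : Q) : MulAut.conj q ∈ B.flag hx1 := by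
  refine ⟨?_, ⟨0, ?_⟩, fun v => ?_⟩
  · rw [MulAut.conj_apply, ← (B.one_central q).eq, mul_inv_cancel_right]
  · rw [MulAut.conj_apply, ← (B.three_central q).eq, mul_inv_cancel_right, zpow_zero, mul_one]
  · have : B.lin (MulAut.conj q) v = v := by
      obtain ⟨g1, g2, g3, g4⟩ := B.co_gen hx1
      have hc : ∀ w, B.co (MulAut.conj q w) = B.co w := fun w => by
        rw [MulAut.conj_apply, B.co_mul hx1, B.co_mul hx1, B.co_inv hx1]; abel
      rw [lin, hc, hc, g2, g4]
      ext <;> simp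
    rw [this]
    exact ⟨rfl, fun _ => rfl⟩

variable {β : MulAut Q} {a b : ℕ}

theorem lin_torus (hx1 : x ^ p = 1) (T : Torus p e1 e2 e3 x β a b) (hbx : β x = x ^ (a * a))
    (v : ZMod p × ZMod p) : B.lin β v = ((b : ZMod p) * v.1, (a : ZMod p) ^ 2 * v.2) := by
  obtain ⟨g1, g2, g3, g4⟩ := B.co_gen hx1
  rw [lin, T.b2, hbx, B.co_pow hx1, B.co_pow hx1, g2, g4]
  ext <;> simp [mul_comm, sq]

/-- The frame with another element outside `⟨e1, e2, e3⟩`. -/
theorem replace (hp5 : 5 ≤ p) (hx1 : x ^ p = 1) (i j k : ℤ) :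
    Base p e1 e2 e3 (wrd e1 e2 e3 i j k * x) := by
  have hw : wrd e1 e2 e3 i j k * e2 = e2 * wrd e1 e2 e3 i j k := by
    have ee : e2 = wrd e1 e2 e3 0 1 0 := by simp [wrd]
    have e'' : ∀ w, e2 * w = wrd e1 e2 e3 0 1 0 * w := fun w => by rw [← ee]
    have e''' : ∀ w, w * e2 = w * wrd e1 e2 e3 0 1 0 := fun w => by rw [← ee]
    rw [e'', e''', B.wrd_mul, B.wrd_mul, add_comm i, add_comm j, add_comm k]
  refine ⟨B.q1, B.q2, B.q3, B.c12, B.c13, B.c23, B.one_central _, B.three_central _, ?_, B.ind,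
    ?_, fun h => B.hx ?_, ?_⟩
  · calc wrd e1 e2 e3 i j k * x * e2 * (wrd e1 e2 e3 i j k * x)⁻¹
        = wrd e1 e2 e3 i j k * (x * e2 * x⁻¹) * (wrd e1 e2 e3 i j k)⁻¹ := by group
      _ = (wrd e1 e2 e3 i j k * e2) * e1 * (wrd e1 e2 e3 i j k)⁻¹ := by rw [B.hxe]; group
      _ = e2 * (wrd e1 e2 e3 i j k * e1) * (wrd e1 e2 e3 i j k)⁻¹ := by rw [hw]; group
      _ = e2 * e1 := by rw [← (B.one_central _).eq]; group
  · refine eq_top_iff.2 (le_of_eq_of_le B.gen.symm ((Subgroup.closure_le _).2 ?_))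
    have hle : Subgroup.closure {e1, e2, e3} ≤
        Subgroup.closure {e1, e2, e3, wrd e1 e2 e3 i j k * x} :=
      Subgroup.closure_mono (by simp [Set.subset_def])
    rintro y (rfl | rfl | rfl | hy)
    · exact Subgroup.subset_closure (by simp)
    · exact Subgroup.subset_closure (by simp)
    · exact Subgroup.subset_closure (by simp)
    · rw [Set.mem_singleton_iff] at hy
      rw [hy]
      have h := mul_mem (inv_mem (hle (B.wrd_mem i j k)))
        (Subgroup.subset_closure (k := {e1, e2, e3, wrd e1 e2 e3 i j k * x})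
          (Set.mem_insert_of_mem _ (Set.mem_insert_of_mem _ (Set.mem_insert_of_mem _ rfl))))
      simpa using h
  · have := mul_mem (inv_mem (B.wrd_mem i j k)) h
    simpa using this
  · rw [B.exp_p hp5 hx1]
    exact one_mem _

/-- The torus normalises the flag. -/
theorem torus_flag (hx1 : x ^ p = 1) (T : Torus p e1 e2 e3 x β a b) (hbx : β x = x ^ (a * a))
    {α : MulAut Q} (hα : α ∈ B.flag hx1) :
    β * α * β⁻¹ ∈ B.flag hx1 ∧
      B.co ((β * α * β⁻¹) e2) = (1, (a : ZMod p) ^ 3 * (B.co (α e2)).2) := by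
  obtain ⟨g1, g2, g3, g4⟩ := B.co_gen hx1
  obtain ⟨a1, ⟨t, a3⟩, -⟩ := id hα
  have hab : (a : ZMod p) * (b : ZMod p) = 1 := by exact_mod_cast T.hab
  have hlin : ∀ v : ZMod p × ZMod p, B.lin (β * α * β⁻¹) v =
      (v.1, v.2 + (a : ZMod p) ^ 3 * (B.co (α e2)).2 * v.1) := fun v => by
    have hi : B.lin β⁻¹ v = ((a : ZMod p) * v.1, (b : ZMod p) ^ 2 * v.2) := by
      refine B.lin_inv hx1 ?_
      rw [B.lin_torus hx1 T hbx]
      ext <;> dsimp only
      · linear_combination v.1 * hab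
      · linear_combination (v.2 * ((a : ZMod p) * b + 1)) * hab
    rw [B.lin_mul hx1, B.lin_mul hx1, hi, B.flag_apply hx1 hα, B.lin_torus hx1 T hbx]
    ext <;> dsimp only
    · linear_combination v.1 * hab
    · linear_combination (v.2 * ((a : ZMod p) * b + 1)) * hab
  refine ⟨⟨?_, ⟨(a : ℤ) * t, ?_⟩, fun v => ?_⟩, ?_⟩
  · have h : β⁻¹ e1 = e1 ^ b := (MulEquiv.symm_apply_eq β).2 (by
      rw [map_pow, T.b1, ← pow_mul, ← zpow_natCast]
      conv_lhs => rw [← zpow_one e1]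
      exact zpow_congr B.q1 (by push_cast; exact hab.symm))
    rw [MulAut.mul_apply, MulAut.mul_apply, h, map_pow, a1, map_pow, T.b1, ← pow_mul, ← zpow_natCast]
    conv_rhs => rw [← zpow_one e1]
    exact zpow_congr B.q1 (by push_cast; exact hab)
  · have h : β⁻¹ e3 = e3 := (MulEquiv.symm_apply_eq β).2 T.b3.symm
    rw [MulAut.mul_apply, MulAut.mul_apply, h, a3, map_mul, map_zpow, T.b3, T.b1, ← zpow_natCast,
      ← zpow_mul]
  · rw [hlin]
    exact ⟨rfl, fun h => by ext <;> simp [h]⟩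
  · rw [B.co_apply hx1, hlin, g2]
    simp

/-- A conjugate by the torus fixes `x` modulo the centre and moves `⟨e1, e2, e3⟩`. -/
theorem exists_phi (hp5 : 5 ≤ p) (hx1 : x ^ p = 1) (T : Torus p e1 e2 e3 x β a b)
    (hbx : β x = x ^ (a * a)) {γ : MulAut Q} (hγ : ∃ m, γ ^ p ^ m = 1)
    (hγE : ∃ q ∈ Subgroup.closure {e1, e2, e3}, γ q ∉ Subgroup.closure {e1, e2, e3}) :
    ∃ n : ℕ, (β * γ * β⁻¹) ^ n * γ * ((β * γ * β⁻¹) ^ n)⁻¹ ∈ B.flag hx1 ∧
      (B.co (((β * γ * β⁻¹) ^ n * γ * ((β * γ * β⁻¹) ^ n)⁻¹) e2)).2 ≠ 0 := by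
  obtain ⟨g1, g2, g3, g4⟩ := B.co_gen hx1
  have hab : (a : ZMod p) * (b : ZMod p) = 1 := by exact_mod_cast T.hab
  obtain ⟨v, hv0, hv⟩ := B.exists_fixed hx1 hγ
  -- the fixed line is not the line of `e2`
  have hv2 : v.2 ≠ 0 := by
    intro h2
    have h1 : v.1 ≠ 0 := fun h1 => hv0 (Prod.ext h1 h2)
    obtain ⟨q, hq, hγq⟩ := hγE
    rw [B.mem_abelian_iff hx1] at hq hγq
    have e : B.co q = ((B.co q).1 * v.1⁻¹) • v := by
      ext
      · simp [mul_assoc, inv_mul_cancel₀ h1]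
      · simp [hq, h2]
    exact hγq (by rw [B.co_apply hx1, e, B.lin_smul, hv, ← e, hq])
  set r := v.1 / v.2 with hr
  have hfix : B.lin γ (r, 1) = (r, 1) := by
    have e : ((r, 1) : ZMod p × ZMod p) = v.2⁻¹ • v := by
      ext
      · simp [hr, div_eq_inv_mul]
      · simp [inv_mul_cancel₀ hv2]
    rw [e, B.lin_smul, hv]
  obtain ⟨c, hc⟩ := B.lin_unip hx1 hγ hfix
  have hc0 : c ≠ 0 := by
    rintro rfl
    obtain ⟨q, hq, hγq⟩ := hγE
    rw [B.mem_abelian_iff hx1] at hq hγq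
    exact hγq (by rw [B.co_apply hx1, hc]; simpa using hq)
  set γ' := β * γ * β⁻¹ with hγ'
  have hl : ∀ w : ZMod p × ZMod p, B.lin γ' w = w +
      (c * ((a : ZMod p) * w.1 - r * (b : ZMod p) ^ 2 * w.2)) •
        ((r * (b : ZMod p), (a : ZMod p) ^ 2) : ZMod p × ZMod p) := fun w => by
    have hi : B.lin β⁻¹ w = ((a : ZMod p) * w.1, (b : ZMod p) ^ 2 * w.2) := by
      refine B.lin_inv hx1 ?_
      rw [B.lin_torus hx1 T hbx]
      ext <;> dsimp only
      · linear_combination w.1 * hab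
      · linear_combination (w.2 * ((a : ZMod p) * b + 1)) * hab
    rw [B.lin_mul hx1, B.lin_mul hx1, hi, hc, B.lin_torus hx1 T hbx]
    ext <;> simp only [Prod.fst_add, Prod.snd_add, Prod.smul_fst, Prod.smul_snd, smul_eq_mul]
    · linear_combination w.1 * hab
    · linear_combination (w.2 * ((a : ZMod p) * b + 1)) * hab
  have hln : ∀ (n : ℕ) (w : ZMod p × ZMod p), B.lin (γ' ^ n) w = w +
      ((n : ZMod p) * c * ((a : ZMod p) * w.1 - r * (b : ZMod p) ^ 2 * w.2)) •
        ((r * (b : ZMod p), (a : ZMod p) ^ 2) : ZMod p × ZMod p) := by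
    intro n
    induction n with
    | zero => intro w; simp [B.lin_one hx1]
    | succ n ih =>
      intro w
      rw [pow_succ', B.lin_mul hx1, ih, hl]
      ext <;> simp only [Prod.fst_add, Prod.snd_add, Prod.smul_fst, Prod.smul_snd, smul_eq_mul] <;>
        push_cast
      · linear_combination -((n : ZMod p) * c * ((a : ZMod p) * w.1 - r * (b : ZMod p) ^ 2 * w.2) *
          c * (a : ZMod p) * r ^ 2 * (b : ZMod p) ^ 2) * hab
      · linear_combination -((n : ZMod p) * c * ((a : ZMod p) * w.1 - r * (b : ZMod p) ^ 2 * w.2) *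
          c * (a : ZMod p) ^ 3 * r * (b : ZMod p)) * hab
  obtain ⟨n, hn1, hn2⟩ : ∃ n : ℕ,
      (B.lin (γ' ^ n) (r, 1)).1 = 0 ∧ (B.lin (γ' ^ n) (r, 1)).2 ≠ 0 := by
    by_cases hr0 : r = 0
    · exact ⟨0, by simp [B.lin_one hx1, hr0], by simp [B.lin_one hx1]⟩
    · have hb0 : (b : ZMod p) ≠ 0 := fun h => by simp [h] at hab
      have hne : (a : ZMod p) - (b : ZMod p) ^ 2 ≠ 0 := fun h => T.ha3 (by
        linear_combination (a : ZMod p) ^ 2 * h + ((a : ZMod p) * b + 1) * hab)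
      refine ⟨(-(c * r * b * ((a : ZMod p) - (b : ZMod p) ^ 2))⁻¹).val, ?_⟩
      rw [hln, ZMod.natCast_zmod_val]
      have key := mul_inv_cancel₀ (mul_ne_zero (mul_ne_zero (mul_ne_zero hc0 hr0) hb0) hne)
      simp only [Prod.fst_add, Prod.snd_add, Prod.smul_fst, Prod.smul_snd, smul_eq_mul]
      constructor
      · linear_combination -r * key
      · intro h
        apply T.ha3
        have h' := congrArg (· * (b : ZMod p)) h
        simp only [zero_mul] at h'
        linear_combination (-(a : ZMod p)) * h' - (a : ZMod p) ^ 3 * key +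
          (1 : ZMod p) * hab
  refine ⟨n, ?_⟩
  set K := γ' ^ n
  set φ := K * γ * K⁻¹ with hφ
  have hK : ∀ w, B.lin K⁻¹ (B.lin K w) = w := fun w => B.lin_inv hx1 rfl
  have hφl : ∀ w, B.lin φ (B.lin K w) = B.lin K (B.lin γ w) := fun w => by
    rw [hφ, B.lin_mul hx1, B.lin_mul hx1, hK]
  have hx0 : B.lin φ (0, 1) = (0, 1) := by
    have e : ((0, 1) : ZMod p × ZMod p) = (B.lin K (r, 1)).2⁻¹ • B.lin K (r, 1) := by
      ext
      · simp [hn1]
      · simp [inv_mul_cancel₀ hn2]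
    rw [e, B.lin_smul, hφl, hfix]
  have hφp : ∃ m, φ ^ p ^ m = 1 := by
    obtain ⟨m, hm⟩ := hγ
    exact ⟨m, by rw [hφ, conj_pow, hm, mul_one, mul_inv_cancel]⟩
  obtain ⟨d, hd⟩ := B.lin_unip hx1 hφp hx0
  have hd' : ∀ w, B.lin φ w = (w.1, w.2 + d * w.1) := fun w => by rw [hd]; ext <;> simp
  have hd0 : d ≠ 0 := by
    rintro rfl
    obtain ⟨q, hq, hγq⟩ := hγE
    rw [B.mem_abelian_iff hx1] at hq hγq
    refine hγq ?_
    have h := hφl (B.co q)
    rw [hd'] at h
    have h' := congrArg (B.lin K⁻¹) h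
    simp only [zero_mul, add_zero, Prod.mk.eta, hK] at h'
    rw [B.co_apply hx1, ← h', hq]
  have hcx : B.co (φ x) = (0, 1) := by rw [B.co_apply hx1, g4, hd']; simp
  have hce : B.co (φ e2) = (1, d) := by rw [B.co_apply hx1, g2, hd']; simp
  have f1 : φ e1 = e1 := by
    obtain ⟨r1, s1, hx'⟩ := B.co_form hx1 (q := φ x) (j := 0) (t := 1) (by rw [hcx]; simp)
    obtain ⟨r2, s2, he'⟩ := B.co_form hx1 (q := φ e2) (j := 1) (t := d.val) (by rw [hce]; simp)
    have hz : ∀ r s : ℕ, ∀ w, Commute (e3 ^ r * e1 ^ s) w := fun r s w =>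
      ((B.three_central w).pow_left r).mul_left ((B.one_central w).pow_left s)
    rw [pow_zero, one_mul, pow_one, mul_assoc] at hx'
    rw [pow_one, mul_assoc] at he'
    have h := congrArg φ B.hxe
    rw [map_mul, map_mul, map_inv, map_mul, hx', he'] at h
    set z := e3 ^ r1 * e1 ^ s1
    set z' := e3 ^ r2 * e1 ^ s2
    have hl : x * z * (e2 * x ^ d.val * z') * (x * z)⁻¹ = e2 * x ^ d.val * z' * e1 := by
      calc x * z * (e2 * x ^ d.val * z') * (x * z)⁻¹
          = x * (z * (e2 * x ^ d.val * z') * z⁻¹) * x⁻¹ := by group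
        _ = x * (e2 * x ^ d.val * z') * x⁻¹ := by rw [(hz r1 s1 _).eq, mul_inv_cancel_right]
        _ = (x * e2 * x⁻¹) * (x * x ^ d.val * x⁻¹) * (x * z' * x⁻¹) := by group
        _ = e2 * (e1 * (x ^ d.val * z')) := by
            rw [B.hxe, ← (hz r2 s2 x).eq, mul_inv_cancel_right, (Commute.self_pow x _).eq,
              mul_inv_cancel_right]
            simp only [mul_assoc]
            rfl
        _ = _ := by rw [(B.one_central (x ^ d.val * z')).eq]; simp only [mul_assoc]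
    rw [hl] at h
    exact (mul_left_cancel h).symm
  refine ⟨⟨f1, ?_, fun w => ?_⟩, by rw [hce]; exact hd0⟩
  · obtain ⟨r3, s3, h3⟩ := B.co_zero_form hx1 (q := φ e3)
      (by rw [B.co_apply hx1, g3, hd']; simp)
    have key : ∀ m : ℕ, ∃ T : ℕ, (φ ^ m) e3 = e3 ^ (r3 ^ m) * e1 ^ T := by
      intro m
      induction m with
      | zero => exact ⟨0, by simp⟩
      | succ m ih =>
        obtain ⟨T, hT⟩ := ih
        refine ⟨s3 * r3 ^ m + T, ?_⟩
        rw [pow_succ', MulAut.mul_apply, hT, map_mul, map_pow, map_pow, f1, h3,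
          (((B.three_central (e1 ^ s3)).pow_left r3)).mul_pow, ← pow_mul, ← pow_mul, pow_succ',
          pow_add, mul_assoc]
    obtain ⟨m, hm⟩ := hφp
    obtain ⟨T, hT⟩ := key (p ^ m)
    rw [hm, MulAut.one_apply] at hT
    have h' := B.wrd_inj (i := 0) (j := 0) (k := 1) (i' := T) (j' := 0) (k' := (r3 ^ p ^ m : ℕ)) (by
      simp only [wrd, zpow_natCast, zpow_zero, zpow_one, one_mul, mul_one]
      rw [((B.one_central _).pow_left T).eq]
      exact hT)
    have hr3 : (r3 : ZMod p) = 1 := by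
      have := h'.2.2
      push_cast at this
      rwa [ZMod.pow_card_pow, eq_comm] at this
    refine ⟨s3, ?_⟩
    rw [h3, zpow_natCast, ← zpow_natCast e3 r3,
      zpow_congr B.q3 (j := 1) (by simpa using hr3), zpow_one]
  · rw [hd']
    exact ⟨rfl, fun h => by ext <;> simp [h]⟩

end Base

end Cfsg.Agent.FusRankThree
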