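import Cfsg.Agent.FusRankThree.Setup
import Cfsg.Agent.FusRankThree.FrameAut

/-!
# The transvection case with invariant Frattini subgroup (S5180)

A `p`-group `Π` of automorphisms of `N_S(E)` containing a transvection conjugate is realised in the
normalizer of a fully normalized conjugate, where `torus_core` applies.
-/

set_option autoImplicit false

open Cfsg Cfsg.FusionSystem Cfsg.Agent.FusionSys

namespace Cfsg.Agent.FusRankThree

universe u

/-- The automorphisms mapping `D` to itself. -/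
def autStab {N : Type u} [Group N] (D : Subgroup N) : Subgroup (MulAut N) where
  carrier := {α | D.map α.toMonoidHom = D}
  one_mem' := Subgroup.map_id D
  mul_mem' {α β} ha hb := by
    show D.map (α.toMonoidHom.comp β.toMonoidHom) = D
    rw [← Subgroup.map_map, hb, ha]
  inv_mem' {α} ha := by
    show D.map (α⁻¹ : MulAut N).toMonoidHom = D
    conv_lhs => rw [← ha, Subgroup.map_map]
    rw [show (α⁻¹ : MulAut N).toMonoidHom.comp α.toMonoidHom = MonoidHom.id N from
      MonoidHom.ext fun z => α.symm_apply_apply z, Subgroup.map_id]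

/-- The action of `autStab D` on `N ⧸ D`. -/
def red {N : Type u} [Group N] (D : Subgroup N) [D.Normal] : autStab D →* MulAut (N ⧸ D) where
  toFun α := QuotientGroup.congr D D (α : MulAut N) α.2
  map_one' := by
    refine MulEquiv.ext fun z => ?_
    obtain ⟨z, rfl⟩ := QuotientGroup.mk'_surjective D z
    rfl
  map_mul' a b := by
    refine MulEquiv.ext fun z => ?_
    obtain ⟨z, rfl⟩ := QuotientGroup.mk'_surjective D z
    rfl

theorem red_mk {N : Type u} [Group N] (D : Subgroup N) [D.Normal] (α : autStab D) (z : N) :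
    red D α (z : N ⧸ D) = (((α : MulAut N) z : N) : N ⧸ D) := rfl

theorem conj_mem_autStab {N : Type u} [Group N] (D : Subgroup N) [hD : D.Normal] (n : N) :
    MulAut.conj n ∈ autStab D := by
  refine le_antisymm ?_ fun d hd => ⟨n⁻¹ * d * n, by simpa using hD.conj_mem d hd n⁻¹, ?_⟩
  · rintro _ ⟨d, hd, rfl⟩
    exact hD.conj_mem d hd n
  · simp [mul_assoc]

theorem red_conj {N : Type u} [Group N] (D : Subgroup N) [D.Normal] (n : N) :
    red D ⟨MulAut.conj n, conj_mem_autStab D n⟩ = MulAut.conj (n : N ⧸ D) := by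
  refine MulEquiv.ext fun z => ?_
  obtain ⟨z, rfl⟩ := QuotientGroup.mk'_surjective D z
  rfl

set_option maxHeartbeats 1600000 in
theorem caseI_false {p : ℕ} [Fact p.Prime] (hp : 5 ≤ p) {Ω : Type u} [Group Ω] {S : Subgroup Ω}
    [Finite S] (hS : IsPGroup p S) (h3 : RankThree p S) {F : FusionSystem S} (hF : F.IsSaturated p)
    {E : Subgroup Ω} (hfull : F.IsFullyNormalized E) (D : Subgroup (normalizerIn S E)) [D.Normal]
    (hDE : ∀ d ∈ D, (d : Ω) ∈ E) (hDΦ : D ≤ frattini (normalizerIn S E))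
    {e1 e2 e3 x : normalizerIn S E ⧸ D} (B : Base p e1 e2 e3 x)
    (hEbar : ∀ n : normalizerIn S E, (n : Ω) ∈ E ↔
      (n : normalizerIn S E ⧸ D) ∈ Subgroup.closure {e1, e2, e3})
    (hx1 : x ^ p = 1) (γ β : autStab D)
    (hγF : (γ : MulAut (normalizerIn S E)) ∈ F.autGroup (normalizerIn S E))
    (hβF : (β : MulAut (normalizerIn S E)) ∈ F.autGroup (normalizerIn S E))
    (hγp : ∃ m, (γ : MulAut (normalizerIn S E)) ^ p ^ m = 1)
    (hγE : ∃ n : normalizerIn S E, (n : Ω) ∈ E ∧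
      (((γ : MulAut (normalizerIn S E)) n : normalizerIn S E) : Ω) ∉ E)
    {a b : ℕ} (T : Torus p e1 e2 e3 x (red D β) a b) (hbx : red D β x = x ^ (a * a))
    (ha5 : (a : ZMod p) ^ 5 ≠ 1) : False := by
  classical
  have hNS : normalizerIn S E ≤ S := normalizerIn_le E
  haveI : Finite (normalizerIn S E) := finite_of_le ‹_› hNS
  have hNp : IsPGroup p (normalizerIn S E) := hS.to_le hNS
  obtain ⟨g1, g2, g3, g4⟩ := B.co_gen hx1
  -- the conjugated transvection
  obtain ⟨n0, hflag, hl0⟩ := B.exists_phi hp hx1 T hbx (γ := red D γ)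
    (by obtain ⟨m, hm⟩ := hγp
        exact ⟨m, by rw [← map_pow, show γ ^ p ^ m = 1 from Subtype.ext (by simpa using hm),
          map_one]⟩)
    (by obtain ⟨n, hn, hn'⟩ := hγE
        exact ⟨(n : normalizerIn S E ⧸ D), (hEbar n).1 hn, fun h => hn' ((hEbar _).2 h)⟩)
  set φ : autStab D := (β * γ * β⁻¹) ^ n0 * γ * ((β * γ * β⁻¹) ^ n0)⁻¹ with hφ
  have hred : red D φ = (red D β * red D γ * (red D β)⁻¹) ^ n0 * red D γ *
      ((red D β * red D γ * (red D β)⁻¹) ^ n0)⁻¹ := by
    simp only [hφ, map_mul, map_pow, map_inv]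
  rw [← hred] at hflag hl0
  set l := (B.co (red D φ e2)).2 with hl
  have hφF : (φ : MulAut (normalizerIn S E)) ∈ F.autGroup (normalizerIn S E) := by
    simp only [hφ, Subgroup.coe_mul, Subgroup.coe_inv, SubmonoidClass.coe_pow]
    exact mul_mem (mul_mem (pow_mem (mul_mem (mul_mem hβF hγF) (inv_mem hβF)) _) hγF)
      (inv_mem (pow_mem (mul_mem (mul_mem hβF hγF) (inv_mem hβF)) _))
  -- the group of flag stabilisers
  set Pi : Subgroup (MulAut (normalizerIn S E)) :=
    ((B.flag hx1).comap (red D)).map (autStab D).subtype ⊓ F.autGroup (normalizerIn S E) with hPi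
  have hPi_mem : ∀ α : autStab D, red D α ∈ B.flag hx1 →
      (α : MulAut (normalizerIn S E)) ∈ F.autGroup (normalizerIn S E) → (α : MulAut _) ∈ Pi :=
    fun α h h' => ⟨⟨α, h, rfl⟩, h'⟩
  have hPi_p : IsPGroup p Pi := by
    refine FusionAux.isPGroup_of_pow_eq_one _ ?_
    rintro _ ⟨⟨α, hα, rfl⟩, -⟩
    have h1 : ∀ z, z⁻¹ * ((α ^ p ^ 2 : autStab D) : MulAut (normalizerIn S E)) z ∈
        frattini (normalizerIn S E) := fun z => hDΦ (QuotientGroup.eq.1 (by
          rw [← red_mk, map_pow, B.flag_pgroup hp hx1 hα]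
          rfl))
    obtain ⟨e, he⟩ := exists_pow_eq_one_of_stab hNp (M := ⊤) le_top
      (fun z _ => h1 z) (fun z => Subgroup.mem_top _)
    refine ⟨2 + e, ?_⟩
    rw [pow_add, pow_mul]
    simpa using he
  have hInn : ∀ n : normalizerIn S E, MulAut.conj n ∈ Pi := fun n =>
    hPi_mem ⟨_, conj_mem_autStab D n⟩ (by rw [red_conj]; exact B.conj_mem_flag hx1 _)
      (inn_le_autGroup F hNS ⟨n, rfl⟩)
  have hPi_beta : ∀ α ∈ Pi, (β : MulAut (normalizerIn S E)) * α * (β : MulAut _)⁻¹ ∈ Pi := by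
    rintro _ ⟨⟨α, hα, rfl⟩, hαF⟩
    exact hPi_mem (β * α * β⁻¹) (by rw [map_mul, map_mul, map_inv]; exact (B.torus_flag hx1 T hbx hα).1)
      (mul_mem (mul_mem hβF hαF) (inv_mem hβF))
  -- realise it in the normalizer of a fully normalized conjugate
  obtain ⟨N1, hconj, hN1⟩ := exists_fullyNormalized F hNS
  obtain ⟨e, he⟩ := (isConj_iff_exists_iso F).1 hconj
  obtain ⟨-, hFA⟩ := saturated_fullyNormalized hS hF hN1
  obtain ⟨χ, hχ, hA⟩ := exists_conj_le_autInducedBy hFA
    (hPi_p.map (MulAut.congr e).toMonoidHom)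
    ((Subgroup.map_mono inf_le_right).trans (le_of_eq (autGroup_map_congr F he)))
  set e' := e.trans χ with he'def
  have he' : IsIso F e' := he.trans ((mem_autGroup F he.le_right).1 hχ)
  have hreal : ∀ α ∈ Pi, ∃ h ∈ S, ∀ n, h * (e' n : Ω) * h⁻¹ = e' (α n) := by
    intro α hα
    obtain ⟨h, hh, hhe⟩ := mem_autInducedBy.1 (hA _ (Subgroup.mem_map_of_mem _ hα))
    refine ⟨h, hh, fun n => ?_⟩
    rw [← hhe (e' n)]
    simp [he'def, MulAut.mul_apply, autCongr_apply]
  let U : Subgroup Ω :=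
    { carrier := {h | h ∈ S ∧ ∃ α ∈ Pi, ∀ n, h * (e' n : Ω) * h⁻¹ = e' (α n)}
      one_mem' := ⟨S.one_mem, 1, Pi.one_mem, fun n => by simp⟩
      mul_mem' := by
        rintro h k ⟨hh, α, hα, he1⟩ ⟨hk, α', hα', he2⟩
        refine ⟨S.mul_mem hh hk, α * α', mul_mem hα hα', fun n => ?_⟩
        rw [MulAut.mul_apply, ← he1, ← he2]
        group
      inv_mem' := by
        rintro h ⟨hh, α, hα, he1⟩
        refine ⟨S.inv_mem hh, α⁻¹, inv_mem hα, fun n => ?_⟩
        have := he1 (α⁻¹ n)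
        rw [show α (α⁻¹ n) = n from α.apply_symm_apply n] at this
        rw [← this]
        group }
  have hUS : U ≤ S := fun h hh => hh.1
  haveI : Finite U := finite_of_le ‹_› hUS
  have hι : ∀ n, (e' n : Ω) ∈ U := fun n =>
    ⟨he'.le_right (e' n).2, MulAut.conj n, hInn n, fun m => by simp⟩
  let ι : normalizerIn S E →* U :=
    { toFun := fun n => ⟨e' n, hι n⟩
      map_one' := by simp
      map_mul' := fun m n => by simp }
  have hι_inj : Function.Injective ι := fun m n h =>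
    e'.injective (Subtype.ext (congrArg (fun z : U => (z : Ω)) h))
  -- the normalizer of the image of `E`
  have hEN : E ≤ normalizerIn S E := le_normalizerIn hfull.1
  set E1 := (E.subgroupOf (normalizerIn S E)).map (N1.subtype.comp e'.toMonoidHom) with hE1def
  have hE1conj : F.IsConj E E1 := (he'.restrict hEN).isConj
  have hE1S : E1 ≤ S := isConj_le_right hE1conj
  haveI : Finite E1 := finite_of_le ‹_› hE1S
  have hnorm : ∀ h ∈ S, ∀ α : MulAut (normalizerIn S E),
      (∀ n, h * (e' n : Ω) * h⁻¹ = e' (α n)) →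
      (∀ n : normalizerIn S E, (n : Ω) ∈ E → ((α n : normalizerIn S E) : Ω) ∈ E) →
      h ∈ normalizerIn S E1 := by
    intro h hh α hα hαE
    refine ⟨hh, Subgroup.mem_normalizer_fintype (S := (E1 : Set Ω)) ?_⟩
    rintro _ ⟨n, hn, rfl⟩
    exact ⟨α n, hαE n hn, (hα n).symm⟩
  have hN1E1 : normalizerIn S E1 = N1 := by
    haveI : Finite (normalizerIn S E1) := finite_of_le ‹_› (normalizerIn_le E1)
    refine (eq_of_le_of_card_le (fun y hy => ?_) ?_).symm
    · obtain ⟨n, hn⟩ := e'.surjective ⟨y, hy⟩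
      have hy' : y = (e' n : Ω) := by rw [hn]
      refine hnorm y (he'.le_right hy) (MulAut.conj n) (fun m => ?_) fun m hm => ?_
      · rw [hy']; simp
      · exact (Subgroup.mem_normalizer_iff.1 n.2.2 m).1 hm
    · rw [← Nat.card_congr e'.toEquiv]
      exact hfull.2 E1 hE1conj
  have hrange : ∀ h : U, ∀ α : MulAut (normalizerIn S E),
      (∀ n, (h : Ω) * (e' n : Ω) * (h : Ω)⁻¹ = e' (α n)) →
      (∀ n : normalizerIn S E, (n : Ω) ∈ E → ((α n : normalizerIn S E) : Ω) ∈ E) →
      ∃ n, ι n = h := by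
    intro h α hα hαE
    have hh := hnorm h h.2.1 α hα hαE
    rw [hN1E1] at hh
    exact ⟨e'.symm ⟨h, hh⟩, Subtype.ext (by simp [ι])⟩
  have hpres : ∀ α : autStab D, red D α ∈ B.flag hx1 → (B.co (red D α e2)).2 = 0 →
      ∀ n : normalizerIn S E, (n : Ω) ∈ E →
        (((α : MulAut (normalizerIn S E)) n : normalizerIn S E) : Ω) ∈ E := by
    intro α hα h0 n hn
    rw [hEbar, B.mem_abelian_iff hx1] at hn ⊢
    rw [← red_mk, B.co_apply hx1, B.flag_apply hx1 hα, h0]
    simpa using hn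
  -- the extension of the torus element
  have hβ1 : N1.subtype.comp (MulAut.congr e' (β : MulAut (normalizerIn S E))).toMonoidHom ∈
      F.Hom N1 := autGroup_mem_hom F he'.le_right (autCongr_mem F he' hβF)
  obtain ⟨ψ, hψ, hψe, -, -⟩ := receptive_extend (saturated_receptive_of_fullyNormalized hS hF hN1)
    hβ1 (range_subtype_comp _)
  have hUext : U ≤ extender S N1
      (N1.subtype.comp (MulAut.congr e' (β : MulAut (normalizerIn S E))).toMonoidHom) := by
    rintro h ⟨hh, α, hα, he1⟩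
    obtain ⟨k, hk, hk'⟩ := hreal _ (hPi_beta α hα)
    refine mem_extender.2 ⟨hh, mem_normalizer_of_conj_eq (MulAut.congr e' α) (fun y => ?_), k, hk,
      fun y hy => ?_⟩
    · obtain ⟨n, rfl⟩ := e'.surjective y
      rw [autCongr_apply, MulEquiv.symm_apply_apply]
      exact (he1 n).symm
    · obtain ⟨n, rfl⟩ := e'.surjective y
      have e2' : (⟨h * (e' n : Ω) * h⁻¹, hy⟩ : N1) = e' (α n) := Subtype.ext (he1 n)
      show ((MulAut.congr e' (β : MulAut (normalizerIn S E)) _ : N1) : Ω) =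
        k * ((MulAut.congr e' (β : MulAut (normalizerIn S E)) (e' n) : N1) : Ω) * k⁻¹
      rw [e2', autCongr_apply, autCongr_apply, MulEquiv.symm_apply_apply,
        MulEquiv.symm_apply_apply, hk']
      simp [MulAut.mul_apply]
  have hψι : ∀ n, ψ ⟨e' n, hUext (hι n)⟩ = e' ((β : MulAut (normalizerIn S E)) n) := fun n => by
    refine (hψe (e' n)).trans ?_
    show ((MulAut.congr e' (β : MulAut (normalizerIn S E)) (e' n) : N1) : Ω) = _
    rw [autCongr_apply, MulEquiv.symm_apply_apply]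
  have hψrel : ∀ h : U, ∀ α : MulAut (normalizerIn S E),
      (∀ n, (h : Ω) * (e' n : Ω) * (h : Ω)⁻¹ = e' (α n)) →
      ∀ n, ψ ⟨h, hUext h.2⟩ * (e' n : Ω) * (ψ ⟨h, hUext h.2⟩)⁻¹ =
        e' (((β : MulAut (normalizerIn S E)) * α * (β : MulAut (normalizerIn S E))⁻¹) n) := by
    intro h α hα n
    obtain ⟨m, rfl⟩ := (β : MulAut (normalizerIn S E)).surjective n
    rw [MulAut.mul_apply, MulAut.mul_apply, show (β : MulAut (normalizerIn S E))⁻¹
      ((β : MulAut (normalizerIn S E)) m) = m from MulEquiv.symm_apply_apply _ m,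
      ← hψι, ← hψι, ← map_inv, ← map_mul, ← map_mul]
    exact congrArg ψ (Subtype.ext (hα m))
  have hψU : ∀ h : U, ψ ⟨h, hUext h.2⟩ ∈ U := by
    intro h
    obtain ⟨α, hα, he1⟩ := h.2.2
    exact ⟨map_mem_S F hψ _, _, hPi_beta α hα, hψrel h α he1⟩
  let ψ₀ : U →* U := (ψ.comp (Subgroup.inclusion hUext)).codRestrict U hψU
  have hψ₀ : Function.Bijective ψ₀ := Finite.injective_iff_bijective.1 fun g k h =>
    Subgroup.inclusion_injective hUext (F.injective_of_mem hψ (congrArg (fun z : U => (z : Ω)) h))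
  let βU : MulAut U := MulEquiv.ofBijective ψ₀ hψ₀
  have hβι : ∀ n, βU (ι n) = ι ((β : MulAut (normalizerIn S E)) n) := fun n => Subtype.ext (hψι n)
  -- the quotient
  set D1 := D.map ι with hD1
  haveI hD1n : D1.Normal := ⟨by
    rintro _ ⟨d, hd, rfl⟩ h
    obtain ⟨α, hα, he1⟩ := h.2.2
    obtain ⟨⟨α, -, rfl⟩, -⟩ := id hα
    refine ⟨(α : MulAut (normalizerIn S E)) d, α.2.le ⟨d, hd, rfl⟩, Subtype.ext ?_⟩
    exact (he1 d).symm⟩
  have hD1β : D1.map βU.toMonoidHom = D1 := by
    rw [hD1, Subgroup.map_map, show βU.toMonoidHom.comp ι = ι.comp (β : MulAut _).toMonoidHom from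
      MonoidHom.ext hβι, ← Subgroup.map_map, β.2]
  let f : normalizerIn S E ⧸ D →* U ⧸ D1 := QuotientGroup.map D D1 ι (Subgroup.le_comap_map _ _)
  have hf : Function.Injective f := by
    rw [injective_iff_map_eq_one]
    intro q hq
    obtain ⟨n, rfl⟩ := QuotientGroup.mk'_surjective D q
    obtain ⟨d, hd, hdn⟩ := (QuotientGroup.eq_one_iff (ι n)).1 hq
    exact (QuotientGroup.eq_one_iff n).2 (hι_inj hdn ▸ hd)
  let βT : MulAut (U ⧸ D1) := QuotientGroup.congr D1 D1 βU hD1β
  have hβf : ∀ q, βT (f q) = f (red D β q) := by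
    intro q
    obtain ⟨n, rfl⟩ := QuotientGroup.mk'_surjective D q
    show ((βU (ι n) : U) : U ⧸ D1) = ((ι _ : U) : U ⧸ D1)
    rw [hβι]
    rfl
  -- the element
  obtain ⟨h₀, hh₀S, hh₀⟩ := hreal _ (hPi_mem φ hflag hφF)
  let h : U := ⟨h₀, hh₀S, _, hPi_mem φ hflag hφF, hh₀⟩
  have hH : ∀ q, (h : U ⧸ D1) * f q * (h : U ⧸ D1)⁻¹ = f (red D φ q) := by
    intro q
    obtain ⟨n, rfl⟩ := QuotientGroup.mk'_surjective D q
    show ((h * ι n * h⁻¹ : U) : U ⧸ D1) = ((ι _ : U) : U ⧸ D1)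
    rw [show h * ι n * h⁻¹ = ι ((φ : MulAut (normalizerIn S E)) n) from Subtype.ext (hh₀ n)]
    rfl
  have himg : (Subgroup.closure {e1, e2, e3, x}).map f =
      Subgroup.closure {f e1, f e2, f e3, f x} := by
    rw [MonoidHom.map_closure]
    simp [Set.image_insert_eq]
  have hrf : ∀ n, ((ι n : U) : U ⧸ D1) ∈ Subgroup.closure {f e1, f e2, f e3, f x} := fun n => by
    rw [← himg]
    exact ⟨(n : normalizerIn S E ⧸ D), by rw [B.gen]; exact Subgroup.mem_top _, rfl⟩
  have hh : (h : U ⧸ D1) ∉ Subgroup.closure {f e1, f e2, f e3, f x} := by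
    rw [← himg]
    rintro ⟨q, -, hq⟩
    have hc : red D φ = MulAut.conj q := by
      refine MulEquiv.ext fun r => hf ?_
      rw [← hH, ← hq, MulAut.conj_apply, map_mul, map_mul, map_inv]
    refine hl0 ?_
    rw [hl, hc, MulAut.conj_apply, B.co_mul hx1, B.co_mul hx1, B.co_inv hx1, add_neg_cancel_comm,
      g2]
  have hhp : (h : U ⧸ D1) ^ p ∈ Subgroup.closure {f e1, f e2, f e3, f x} := by
    have hrel : ∀ m : ℕ, ∀ n, ((h ^ m : U) : Ω) * (e' n : Ω) * ((h ^ m : U) : Ω)⁻¹ =
        e' (((φ ^ m : autStab D) : MulAut (normalizerIn S E)) n) := by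
      intro m
      induction m with
      | zero => intro n; simp
      | succ m ih =>
        intro n
        have e1' := hh₀ (((φ ^ m : autStab D) : MulAut (normalizerIn S E)) n)
        rw [← ih] at e1'
        rw [pow_succ', pow_succ', Subgroup.coe_mul, Subgroup.coe_mul, MulAut.mul_apply, ← e1']
        simp only [h, mul_inv_rev, mul_assoc]
    have hfl : red D (φ ^ p) ∈ B.flag hx1 := by rw [map_pow]; exact pow_mem hflag p
    obtain ⟨n, hn⟩ := hrange (h ^ p) _ (hrel p) (hpres _ hfl (by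
      rw [map_pow, B.flag_pow hx1 hflag]; simp))
    rw [← QuotientGroup.mk_pow, ← hn]
    exact hrf n
  set k := a * a * a with hk
  obtain ⟨nn, hnn⟩ : ∃ n, ι n = (h ^ k)⁻¹ * βU h := by
    have hrel : ∀ m : ℕ, ∀ n, ((h ^ m : U) : Ω) * (e' n : Ω) * ((h ^ m : U) : Ω)⁻¹ =
        e' (((φ ^ m : autStab D) : MulAut (normalizerIn S E)) n) := by
      intro m
      induction m with
      | zero => intro n; simp
      | succ m ih =>
        intro n
        have e1' := hh₀ (((φ ^ m : autStab D) : MulAut (normalizerIn S E)) n)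
        rw [← ih] at e1'
        rw [pow_succ', pow_succ', Subgroup.coe_mul, Subgroup.coe_mul, MulAut.mul_apply, ← e1']
        simp only [h, mul_inv_rev, mul_assoc]
    set θ : autStab D := (φ ^ k)⁻¹ * (β * φ * β⁻¹) with hθ
    refine hrange _ (θ : MulAut (normalizerIn S E)) (fun n => ?_) ?_
    · have e1' := hrel k ((θ : MulAut (normalizerIn S E)) n)
      have e2' : ((φ ^ k : autStab D) : MulAut (normalizerIn S E)) ((θ : MulAut _) n) =
          ((β * φ * β⁻¹ : autStab D) : MulAut (normalizerIn S E)) n := by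
        rw [← MulAut.mul_apply, ← Subgroup.coe_mul, hθ, mul_inv_cancel_left]
      rw [e2'] at e1'
      have e3' : ((βU h : U) : Ω) * (e' n : Ω) * ((βU h : U) : Ω)⁻¹ =
          e' (((β * φ * β⁻¹ : autStab D) : MulAut (normalizerIn S E)) n) := hψrel h _ hh₀ n
      rw [← e3'] at e1'
      simp only [Subgroup.coe_mul, Subgroup.coe_inv, mul_inv_rev, inv_inv]
      calc _ = ((h ^ k : U) : Ω)⁻¹ * (((βU h : U) : Ω) * (e' n : Ω) * ((βU h : U) : Ω)⁻¹) *
            ((h ^ k : U) : Ω) := by group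
        _ = _ := by rw [← e1']; group
    · have hc := B.torus_flag hx1 T hbx hflag
      have hθr : red D θ = (red D φ ^ k)⁻¹ * (red D β * red D φ * (red D β)⁻¹) := by
        simp only [hθ, map_mul, map_inv, map_pow]
      refine hpres θ (by rw [hθr]; exact mul_mem (inv_mem (pow_mem hflag k)) hc.1) ?_
      rw [hθr, MulAut.mul_apply, B.co_apply hx1, hc.2, B.lin_inv hx1 (v := (1, 0)) (by
        rw [← g2, ← B.co_apply hx1, B.flag_pow hx1 hflag, ← hl, hk]
        push_cast
        ring_nf)]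
  -- exponents
  have hrf' : ∀ r s : ℕ, ∀ w, f (w * e3 ^ r * e1 ^ s) = f w * f e3 ^ r * f e1 ^ s := fun r s w => by
    simp only [map_mul, map_pow]
  obtain ⟨f1, ⟨t, f3⟩, -⟩ := id hflag
  obtain ⟨ε, μ, fx⟩ := B.co_form hx1 (q := red D φ x) (j := 0) (t := 1)
    (by rw [B.co_apply hx1, B.flag_apply hx1 hflag, g4]; simp)
  obtain ⟨r, s, f2⟩ := B.co_form hx1 (q := red D φ e2) (j := 1) (t := l.val)
    (by rw [B.co_apply hx1, g2, B.flag_apply hx1 hflag]; simp [hl])
  rw [pow_zero, one_mul, pow_one] at fx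
  rw [pow_one] at f2
  have hp' : p.Prime := Fact.out
  refine torus_core (T := U ⧸ D1) (e1 := f e1) (e2 := f e2) (e3 := f e3) (x := f x)
    (h := (h : U ⧸ D1)) (t := ((t : ZMod p)).val) (μ := μ) (ε := ε) (l := l.val) (r := r) (s := s)
    (k := k) (rankThree_of_surjective (rankThree_of_injective h3 (Subgroup.inclusion hUS)
      (Subgroup.inclusion_injective hUS)) _ (QuotientGroup.mk'_surjective D1))
    (by rw [← map_pow, B.q1, map_one]) (by rw [← map_pow, B.q2, map_one])
    (by rw [← map_pow, B.q3, map_one]) (by rw [← map_pow, hx1, map_one])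
    (B.c13.map f) (B.c12.map f) (B.c1x.map f) (B.c23.map f) (B.c3x.map f)
    (by rw [← map_inv, ← map_mul, ← map_mul, B.hxe, map_mul]) ?_ hh hhp
    (by rw [hH, f1]) ?_ (by rw [hH, fx, hrf']) ?_ (by rw [hH, f2, hrf', map_mul, map_pow])
    βT T.hab T.ha3 ha5 T.ha2 (by rw [hβf, T.b1, map_pow]) (by rw [hβf, T.b2, map_pow])
    (by rw [hβf, T.b3]) (by rw [hβf, hbx, map_pow]) (hrf nn) ?_
  · intro i j m hm
    rw [← map_zpow, ← map_zpow, ← map_zpow, ← map_mul, ← map_mul, ← map_one f] at hm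
    have hm' := hf hm
    have hxz : x ^ m = x ^ ((m : ZMod p)).val := by
      rw [← zpow_natCast]; exact zpow_congr hx1 (by simp)
    rw [hxz] at hm'
    have hc : B.co (wrd e1 e2 e3 i 0 j * x ^ ((m : ZMod p)).val) = 0 := by
      rw [show wrd e1 e2 e3 i 0 j * x ^ ((m : ZMod p)).val = 1 by simpa [wrd] using hm',
        B.co_one hx1]
    rw [B.co_eq hx1] at hc
    have hm0 : (m : ZMod p) = 0 := by simpa using hc
    rw [hm0, ZMod.val_zero, pow_zero, mul_one] at hm'
    obtain ⟨d1, -, d3⟩ := B.ind i 0 j (by simpa using hm')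
    exact ⟨d1, d3, (ZMod.intCast_zmod_eq_zero_iff_dvd m p).1 hm0⟩
  · rw [hH, f3, map_mul, ← map_pow]
    congr 2
    rw [← zpow_natCast]
    exact zpow_congr B.q1 (by simp)
  · intro hdvd
    refine hl0 ?_
    rw [← ZMod.natCast_zmod_val l, (ZMod.natCast_eq_zero_iff _ _).2 hdvd]
  · show ((βU h : U) : U ⧸ D1) = _
    rw [hnn, ← QuotientGroup.mk_pow, ← QuotientGroup.mk_mul, mul_inv_cancel_left]

end Cfsg.Agent.FusRankThree
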