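import Mathlib
import Cfsg.Agent.FusRankThree.Defs

/-!
# The weight computation for an invariant Frattini subgroup (S5180)

`T` is `U / D`: the elementary abelian `⟨e1, e2, e3⟩` is `E / D`, `N = ⟨e1, e2, e3, x⟩`, `h` is an
element outside `N` moving `E`, and `β` is the extension of a torus element.
-/

set_option autoImplicit false

open Cfsg

namespace Cfsg.Agent.FusRankThree

universe u

variable {p : ℕ} {T : Type u} [Group T]

/-- A power fixed by a further power which is not `≡ 1` is trivial. -/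
theorem pow_fixed {v : T} (hv : v ^ p = 1) (hp : p.Prime) {A : ℕ} (hA : (A : ZMod p) ≠ 1)
    (h : v ^ A = v) : v = 1 := by
  by_contra hne
  have ho : orderOf v = p := by
    haveI := Fact.mk hp
    exact orderOf_eq_prime hv hne
  refine hA ?_
  have h1 : v ^ A = v ^ 1 := by rw [h, pow_one]
  rw [pow_eq_pow_iff_modEq, ho] at h1
  exact_mod_cast (ZMod.natCast_eq_natCast_iff A 1 p).2 h1

/-- Iterating a conjugation that multiplies by a commuting element. -/
theorem conj_iterate {h v w : T} (hv : h * v * h⁻¹ = v * w) (hw : h * w * h⁻¹ = w)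
    (n : ℕ) : h ^ n * v * (h ^ n)⁻¹ = v * w ^ n := by
  induction n with
  | zero => simp
  | succ n ih =>
    calc h ^ (n + 1) * v * (h ^ (n + 1))⁻¹ = h * (h ^ n * v * (h ^ n)⁻¹) * h⁻¹ := by
          rw [pow_succ']; group
      _ = (h * v * h⁻¹) * (h * w * h⁻¹) ^ n := by
          rw [ih, conj_pow]
          group
      _ = v * w ^ (n + 1) := by rw [hv, hw, mul_assoc, ← pow_succ']

/-- The exponents of an element of `⟨e1, e2, e3, x⟩`. -/
theorem exists_form {e1 e2 e3 x : T} (c13 : Commute e1 e3) (c12 : Commute e1 e2)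
    (c1x : Commute e1 x) (c23 : Commute e2 e3) (c3x : Commute e3 x)
    (hxe : x * e2 * x⁻¹ = e2 * e1) {n : T} (hn : n ∈ Subgroup.closure {e1, e2, e3, x}) :
    ∃ i j u v : ℤ, n = e2 ^ i * (x ^ j * (e1 ^ u * e3 ^ v)) := by
  have hc : ∀ (j i : ℤ), x ^ j * e2 ^ i = e2 ^ i * (x ^ j * e1 ^ (i * j)) := by
    have h1 : ∀ i : ℤ, x * e2 ^ i * x⁻¹ = e2 ^ i * e1 ^ i := fun i => by
      rw [← conj_zpow, hxe, (c12.symm).mul_zpow]
    intro j
    induction j using Int.induction_on with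
    | zero => simp
    | succ j ih =>
      intro i
      have e : x * e2 ^ i = e2 ^ i * e1 ^ i * x := by rw [← h1 i]; group
      calc x ^ ((j : ℤ) + 1) * e2 ^ i = x ^ (j : ℤ) * (x * e2 ^ i) := by
            rw [zpow_add_one, mul_assoc]
        _ = (x ^ (j : ℤ) * e2 ^ i) * (e1 ^ i * x) := by rw [e]; group
        _ = e2 ^ i * (x ^ (j : ℤ) * (e1 ^ (i * (j : ℤ)) * (e1 ^ i * x))) := by
            rw [ih i]; group
        _ = e2 ^ i * (x ^ (j : ℤ) * (x * e1 ^ (i * ((j : ℤ) + 1)))) := by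
            rw [← mul_assoc (e1 ^ (i * (j : ℤ))), ← zpow_add, mul_add_one,
              ((c1x.zpow_left (i * (j : ℤ) + i)).eq)]
        _ = e2 ^ i * (x ^ ((j : ℤ) + 1) * e1 ^ (i * ((j : ℤ) + 1))) := by
            rw [zpow_add_one, mul_assoc]
    | pred j ih =>
      intro i
      have e : x⁻¹ * e2 ^ i = e2 ^ i * e1 ^ (-i) * x⁻¹ := by
        have e' : e2 ^ i = x⁻¹ * (e2 ^ i * e1 ^ i) * x := by rw [← h1 i]; group
        have e'' : Commute (e1 ^ i) x := c1x.zpow_left i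
        calc x⁻¹ * e2 ^ i = x⁻¹ * e2 ^ i * (x * e1 ^ i) * (x * e1 ^ i)⁻¹ := by group
          _ = x⁻¹ * (e2 ^ i * e1 ^ i) * x * (x * e1 ^ i)⁻¹ := by rw [← e''.eq]; group
          _ = e2 ^ i * e1 ^ (-i) * x⁻¹ := by rw [← e']; group
      calc x ^ (-(j : ℤ) - 1) * e2 ^ i = x ^ (-(j : ℤ)) * (x⁻¹ * e2 ^ i) := by
            rw [zpow_sub_one, mul_assoc]
        _ = (x ^ (-(j : ℤ)) * e2 ^ i) * (e1 ^ (-i) * x⁻¹) := by rw [e]; group
        _ = e2 ^ i * (x ^ (-(j : ℤ)) * (e1 ^ (i * -(j : ℤ)) * (e1 ^ (-i) * x⁻¹))) := by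
            rw [ih i]; group
        _ = e2 ^ i * (x ^ (-(j : ℤ)) * (x⁻¹ * e1 ^ (i * (-(j : ℤ) - 1)))) := by
            rw [← mul_assoc (e1 ^ (i * -(j : ℤ))), ← zpow_add, mul_sub_one, ← sub_eq_add_neg,
              (((c1x.inv_right).zpow_left (i * -(j : ℤ) - i)).eq)]
        _ = e2 ^ i * (x ^ (-(j : ℤ) - 1) * e1 ^ (i * (-(j : ℤ) - 1))) := by
            rw [zpow_sub_one, mul_assoc]
  induction hn using Subgroup.closure_induction with
  | mem y hy =>
    rcases hy with rfl | rfl | rfl | rfl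
    · exact ⟨0, 0, 1, 0, by simp⟩
    · exact ⟨1, 0, 0, 0, by simp⟩
    · exact ⟨0, 0, 0, 1, by simp⟩
    · exact ⟨0, 1, 0, 0, by simp⟩
  | one => exact ⟨0, 0, 0, 0, by simp⟩
  | mul a b _ _ ha hb =>
    obtain ⟨i, j, u, v, rfl⟩ := ha
    obtain ⟨i', j', u', v', rfl⟩ := hb
    refine ⟨i + i', j + j', i' * j + u + u', v + v', ?_⟩
    have k1 : Commute (e1 ^ u * e3 ^ v) (e2 ^ i') :=
      ((c12.zpow_zpow u i').mul_left (c23.symm.zpow_zpow v i'))
    have k2 : ∀ t : ℤ, Commute (e1 ^ t * e3 ^ v) (x ^ j') := fun t =>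
      ((c1x.zpow_zpow t j').mul_left (c3x.zpow_zpow v j'))
    calc e2 ^ i * (x ^ j * (e1 ^ u * e3 ^ v)) * (e2 ^ i' * (x ^ j' * (e1 ^ u' * e3 ^ v')))
        = e2 ^ i * (x ^ j * ((e1 ^ u * e3 ^ v) * e2 ^ i')) * (x ^ j' * (e1 ^ u' * e3 ^ v')) := by
          group
      _ = e2 ^ i * ((x ^ j * e2 ^ i') * (e1 ^ u * e3 ^ v)) * (x ^ j' * (e1 ^ u' * e3 ^ v')) := by
          rw [k1.eq]; group
      _ = e2 ^ (i + i') * (x ^ j * ((e1 ^ (i' * j + u) * e3 ^ v) * x ^ j')) *
            (e1 ^ u' * e3 ^ v') := by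
          rw [hc j i']; group
      _ = e2 ^ (i + i') * (x ^ (j + j') * (e1 ^ (i' * j + u + u') * e3 ^ (v + v'))) := by
          rw [(k2 _).eq, zpow_add x, zpow_add e1 (i' * j + u), zpow_add e3]
          have k3 : Commute (e3 ^ v) (e1 ^ u') := (c13.symm.zpow_zpow v u')
          simp only [mul_assoc]
          rw [k3.left_comm]
  | inv a _ ha =>
    obtain ⟨i, j, u, v, rfl⟩ := ha
    refine ⟨-i, -j, (-i) * (-j) + -u, -v, ?_⟩
    have k1 : Commute (e1 ^ (-u) * e3 ^ (-v)) (x ^ (-j) * e2 ^ (-i)) :=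
      (((c1x.zpow_zpow _ _).mul_left (c3x.zpow_zpow _ _)).mul_right
        ((c12.zpow_zpow _ _).mul_left (c23.symm.zpow_zpow _ _)))
    calc (e2 ^ i * (x ^ j * (e1 ^ u * e3 ^ v)))⁻¹
        = (e3 ^ (-v) * e1 ^ (-u)) * (x ^ (-j) * e2 ^ (-i)) := by group
      _ = (x ^ (-j) * e2 ^ (-i)) * (e1 ^ (-u) * e3 ^ (-v)) := by
          rw [← (c13.zpow_zpow (-u) (-v)).eq, k1.eq]
      _ = e2 ^ (-i) * (x ^ (-j) * (e1 ^ ((-i) * (-j) + -u) * e3 ^ (-v))) := by
          rw [hc (-j) (-i), zpow_add e1 ((-i) * (-j))]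
          simp only [mul_assoc]

theorem torus_core [Finite T] [Fact p.Prime] (h3 : RankThree p T) {e1 e2 e3 x h : T}
    (q1 : e1 ^ p = 1) (q2 : e2 ^ p = 1) (q3 : e3 ^ p = 1) (qx : x ^ p = 1)
    (c13 : Commute e1 e3) (c12 : Commute e1 e2) (c1x : Commute e1 x) (c23 : Commute e2 e3)
    (c3x : Commute e3 x) (hxe : x * e2 * x⁻¹ = e2 * e1)
    (hind : ∀ i j k : ℤ, e1 ^ i * e3 ^ j * x ^ k = 1 →
      (p : ℤ) ∣ i ∧ (p : ℤ) ∣ j ∧ (p : ℤ) ∣ k)
    (hh : h ∉ Subgroup.closure {e1, e2, e3, x}) (hhp : h ^ p ∈ Subgroup.closure {e1, e2, e3, x})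
    (h1 : h * e1 * h⁻¹ = e1) {t : ℕ} (h3' : h * e3 * h⁻¹ = e3 * e1 ^ t) {μ ε : ℕ}
    (hx' : h * x * h⁻¹ = x * e3 ^ ε * e1 ^ μ) {l r s : ℕ} (hl : ¬ p ∣ l)
    (h2 : h * e2 * h⁻¹ = e2 * x ^ l * e3 ^ r * e1 ^ s)
    (β : MulAut T) {a b k : ℕ} (hab : ((a * b : ℕ) : ZMod p) = 1)
    (ha3 : (a : ZMod p) ^ 3 ≠ 1) (ha5 : (a : ZMod p) ^ 5 ≠ 1) (ha2 : (a : ZMod p) ^ 2 ≠ 1)
    (b1 : β e1 = e1 ^ a) (b2 : β e2 = e2 ^ b) (b3 : β e3 = e3) (bx : β x = x ^ (a * a))
    {n : T} (hn : n ∈ Subgroup.closure {e1, e2, e3, x}) (bh : β h = h ^ k * n) : False := by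
  have hp : p.Prime := Fact.out
  haveI : NeZero p := ⟨hp.ne_zero⟩
  have ha0 : (a : ZMod p) ≠ 0 := by
    intro h0
    rw [Nat.cast_mul, h0, zero_mul] at hab
    exact zero_ne_one hab
  have cxz : ∀ i j : ℤ, Commute (e1 ^ i * e3 ^ j) x := fun i j =>
    (c1x.zpow_left i).mul_left (c3x.zpow_left j)
  -- `n` in normal form
  obtain ⟨ni, nj, nu, nv, rfl⟩ := exists_form c13 c12 c1x c23 c3x hxe hn
  set n := e2 ^ ni * (x ^ nj * (e1 ^ nu * e3 ^ nv)) with hndef
  have n3 : Commute n e3 := ((c23.zpow_left ni).mul_left ((c3x.symm.zpow_left nj).mul_left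
    ((c13.zpow_left nu).mul_left ((Commute.refl e3).zpow_left nv))))
  have n1 : Commute n e1 := ((c12.symm.zpow_left ni).mul_left ((c1x.symm.zpow_left nj).mul_left
    (((Commute.refl e1).zpow_left nu).mul_left (c13.symm.zpow_left nv))))
  have nx : n * x * n⁻¹ = x * e1 ^ (-ni) := by
    have e : x * e2 ^ ni = e2 ^ ni * e1 ^ ni * x := by
      have e' : x * e2 ^ ni * x⁻¹ = e2 ^ ni * e1 ^ ni := by
        rw [← conj_zpow, hxe, (c12.symm).mul_zpow]
      rw [← e']; group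
    have k1 : Commute (x ^ nj * (e1 ^ nu * e3 ^ nv)) x :=
      ((Commute.refl x).zpow_left nj).mul_left (cxz nu nv)
    have k2 : Commute (e1 ^ ni) (e2 ^ ni) := c12.zpow_zpow _ _
    calc n * x * n⁻¹ = e2 ^ ni * ((x ^ nj * (e1 ^ nu * e3 ^ nv)) * x *
          (x ^ nj * (e1 ^ nu * e3 ^ nv))⁻¹) * (e2 ^ ni)⁻¹ := by rw [hndef]; group
      _ = e2 ^ ni * x * (e2 ^ ni)⁻¹ := by rw [k1.eq]; group
      _ = (e2 ^ ni * e1 ^ ni) * e1 ^ (-ni) * x * (e2 ^ ni)⁻¹ := by group
      _ = (e2 ^ ni * e1 ^ ni * x) * (e2 ^ ni)⁻¹ * e1 ^ (-ni) := by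
          have k3 : Commute (e1 ^ (-ni)) (x * (e2 ^ ni)⁻¹) :=
            (c1x.zpow_left _).mul_right (c12.zpow_zpow _ _).inv_right
          simp only [mul_assoc]
          rw [k3.eq]
          simp only [mul_assoc]
      _ = x * e1 ^ (-ni) := by rw [← e]; group
  have hker : ∀ {v : T} {A : ℕ}, v ^ p = 1 → (A : ZMod p) ≠ 1 → v ^ A = v → v = 1 :=
    fun hv hA hvA => pow_fixed hv hp hA hvA
  have hpow1 : ∀ m : ℕ, (e1 ^ m) ^ p = 1 := fun m => by rw [pow_right_comm, q1, one_pow]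
  have hind2 : ∀ A B C D : ℤ, e1 ^ A * e3 ^ B = e1 ^ C * e3 ^ D →
      (p : ℤ) ∣ A - C ∧ (p : ℤ) ∣ B - D := by
    intro A B C D he
    have e : e1 ^ (A - C) * e3 ^ (B - D) * x ^ (0 : ℤ) = 1 := by
      calc e1 ^ (A - C) * e3 ^ (B - D) * x ^ (0 : ℤ)
          = e1 ^ (-C) * (e1 ^ A * e3 ^ B) * e3 ^ (-D) := by group
        _ = 1 := by rw [he]; group
    exact ⟨(hind _ _ _ e).1, (hind _ _ _ e).2.1⟩
  -- the scalar `k`: from the image of `e2` modulo `⟨e1, e3⟩`
  have hkl : ((b * k * l : ℕ) : ZMod p) = ((a * a * l : ℕ) : ZMod p) := by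
    let Z := Subgroup.closure ({e1, e3} : Set T)
    set K : Subgroup T := Subgroup.normalizer (Z : Set T)
    have hZm : ∀ z ∈ Z, ∃ i j : ℤ, z = e1 ^ i * e3 ^ j := fun z hz => by
      induction hz using Subgroup.closure_induction with
      | mem y hy =>
        rcases hy with rfl | rfl
        · exact ⟨1, 0, by simp⟩
        · exact ⟨0, 1, by simp⟩
      | one => exact ⟨0, 0, by simp⟩
      | mul a b _ _ ha hb =>
        obtain ⟨i, j, rfl⟩ := ha
        obtain ⟨i', j', rfl⟩ := hb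
        refine ⟨i + i', j + j', ?_⟩
        rw [zpow_add, zpow_add, mul_assoc, ← mul_assoc (e3 ^ j), (c13.symm.zpow_zpow j i').eq]
        simp only [mul_assoc]
      | inv a _ ha =>
        obtain ⟨i, j, rfl⟩ := ha
        exact ⟨-i, -j, by rw [mul_inv_rev, ← zpow_neg, ← zpow_neg, (c13.symm.zpow_zpow _ _).eq]⟩
    have he1Z : e1 ∈ Z := Subgroup.subset_closure (by simp)
    have he3Z : e3 ∈ Z := Subgroup.subset_closure (by simp)
    have hnorm : ∀ g : T, g * e1 * g⁻¹ ∈ Z → g * e3 * g⁻¹ ∈ Z → g ∈ K := by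
      intro g g1 g3
      haveI : Finite Z := inferInstance
      refine Subgroup.mem_normalizer_fintype (S := (Z : Set T)) fun z hz => ?_
      obtain ⟨i, j, rfl⟩ := hZm z hz
      rw [← conj_mul, ← conj_zpow, ← conj_zpow]
      exact mul_mem (zpow_mem g1 i) (zpow_mem g3 j)
    have hK1 : ∀ {g : T}, Commute g e1 → Commute g e3 → g ∈ K := fun {g} g1 g3 =>
      hnorm g (by rw [g1.eq, mul_inv_cancel_right]; exact he1Z)
        (by rw [g3.eq, mul_inv_cancel_right]; exact he3Z)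
    have hxK : x ∈ K := hK1 c1x.symm c3x.symm
    have he2K : e2 ∈ K := hK1 c12.symm c23
    have hhK : h ∈ K := hnorm h (by rw [h1]; exact he1Z)
      (by rw [h3']; exact mul_mem he3Z (pow_mem he1Z t))
    haveI : (Z.subgroupOf K).Normal := Subgroup.normal_in_normalizer
    let π : K →* K ⧸ Z.subgroupOf K := QuotientGroup.mk' _
    have hπ : ∀ {g g' : T} (hg : g ∈ K) (hg' : g' ∈ K), g⁻¹ * g' ∈ Z →
        π ⟨g, hg⟩ = π ⟨g', hg'⟩ := fun hg hg' hgg => QuotientGroup.eq.2 hgg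
    set X := π ⟨x, hxK⟩
    set W := π ⟨e2, he2K⟩
    set H := π ⟨h, hhK⟩
    have hHX : H * X * H⁻¹ = X := by
      refine ((map_inv π _).symm ▸ (map_mul π _ _).symm ▸ (map_mul π _ _).symm ▸ ?_)
      refine (hπ (mul_mem (mul_mem hhK hxK) (inv_mem hhK)) hxK ?_)
      rw [hx']
      simpa [mul_assoc] using mul_mem (pow_mem (inv_mem he1Z) μ) (pow_mem (inv_mem he3Z) ε)
    have hHW : H * W * H⁻¹ = W * X ^ l := by
      refine ((map_inv π _).symm ▸ (map_mul π _ _).symm ▸ (map_mul π _ _).symm ▸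
        (map_pow π _ _).symm ▸ (map_mul π _ _).symm ▸ ?_)
      refine (hπ (mul_mem (mul_mem hhK he2K) (inv_mem hhK)) (mul_mem he2K (pow_mem hxK l)) ?_)
      rw [h2]
      simpa [mul_assoc] using mul_mem (pow_mem (inv_mem he1Z) s) (pow_mem (inv_mem he3Z) r)
    have hXW : Commute X W := by
      show X * W = W * X
      refine ((map_mul π _ _).symm ▸ (map_mul π _ _).symm ▸ ?_)
      refine (hπ (mul_mem hxK he2K) (mul_mem he2K hxK) ?_)
      have e : x * e2 = e2 * e1 * x := by rw [← hxe]; group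
      show (x * e2)⁻¹ * (e2 * x) ∈ Z
      rw [e, show (e2 * e1 * x)⁻¹ * (e2 * x) = x⁻¹ * e1⁻¹ * x by group, mul_assoc,
        (c1x.inv_left).eq, inv_mul_cancel_left]
      exact inv_mem he1Z
    have hnK : n ∈ K := hK1 n1 n3
    have hbh : π ⟨h ^ k * n, mul_mem (pow_mem hhK k) hnK⟩ = H ^ k * π ⟨n, hnK⟩ := by
      rw [← map_pow, ← map_mul]; rfl
    have hN : Commute (π ⟨n, hnK⟩) (W ^ b) := by
      refine Commute.pow_right ?_ b
      have : π ⟨n, hnK⟩ = W ^ ni * X ^ nj := by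
        rw [← map_zpow, ← map_zpow, ← map_mul]
        refine hπ hnK (mul_mem (zpow_mem he2K ni) (zpow_mem hxK nj)) ?_
        rw [show n⁻¹ * (e2 ^ ni * x ^ nj) = (e1 ^ nu * e3 ^ nv)⁻¹ by rw [hndef]; group]
        exact inv_mem (mul_mem (zpow_mem he1Z _) (zpow_mem he3Z _))
      rw [this]
      exact ((Commute.refl W).zpow_left ni).mul_left (hXW.zpow_left nj)
    have hmain : H ^ k * W ^ b * (H ^ k)⁻¹ = W ^ b * X ^ (k * l * b) := by
      rw [← conj_pow, conj_iterate hHW (by rw [← conj_pow, hHX]), ← pow_mul,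
        (hXW.symm.pow_right _).mul_pow, ← pow_mul, mul_comm k l]
    have e0 := congrArg β h2
    simp only [map_mul, map_inv, map_pow, b1, b2, b3, bx, bh] at e0
    have hlhs : h ^ k * n * e2 ^ b * (h ^ k * n)⁻¹ ∈ K :=
      mul_mem (mul_mem (mul_mem (pow_mem hhK k) hnK) (pow_mem he2K b))
        (inv_mem (mul_mem (pow_mem hhK k) hnK))
    have e1' : π ⟨_, hlhs⟩ = W ^ b * X ^ (a * a * l) := by
      rw [← map_pow, ← map_pow, ← map_mul]
      refine hπ hlhs (mul_mem (pow_mem he2K b) (pow_mem hxK _)) ?_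
      show _⁻¹ * (e2 ^ b * x ^ (a * a * l)) ∈ Z
      rw [e0, ← pow_mul x]
      simpa [mul_assoc] using mul_mem (inv_mem (pow_mem (pow_mem he1Z a) s))
        (inv_mem (pow_mem he3Z r))
    have e2' : π ⟨_, hlhs⟩ = H ^ k * W ^ b * (H ^ k)⁻¹ := by
      have : π ⟨_, hlhs⟩ = (H ^ k * π ⟨n, hnK⟩) * W ^ b * (H ^ k * π ⟨n, hnK⟩)⁻¹ := by
        rw [← hbh, ← map_pow, ← map_mul, ← map_inv, ← map_mul]; rfl
      rw [this, mul_inv_rev, mul_assoc (H ^ k) _ (W ^ b), hN.eq]
      group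
    rw [e2', hmain, mul_right_inj] at e1'
    have hXo : orderOf X = p := by
      have hX : X ^ p = 1 := by
        show (π ⟨x, hxK⟩) ^ p = 1
        rw [← map_pow]
        refine (QuotientGroup.eq_one_iff _).2 ?_
        show x ^ p ∈ Z
        rw [qx]; exact one_mem _
      refine orderOf_eq_prime hX fun hX1 => ?_
      obtain ⟨i, j, hij⟩ := hZm x ((QuotientGroup.eq_one_iff (⟨x, hxK⟩ : K)).1 hX1)
      have hd := (hind i j (-1) (by rw [← hij]; group)).2.2
      exact hp.one_lt.ne' (by exact_mod_cast Int.eq_one_of_dvd_one (by positivity) (dvd_neg.1 hd))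
    rw [pow_eq_pow_iff_modEq, hXo] at e1'
    have := (ZMod.natCast_eq_natCast_iff _ _ p).2 e1'
    rw [← this, show b * k * l = k * l * b by ring]
  have hl0 : (l : ZMod p) ≠ 0 := fun h0 => hl ((ZMod.natCast_eq_zero_iff _ _).1 h0)
  have hk : (k : ZMod p) = (a : ZMod p) ^ 3 := by
    push_cast at hkl hab
    linear_combination ((a : ZMod p) * (l : ZMod p)⁻¹) * hkl -
      (k : ZMod p) * hab * 1 - ((a : ZMod p) * b * k - (a : ZMod p) ^ 3) * (mul_inv_cancel₀ hl0)
  -- `h` commutes with `e3`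
  have ht : Commute h e3 := by
    have hd : h * e1 ^ t * h⁻¹ = e1 ^ t := by rw [← conj_pow, h1]
    have e0 := congrArg β h3'
    simp only [map_mul, map_inv, map_pow, b1, b3, bh] at e0
    rw [mul_inv_rev, ← mul_assoc, mul_assoc (h ^ k) n e3, n3.eq, ← mul_assoc,
      mul_inv_cancel_right, conj_iterate h3' hd, mul_right_inj] at e0
    have hd1 : e1 ^ t = 1 := by
      by_contra hne
      have ho : orderOf (e1 ^ t) = p := orderOf_eq_prime (hpow1 t) hne
      have e' : (e1 ^ t) ^ k = (e1 ^ t) ^ a := by rw [e0, pow_right_comm]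
      rw [pow_eq_pow_iff_modEq, ho] at e'
      have h' := (ZMod.natCast_eq_natCast_iff _ _ p).2 e'
      rw [hk] at h'
      exact ha2 (mul_left_cancel₀ ha0 (by linear_combination h'))
    rw [hd1, mul_one] at h3'
    exact mul_inv_eq_iff_eq_mul.1 h3'
  have h1c : Commute h e1 := mul_inv_eq_iff_eq_mul.1 h1
  -- the `e3`-component of `h x h⁻¹` vanishes
  have hε : (e3 ^ ε) = 1 := by
    set c := e3 ^ ε * e1 ^ μ with hc
    have hx2 : h * x * h⁻¹ = x * c := by rw [hx', hc, mul_assoc]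
    have hcc : h * c * h⁻¹ = c := by
      rw [((ht.pow_right ε).mul_right (h1c.pow_right μ)).eq, mul_inv_cancel_right]
    have hxc : Commute x c := (c3x.symm.pow_right ε).mul_right (c1x.symm.pow_right μ)
    have e0 := congrArg β hx2
    simp only [hc, map_mul, map_inv, map_pow, b1, b3, bx, bh] at e0
    have kk : h ^ k * n * x ^ (a * a) * (h ^ k * n)⁻¹ =
        x ^ (a * a) * c ^ (k * (a * a)) * (e1 ^ (-ni)) ^ (a * a) := by
      rw [← conj_pow, show h ^ k * n * x * (h ^ k * n)⁻¹ = h ^ k * (n * x * n⁻¹) * (h ^ k)⁻¹ by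
        group, nx, ← conj_mul, conj_iterate hx2 hcc,
        ((h1c.pow_left k).zpow_right (-ni)).eq, mul_inv_cancel_right,
        (((c1x.symm.zpow_right (-ni))).mul_left
          (((c13.symm.pow_left ε).mul_left ((Commute.refl e1).pow_left μ)).pow_left k |>.zpow_right
            (-ni))).mul_pow, (hxc.pow_right k).mul_pow, ← pow_mul c]
    rw [kk, mul_assoc, mul_right_inj, hc,
      ((c13.symm.pow_left ε).pow_right μ).mul_pow, ← pow_mul e3, ← pow_mul e1] at e0
    have e' : e3 ^ ((ε * (k * (a * a)) : ℕ) : ℤ) * e1 ^ (((μ * (k * (a * a)) : ℕ) : ℤ) +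
        -ni * ((a * a : ℕ) : ℤ)) = e3 ^ (ε : ℤ) * e1 ^ ((a * μ : ℕ) : ℤ) := by
      rw [zpow_add, zpow_mul, zpow_natCast, zpow_natCast, zpow_natCast, zpow_natCast,
        zpow_natCast, ← mul_assoc, e0, ← pow_mul]
    generalize hM : ((μ * (k * (a * a)) : ℕ) : ℤ) + -ni * ((a * a : ℕ) : ℤ) = M at e'
    rw [((c13.symm.zpow_zpow _ M)).eq, (c13.symm.zpow_zpow (ε : ℤ) _).eq] at e'
    have hd := (hind2 _ _ _ _ e').2
    rw [← ZMod.intCast_zmod_eq_zero_iff_dvd] at hd
    push_cast at hd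
    rw [hk] at hd
    have hε0 : (ε : ZMod p) = 0 := by
      refine (mul_eq_zero.1 (show (ε : ZMod p) * ((a : ZMod p) ^ 5 - 1) = 0 by
        linear_combination hd)).resolve_right (sub_ne_zero.2 ha5)
    obtain ⟨m, hm⟩ := (ZMod.natCast_eq_zero_iff _ _).1 hε0
    rw [hm, pow_mul, q3, one_pow]
  rw [hε, mul_one] at hx'
  -- correct `h` by a power of `e2`
  obtain ⟨h', hh', h'x, h'1, h'3, j, hj⟩ : ∃ h' : T,
      h' ∉ Subgroup.closure {e1, e2, e3, x} ∧ Commute h' x ∧ Commute h' e1 ∧ Commute h' e3 ∧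
        ∃ j : ℕ, h' = h * e2 ^ j := by
    refine ⟨h * e2 ^ μ, fun hmem => hh ?_, ?_, h1c.mul_left (c12.symm.pow_left μ),
      ht.mul_left (c23.pow_left μ), μ, rfl⟩
    · simpa using mul_mem hmem (inv_mem (pow_mem (Subgroup.subset_closure
        (show e2 ∈ ({e1, e2, e3, x} : Set T) by simp)) μ))
    · have e : x * e2 ^ μ * x⁻¹ = e2 ^ μ * e1 ^ μ := by
        rw [← conj_pow, hxe, (c12.symm).mul_pow]
      have e' : h * x = x * e1 ^ μ * h := by rw [← hx']; group
      have k1 : Commute (e1 ^ μ) (h * e2 ^ μ) :=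
        (h1c.symm.pow_left μ).mul_right ((c12.pow_left μ).pow_right μ)
      have k2 : Commute x (e1 ^ μ) := c1x.symm.pow_right μ
      show h * e2 ^ μ * x = x * (h * e2 ^ μ)
      calc h * e2 ^ μ * x = h * (e2 ^ μ * e1 ^ μ * x) * (e1 ^ μ)⁻¹ := by
            have k3 : Commute (e1 ^ μ) x := k2.symm
            rw [mul_assoc (e2 ^ μ) (e1 ^ μ) x, k3.eq]
            group
        _ = h * x * e2 ^ μ * (e1 ^ μ)⁻¹ := by rw [← e]; group
        _ = x * (e1 ^ μ * (h * e2 ^ μ)) * (e1 ^ μ)⁻¹ := by rw [e']; group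
        _ = x * (h * e2 ^ μ) := by rw [k1.eq]; group
  subst hj
  set N := Subgroup.closure ({e1, e2, e3, x} : Set T) with hN
  have he1N : e1 ∈ N := Subgroup.subset_closure (by simp)
  have he2N : e2 ∈ N := Subgroup.subset_closure (by simp)
  have he3N : e3 ∈ N := Subgroup.subset_closure (by simp)
  have hxN : x ∈ N := Subgroup.subset_closure (by simp)
  obtain ⟨h', rfl⟩ : ∃ h', h' = h * e2 ^ j := ⟨_, rfl⟩
  set g := h * e2 ^ j with hg
  -- `g` maps `e2` into `e2 ⟨e1, e3, x⟩`, and these commute with `g`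
  have hgw : g * e2 * g⁻¹ = e2 * (x ^ l * e3 ^ r * e1 ^ s) := by
    rw [show g * e2 * g⁻¹ = h * e2 * h⁻¹ by rw [hg]; group, h2]
    group
  set w := x ^ l * e3 ^ r * e1 ^ s with hw
  have hgw' : g * w * g⁻¹ = w := by
    rw [(((h'x.pow_right l).mul_right (h'3.pow_right r)).mul_right (h'1.pow_right s)).eq,
      mul_inv_cancel_right]
  have hgpe2 : Commute (g ^ p) e2 := by
    have e := conj_iterate hgw hgw' p
    have hwp : w ^ p = 1 := by
      rw [hw, ((c1x.symm.pow_left l).mul_left (c13.symm.pow_left r) |>.pow_right s).mul_pow,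
        ((c3x.symm.pow_left l).pow_right r).mul_pow, pow_right_comm x, qx, pow_right_comm e3, q3,
        pow_right_comm e1, q1]
      simp
    rw [hwp, mul_one] at e
    show g ^ p * e2 = e2 * g ^ p
    conv_rhs => rw [← e]
    group
  -- `g ^ p` lies in `⟨e1, e3⟩`
  haveI : Finite N := inferInstance
  have hnorm : h ∈ Subgroup.normalizer (N : Set T) := by
    refine Subgroup.mem_normalizer_fintype (S := (N : Set T)) fun z hz => ?_
    have hle : N ≤ N.comap (MulAut.conj h).toMonoidHom := by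
      refine (Subgroup.closure_le _).2 ?_
      intro y hy
      simp only [Set.mem_insert_iff, Set.mem_singleton_iff] at hy
      show h * y * h⁻¹ ∈ N
      rcases hy with hy | hy | hy | hy <;> rw [hy]
      · rw [h1]; exact he1N
      · rw [h2]
        exact mul_mem (mul_mem (mul_mem he2N (pow_mem hxN _)) (pow_mem he3N _)) (pow_mem he1N _)
      · rw [ht.eq, mul_inv_cancel_right]; exact he3N
      · rw [hx']; exact mul_mem hxN (pow_mem he1N _)
    exact hle hz
  have hgN : g ^ p ∈ N := by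
    have key : ∀ i : ℕ, (h ^ i)⁻¹ * g ^ i ∈ N := by
      intro i
      induction i with
      | zero => simp
      | succ i ih =>
        have e : (h ^ (i + 1))⁻¹ * g ^ (i + 1) =
            h⁻¹ * ((h ^ i)⁻¹ * g ^ i) * h * e2 ^ j := by
          rw [pow_succ g, pow_succ h, hg]; group
        rw [e]
        exact mul_mem ((Subgroup.mem_normalizer_iff''.1 hnorm _).1 ih) (pow_mem he2N j)
    simpa using mul_mem hhp (key p)
  have hgz : ∃ u v : ℤ, g ^ p = e1 ^ u * e3 ^ v := by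
    obtain ⟨i, j', u, v, e⟩ := exists_form c13 c12 c1x c23 c3x hxe hgN
    have hmem1 : e2 ^ i * (x ^ j' * (e1 ^ u * e3 ^ v)) = g ^ p := e.symm
    -- commutes with `x`
    have kx : Commute (g ^ p) x := h'x.pow_left p
    have hi : e1 ^ i = 1 := by
      have k1 : Commute (x ^ j' * (e1 ^ u * e3 ^ v)) x :=
        ((Commute.refl x).zpow_left j').mul_left (cxz u v)
      have k2 : Commute (e2 ^ i) x := by
        have := kx.mul_left k1.inv_left
        rwa [← hmem1, mul_inv_cancel_right] at this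
      have e' : x * e2 ^ i * x⁻¹ = e2 ^ i * e1 ^ i := by
        rw [← conj_zpow, hxe, (c12.symm).mul_zpow]
      rw [← k2.eq, mul_inv_cancel_right] at e'
      simpa using e'
    have hi' := (hind i 0 0 (by simp [hi])).1
    have e2i : e2 ^ i = 1 := by
      obtain ⟨c, rfl⟩ := hi'
      rw [zpow_mul, zpow_natCast, q2, one_zpow]
    rw [e2i, one_mul] at hmem1
    have hj' : (p : ℤ) ∣ j' := by
      have k1 : Commute (e1 ^ u * e3 ^ v) e2 := (c12.zpow_left u).mul_left (c23.symm.zpow_left v)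
      have k2 : Commute (x ^ j') e2 := by
        have := hgpe2.mul_left k1.inv_left
        rwa [← hmem1, mul_inv_cancel_right] at this
      have e' : e2⁻¹ * x * e2 = x * e1 := by
        calc e2⁻¹ * x * e2 = e2⁻¹ * (x * e2 * x⁻¹) * x := by group
          _ = e1 * x := by rw [hxe]; group
          _ = x * e1 := c1x.eq
      have e'' : e2⁻¹ * x ^ j' * e2 = x ^ j' * e1 ^ j' := by
        rw [← (c1x.symm).mul_zpow, ← e']
        simpa using (conj_zpow (i := j') (a := e2⁻¹) (b := x)).symm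
      rw [mul_assoc, k2.eq, inv_mul_cancel_left] at e''
      exact (hind j' 0 0 (by simpa using e''.symm)).1
    obtain ⟨c, rfl⟩ := hj'
    rw [zpow_mul, zpow_natCast, qx, one_zpow, one_mul] at hmem1
    exact ⟨u, v, hmem1.symm⟩
  obtain ⟨gu, gv, hgy⟩ := hgz
  -- `β g` is `g ^ k` times an element commuting with `g`
  have hgp : g ^ p = 1 := by
    have bg : ∃ m : T, β g = g ^ k * m ∧ Commute g m ∧ m ^ p = 1 := by
      obtain ⟨m, hm, hmN⟩ : ∃ m : T, β g = g ^ k * m ∧ m ∈ N := by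
        refine ⟨(g ^ k)⁻¹ * β g, by group, ?_⟩
        rw [show β g = h ^ k * n * (e2 ^ b) ^ j by rw [hg, map_mul, map_pow, bh, b2]]
        have key : ∀ i : ℕ, (g ^ i)⁻¹ * h ^ i ∈ N := by
          intro i
          induction i with
          | zero => simp
          | succ i ih =>
            have e : (g ^ (i + 1))⁻¹ * h ^ (i + 1) =
                (e2 ^ j)⁻¹ * (h⁻¹ * ((g ^ i)⁻¹ * h ^ i) * h) := by
              rw [pow_succ g, pow_succ h, hg]; group
            rw [e]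
            exact mul_mem (inv_mem (pow_mem he2N j))
              ((Subgroup.mem_normalizer_iff''.1 hnorm _).1 ih)
        rw [show (g ^ k)⁻¹ * (h ^ k * n * (e2 ^ b) ^ j) =
          ((g ^ k)⁻¹ * h ^ k) * (n * (e2 ^ b) ^ j) by group]
        exact mul_mem (key k) (mul_mem hn (pow_mem (pow_mem he2N b) j))
      obtain ⟨i, j', u, v, e⟩ := exists_form c13 c12 c1x c23 c3x hxe hmN
      have kx : Commute (β g) x := by
        have hbx : Commute (β g) (β x) := by
          show β g * β x = β x * β g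
          rw [← map_mul, ← map_mul, h'x.eq]
        rw [bx] at hbx
        -- recover `x` from a power
        have hu : IsUnit ((a * a : ℕ) : ZMod p) := by
          rw [Nat.cast_mul]; exact (ha0.isUnit).mul ha0.isUnit
        obtain ⟨c, hc⟩ : ∃ c : ℕ, ((a * a * c : ℕ) : ZMod p) = 1 :=
          ⟨((hu.unit⁻¹ : (ZMod p)ˣ) : ZMod p).val, by
            rw [Nat.cast_mul, ZMod.natCast_zmod_val]; exact hu.mul_val_inv⟩
        have hxc : (x ^ (a * a)) ^ c = x := by
          rw [← pow_mul]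
          have := pow_eq_pow_mod (a * a * c) qx
          rw [this]
          have h' : a * a * c % p = 1 % p := (ZMod.natCast_eq_natCast_iff' _ _ p).1
            (by rw [hc, Nat.cast_one])
          rw [h', ← pow_eq_pow_mod 1 qx, pow_one]
        rw [← hxc]
        exact hbx.pow_right c
      have k1 : Commute (x ^ j' * (e1 ^ u * e3 ^ v)) x :=
        ((Commute.refl x).zpow_left j').mul_left (cxz u v)
      have k2 : Commute (e2 ^ i) x := by
        have h5 := ((h'x.pow_left k).inv_left.mul_left kx)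
        rw [hm, inv_mul_cancel_left, e] at h5
        have h6 := h5.mul_left k1.inv_left
        rwa [mul_inv_cancel_right] at h6
      have e' : x * e2 ^ i * x⁻¹ = e2 ^ i * e1 ^ i := by
        rw [← conj_zpow, hxe, (c12.symm).mul_zpow]
      rw [← k2.eq, mul_inv_cancel_right] at e'
      obtain ⟨c, rfl⟩ := (hind i 0 0 (by simpa using e'.symm)).1
      rw [zpow_mul, zpow_natCast, q2, one_zpow, one_mul] at e
      refine ⟨m, hm, ?_, ?_⟩
      · rw [e]
        exact (h'x.zpow_right j').mul_right ((h'1.zpow_right u).mul_right (h'3.zpow_right v))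
      · have hz : ∀ (y : T) (i : ℤ), y ^ p = 1 → (y ^ i) ^ p = 1 := fun y i hy => by
          rw [← zpow_natCast, ← zpow_mul, mul_comm, zpow_mul, zpow_natCast, hy, one_zpow]
        rw [e, ((c1x.symm.zpow_zpow j' u).mul_right (c3x.symm.zpow_zpow j' v)).mul_pow,
          (c13.zpow_zpow u v).mul_pow, hz x j' qx, hz e1 u q1, hz e3 v q3]
        simp
    obtain ⟨m, hm, hgm, hmp⟩ := bg
    have e0 := congrArg β hgy
    rw [map_pow, hm, (hgm.pow_left k).mul_pow, hmp, mul_one, ← pow_mul, mul_comm k p, pow_mul,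
      hgy, map_mul, map_zpow, map_zpow, b1, b3] at e0
    rw [← zpow_natCast, (c13.zpow_zpow gu gv).mul_zpow, ← zpow_mul, ← zpow_mul,
      ← zpow_natCast e1 a, ← zpow_mul] at e0
    obtain ⟨d1, d3⟩ := hind2 _ _ _ _ e0
    rw [← ZMod.intCast_zmod_eq_zero_iff_dvd] at d1 d3
    push_cast at d1 d3
    rw [hk] at d1 d3
    have u0 : (gu : ZMod p) = 0 :=
      (mul_eq_zero.1 (show ((a : ZMod p) * ((a : ZMod p) ^ 2 - 1)) * gu = 0 by
        linear_combination d1)).resolve_left (mul_ne_zero ha0 (sub_ne_zero.2 ha2))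
    have v0 : (gv : ZMod p) = 0 :=
      (mul_eq_zero.1 (show ((a : ZMod p) ^ 3 - 1) * gv = 0 by
        linear_combination d3)).resolve_left (sub_ne_zero.2 ha3)
    rw [ZMod.intCast_zmod_eq_zero_iff_dvd] at u0 v0
    obtain ⟨c, rfl⟩ := u0
    obtain ⟨c', rfl⟩ := v0
    rw [hgy, zpow_mul, zpow_mul, zpow_natCast, zpow_natCast, q1, q3]
    simp
  -- the elementary abelian subgroup of order `p ^ 4`
  set A := Subgroup.closure ({e1, e3, x, g} : Set T) with hA
  have hcomm : ∀ y ∈ ({e1, e3, x, g} : Set T), ∀ z ∈ ({e1, e3, x, g} : Set T), y * z = z * y := by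
    rintro y (rfl | rfl | rfl | rfl) z (rfl | rfl | rfl | rfl) <;>
      first
        | rfl
        | exact c13.eq | exact c13.symm.eq | exact c1x.eq | exact c1x.symm.eq
        | exact c3x.eq | exact c3x.symm.eq | exact h'1.eq | exact h'1.symm.eq
        | exact h'3.eq | exact h'3.symm.eq | exact h'x.eq | exact h'x.symm.eq
  letI : IsMulCommutative A := Subgroup.isMulCommutative_closure hcomm
  have hab' : ∀ y ∈ A, ∀ z ∈ A, y * z = z * y := fun y hy z hz =>
    congrArg Subtype.val (IsMulCommutative.is_comm.comm (⟨y, hy⟩ : A) ⟨z, hz⟩)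
  have hpowA : ∀ y ∈ A, y ^ p = 1 := by
    intro y hy
    induction hy using Subgroup.closure_induction with
    | mem y hy => rcases hy with rfl | rfl | rfl | rfl <;> assumption
    | one => exact one_pow _
    | mul a b ha hb ha' hb' => rw [Commute.mul_pow (hab' a ha b hb), ha', hb', one_mul]
    | inv a _ ha' => rw [inv_pow, ha', inv_one]
  have hle := h3 A ⊥ bot_le (fun y hy => by rw [hpowA y hy]; exact one_mem _)
    (fun y hy z hz => by rw [hab' y hy z hz]; simp)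
  rw [Subgroup.relIndex_bot_left] at hle
  have hge : p ^ 4 ≤ Nat.card A := by
    let f : (Fin 4 → ZMod p) → A := fun c =>
      ⟨e1 ^ (c 0).val * e3 ^ (c 1).val * x ^ (c 2).val * g ^ (c 3).val,
        mul_mem (mul_mem (mul_mem (pow_mem (Subgroup.subset_closure (by simp)) _)
          (pow_mem (Subgroup.subset_closure (by simp)) _))
          (pow_mem (Subgroup.subset_closure (by simp)) _))
          (pow_mem (Subgroup.subset_closure (by simp)) _)⟩
    have hcard : Nat.card (Fin 4 → ZMod p) = p ^ 4 := by simp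
    rw [← hcard]
    refine Nat.card_le_card_of_injective f fun c d hcd => ?_
    have e : e1 ^ (c 0).val * e3 ^ (c 1).val * x ^ (c 2).val * g ^ (c 3).val =
        e1 ^ (d 0).val * e3 ^ (d 1).val * x ^ (d 2).val * g ^ (d 3).val := congrArg Subtype.val hcd
    set pc := e1 ^ (c 0).val * e3 ^ (c 1).val * x ^ (c 2).val
    set pd := e1 ^ (d 0).val * e3 ^ (d 1).val * x ^ (d 2).val
    have hpN : pd⁻¹ * pc ∈ N := mul_mem (inv_mem (mul_mem (mul_mem (pow_mem he1N _)
      (pow_mem he3N _)) (pow_mem hxN _))) (mul_mem (mul_mem (pow_mem he1N _)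
      (pow_mem he3N _)) (pow_mem hxN _))
    have h33 : c 3 = d 3 := by
      by_contra hne
      refine hh' ?_
      have hq : g ^ ((d 3).val : ℤ) * (g ^ ((c 3).val : ℤ))⁻¹ ∈ N := by
        rw [zpow_natCast, zpow_natCast,
          show g ^ (d 3).val * (g ^ (c 3).val)⁻¹ = pd⁻¹ * pc by
            rw [mul_inv_eq_iff_eq_mul, mul_assoc, e, inv_mul_cancel_left]]
        exact hpN
      rw [← zpow_sub] at hq
      have hu0 : (((d 3).val : ℕ) : ZMod p) - (((c 3).val : ℕ) : ZMod p) ≠ 0 := by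
        rw [ZMod.natCast_zmod_val, ZMod.natCast_zmod_val]
        exact sub_ne_zero.2 (Ne.symm hne)
      set q : ℤ := ((d 3).val : ℤ) - ((c 3).val : ℤ) with hqdef
      have hq0 : (q : ZMod p) ≠ 0 := by
        rw [hqdef]; push_cast; exact hu0
      obtain ⟨u, hu'⟩ : ∃ u : ℤ, (q * u : ZMod p) = 1 :=
        ⟨((q : ZMod p)⁻¹).val, by push_cast; rw [ZMod.natCast_zmod_val, mul_inv_cancel₀ hq0]⟩
      have hqu : (p : ℤ) ∣ q * u - 1 := by
        rw [← ZMod.intCast_zmod_eq_zero_iff_dvd]; push_cast; rw [hu', sub_self]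
      obtain ⟨w', hw'⟩ := hqu
      have : g = (g ^ q) ^ u := by
        rw [← zpow_mul, show q * u = (p : ℤ) * w' + 1 by linarith, zpow_add, zpow_mul,
          zpow_natCast, hgp, one_zpow, one_mul, zpow_one]
      rw [this]
      exact zpow_mem hq u
    rw [h33, mul_left_inj] at e
    have e' : e1 ^ (((c 0).val : ℤ) - (d 0).val) * e3 ^ (((c 1).val : ℤ) - (d 1).val) *
        x ^ (((c 2).val : ℤ) - (d 2).val) = 1 := by
      simp only [zpow_sub, zpow_natCast]
      have k1 : Commute ((e1 ^ (d 0).val)⁻¹) (e3 ^ (c 1).val) := (c13.pow_pow _ _).inv_left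
      have k2 : Commute ((e1 ^ (d 0).val)⁻¹ * (e3 ^ (d 1).val)⁻¹) (x ^ (c 2).val) :=
        ((c1x.pow_pow _ _).inv_left).mul_left (c3x.pow_pow _ _).inv_left
      have k4 : Commute ((e1 ^ (d 0).val)⁻¹) ((e3 ^ (d 1).val)⁻¹) := (c13.pow_pow _ _).inv_inv
      have k5 : Commute ((e3 ^ (d 1).val)⁻¹ * (e1 ^ (d 0).val)⁻¹) ((x ^ (d 2).val)⁻¹) :=
        ((c3x.pow_pow _ _).inv_inv).mul_left (c1x.pow_pow _ _).inv_inv
      calc e1 ^ (c 0).val * (e1 ^ (d 0).val)⁻¹ * (e3 ^ (c 1).val * (e3 ^ (d 1).val)⁻¹) *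
            (x ^ (c 2).val * (x ^ (d 2).val)⁻¹)
          = e1 ^ (c 0).val * e3 ^ (c 1).val * (((e1 ^ (d 0).val)⁻¹ * (e3 ^ (d 1).val)⁻¹) *
              x ^ (c 2).val) * (x ^ (d 2).val)⁻¹ := by
            simp only [mul_assoc]
            rw [k1.left_comm]
        _ = pc * (((e3 ^ (d 1).val)⁻¹ * (e1 ^ (d 0).val)⁻¹) * (x ^ (d 2).val)⁻¹) := by
            rw [k2.eq, k4.eq]; simp only [pc, mul_assoc]
        _ = 1 := by rw [k5.eq, e]; simp only [pd]; group
    obtain ⟨d0, d1, d2⟩ := hind _ _ _ e'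
    have cast0 : ∀ i : Fin 4, (p : ℤ) ∣ ((c i).val : ℤ) - (d i).val → c i = d i := fun i hi => by
      rw [← ZMod.intCast_zmod_eq_zero_iff_dvd] at hi
      push_cast at hi
      rwa [ZMod.natCast_zmod_val, ZMod.natCast_zmod_val, sub_eq_zero] at hi
    funext i
    fin_cases i
    · exact cast0 0 d0
    · exact cast0 1 d1
    · exact cast0 2 d2
    · exact h33
  exact absurd (hge.trans hle) (not_le.2 (Nat.pow_lt_pow_right hp.one_lt (by norm_num)))

end Cfsg.Agent.FusRankThree
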