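import Mathlib
import Cfsg.Agent.FusRankThree.TorusCore

/-!
# The group `N_S(E) / Φ(E)` in the transvection case (S5180)

`⟨e1, e2, e3⟩` is the elementary abelian `E / Φ(E)` of order `p ^ 3`, the element `x` induces a
transvection on it, and `β` is the extension of a torus element `diag(a, b, 1)`.
-/

set_option autoImplicit false

open Cfsg

namespace Cfsg.Agent.FusRankThree

universe u

variable {p : ℕ} {Q : Type u} [Group Q]

/-- The data of a transvection on an elementary abelian group of order `p ^ 3`. -/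
structure Base (p : ℕ) (e1 e2 e3 x : Q) : Prop where
  q1 : e1 ^ p = 1
  q2 : e2 ^ p = 1
  q3 : e3 ^ p = 1
  c12 : Commute e1 e2
  c13 : Commute e1 e3
  c23 : Commute e2 e3
  c1x : Commute e1 x
  c3x : Commute e3 x
  hxe : x * e2 * x⁻¹ = e2 * e1
  ind : ∀ i j k : ℤ, e1 ^ i * e2 ^ j * e3 ^ k = 1 → (p : ℤ) ∣ i ∧ (p : ℤ) ∣ j ∧ (p : ℤ) ∣ k
  gen : Subgroup.closure {e1, e2, e3, x} = ⊤
  hx : x ∉ Subgroup.closure {e1, e2, e3}
  hxp : x ^ p ∈ Subgroup.closure {e1, e2, e3}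

/-- The torus data. -/
structure Torus (p : ℕ) (e1 e2 e3 x : Q) (β : MulAut Q) (a b : ℕ) : Prop where
  hab : ((a * b : ℕ) : ZMod p) = 1
  ha2 : (a : ZMod p) ^ 2 ≠ 1
  ha3 : (a : ZMod p) ^ 3 ≠ 1
  b1 : β e1 = e1 ^ a
  b2 : β e2 = e2 ^ b
  b3 : β e3 = e3
  bx : β x * (x ^ (a * a))⁻¹ ∈ Subgroup.closure {e1, e2, e3}

/-- An element of `⟨e1, e2, e3⟩` by exponents. -/
def wrd (e1 e2 e3 : Q) (i j k : ℤ) : Q := e1 ^ i * e2 ^ j * e3 ^ k

variable {e1 e2 e3 x : Q}

theorem zpow_congr {v : Q} (hv : v ^ p = 1) {i j : ℤ} (h : (i : ZMod p) = (j : ZMod p)) :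
    v ^ i = v ^ j := by
  obtain ⟨c, hc⟩ := (ZMod.intCast_zmod_eq_zero_iff_dvd (i - j) p).1 (by push_cast; rw [h, sub_self])
  rw [show i = (p : ℤ) * c + j by linarith, zpow_add, zpow_mul, zpow_natCast, hv, one_zpow, one_mul]

namespace Base

variable (B : Base p e1 e2 e3 x)
include B

theorem wrd_mul (i j k i' j' k' : ℤ) :
    wrd e1 e2 e3 i j k * wrd e1 e2 e3 i' j' k' = wrd e1 e2 e3 (i + i') (j + j') (k + k') := by
  unfold wrd
  have k1 : Commute (e2 ^ j * e3 ^ k) (e1 ^ i') :=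
    (B.c12.symm.zpow_zpow j i').mul_left (B.c13.symm.zpow_zpow k i')
  have k2 : Commute (e3 ^ k) (e2 ^ j') := B.c23.symm.zpow_zpow k j'
  calc e1 ^ i * e2 ^ j * e3 ^ k * (e1 ^ i' * e2 ^ j' * e3 ^ k')
      = e1 ^ i * ((e2 ^ j * e3 ^ k) * e1 ^ i') * e2 ^ j' * e3 ^ k' := by group
    _ = e1 ^ (i + i') * e2 ^ j * (e3 ^ k * e2 ^ j') * e3 ^ k' := by
        rw [k1.eq, zpow_add]; group
    _ = e1 ^ (i + i') * e2 ^ (j + j') * e3 ^ (k + k') := by
        rw [k2.eq, zpow_add e2, zpow_add e3]; group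

theorem wrd_congr {i j k i' j' k' : ℤ} (h1 : (i : ZMod p) = i') (h2 : (j : ZMod p) = j')
    (h3 : (k : ZMod p) = k') : wrd e1 e2 e3 i j k = wrd e1 e2 e3 i' j' k' := by
  unfold wrd
  rw [zpow_congr B.q1 h1, zpow_congr B.q2 h2, zpow_congr B.q3 h3]

theorem wrd_inj {i j k i' j' k' : ℤ} (h : wrd e1 e2 e3 i j k = wrd e1 e2 e3 i' j' k') :
    (i : ZMod p) = i' ∧ (j : ZMod p) = j' ∧ (k : ZMod p) = k' := by
  have h1 : wrd e1 e2 e3 (i + -i') (j + -j') (k + -k') = 1 := by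
    rw [← B.wrd_mul, h, B.wrd_mul, add_neg_cancel, add_neg_cancel, add_neg_cancel]
    simp [wrd]
  obtain ⟨d1, d2, d3⟩ := B.ind _ _ _ h1
  rw [← ZMod.intCast_zmod_eq_zero_iff_dvd] at d1 d2 d3
  push_cast at d1 d2 d3
  exact ⟨add_neg_eq_zero.1 d1, add_neg_eq_zero.1 d2, add_neg_eq_zero.1 d3⟩

theorem wrd_pow (i j k : ℤ) (n : ℕ) :
    wrd e1 e2 e3 i j k ^ n = wrd e1 e2 e3 (n * i) (n * j) (n * k) := by
  induction n with
  | zero => simp [wrd]
  | succ n ih =>
      rw [pow_succ, ih, B.wrd_mul]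
      refine B.wrd_congr ?_ ?_ ?_ <;> push_cast <;> ring

theorem mem_closure {z : Q} (hz : z ∈ Subgroup.closure {e1, e2, e3}) :
    ∃ i j k : ℤ, z = wrd e1 e2 e3 i j k := by
  induction hz using Subgroup.closure_induction with
  | mem y hy =>
    rcases hy with rfl | rfl | rfl
    · exact ⟨1, 0, 0, by simp [wrd]⟩
    · exact ⟨0, 1, 0, by simp [wrd]⟩
    · exact ⟨0, 0, 1, by simp [wrd]⟩
  | one => exact ⟨0, 0, 0, by simp [wrd]⟩
  | mul a b _ _ ha hb =>
    obtain ⟨i, j, k, rfl⟩ := ha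
    obtain ⟨i', j', k', rfl⟩ := hb
    exact ⟨_, _, _, B.wrd_mul ..⟩
  | inv a _ ha =>
    obtain ⟨i, j, k, rfl⟩ := ha
    refine ⟨-i, -j, -k, inv_eq_of_mul_eq_one_right ?_⟩
    rw [B.wrd_mul]
    simp [wrd]

theorem wrd_mem (i j k : ℤ) : wrd e1 e2 e3 i j k ∈ Subgroup.closure {e1, e2, e3} :=
  mul_mem (mul_mem (zpow_mem (Subgroup.subset_closure (by simp)) _)
    (zpow_mem (Subgroup.subset_closure (by simp)) _))
    (zpow_mem (Subgroup.subset_closure (by simp)) _)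

/-- Conjugation by powers of `x`. -/
theorem x_conj (n : ℕ) (i j k : ℤ) :
    x ^ n * wrd e1 e2 e3 i j k * (x ^ n)⁻¹ = wrd e1 e2 e3 (i + j * n) j k := by
  induction n with
  | zero => simp
  | succ n ih =>
    have e : x * wrd e1 e2 e3 (i + j * n) j k * x⁻¹ = wrd e1 e2 e3 (i + j * n + j) j k := by
      unfold wrd
      rw [← conj_mul, ← conj_mul, ← conj_zpow, ← conj_zpow, ← conj_zpow, B.hxe,
        (B.c1x.symm).eq, B.c3x.symm.eq, mul_inv_cancel_right, mul_inv_cancel_right,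
        (B.c12.symm).mul_zpow, zpow_add, zpow_add]
      have k1 : Commute (e2 ^ j) (e1 ^ j) := B.c12.symm.zpow_zpow j j
      simp only [mul_assoc]
      rw [k1.left_comm, zpow_add]
      simp only [mul_assoc]
    calc x ^ (n + 1) * wrd e1 e2 e3 i j k * (x ^ (n + 1))⁻¹
        = x * (x ^ n * wrd e1 e2 e3 i j k * (x ^ n)⁻¹) * x⁻¹ := by rw [pow_succ']; group
      _ = wrd e1 e2 e3 (i + j * (n + 1 : ℕ)) j k := by
          rw [ih, e]; congr 1; push_cast; ring

/-- Powers of `w * x ^ t`. -/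
theorem pow_formula (t : ℕ) (i j k : ℤ) (n : ℕ) :
    (wrd e1 e2 e3 i j k * x ^ t) ^ n =
      wrd e1 e2 e3 (n * i + (n.choose 2 : ℕ) * t * j) (n * j) (n * k) * x ^ (t * n) := by
  induction n with
  | zero => simp [wrd]
  | succ n ih =>
    rw [pow_succ, ih]
    calc wrd e1 e2 e3 (n * i + (n.choose 2 : ℕ) * t * j) (n * j) (n * k) * x ^ (t * n) *
          (wrd e1 e2 e3 i j k * x ^ t)
        = wrd e1 e2 e3 (n * i + (n.choose 2 : ℕ) * t * j) (n * j) (n * k) *
            (x ^ (t * n) * wrd e1 e2 e3 i j k * (x ^ (t * n))⁻¹) * (x ^ (t * n) * x ^ t) := by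
          group
      _ = _ := by
          rw [B.x_conj, B.wrd_mul, ← pow_add, ← Nat.mul_succ]
          congr 1
          refine B.wrd_congr ?_ ?_ ?_ <;>
            simp [Nat.choose_succ_succ'] <;> ring

variable [Finite Q]

/-- The normal form of an element. -/
theorem exists_norm (q : Q) : ∃ (i j k : ℤ) (t : ℕ), q = wrd e1 e2 e3 i j k * x ^ t := by
  obtain ⟨c1, c2, c3, c4⟩ : e1 ∈ Subgroup.closure {e1, e2, e3} ∧ e2 ∈ Subgroup.closure {e1, e2, e3}
      ∧ e3 ∈ Subgroup.closure {e1, e2, e3} ∧ True :=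
    ⟨Subgroup.subset_closure (by simp), Subgroup.subset_closure (by simp),
      Subgroup.subset_closure (by simp), trivial⟩
  have hq : q ∈ Submonoid.closure ({e1, e2, e3, x} : Set Q) := by
    rw [← Subgroup.closure_toSubmonoid_of_finite, B.gen]
    trivial
  induction hq using Submonoid.closure_induction with
  | mem y hy =>
    rcases hy with rfl | rfl | rfl | rfl
    · exact ⟨1, 0, 0, 0, by simp [wrd]⟩
    · exact ⟨0, 1, 0, 0, by simp [wrd]⟩
    · exact ⟨0, 0, 1, 0, by simp [wrd]⟩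
    · exact ⟨0, 0, 0, 1, by simp [wrd]⟩
  | one => exact ⟨0, 0, 0, 0, by simp [wrd]⟩
  | mul a b _ _ ha hb =>
    obtain ⟨i, j, k, t, rfl⟩ := ha
    obtain ⟨i', j', k', t', rfl⟩ := hb
    refine ⟨i + (i' + j' * t), j + j', k + k', t + t', ?_⟩
    calc wrd e1 e2 e3 i j k * x ^ t * (wrd e1 e2 e3 i' j' k' * x ^ t')
        = wrd e1 e2 e3 i j k * (x ^ t * wrd e1 e2 e3 i' j' k' * (x ^ t)⁻¹) * (x ^ t * x ^ t') := by
          group
      _ = _ := by rw [B.x_conj, B.wrd_mul, ← pow_add]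

variable [hp : Fact p.Prime]

/-- The exponents of `x` are determined modulo `p`. -/
theorem x_pow_mem {t : ℕ} (h : x ^ t ∈ Subgroup.closure {e1, e2, e3}) : p ∣ t := by
  by_contra hd
  obtain ⟨c, hc⟩ := Nat.exists_mul_mod_eq_one_of_coprime
    ((hp.out.coprime_iff_not_dvd.2 hd).symm) hp.out.one_lt
  refine B.hx ?_
  have e : x = (x ^ p) ^ (t * c / p) * (x ^ t) ^ c → x ∈ Subgroup.closure {e1, e2, e3} := fun e =>
    e ▸ mul_mem (pow_mem B.hxp _) (pow_mem h _)
  have h1 : t * c % p = 1 := hc.2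
  have h2 := Nat.div_add_mod (t * c) p
  rw [h1] at h2
  have h3 : x = ((x ^ p) ^ (t * c / p))⁻¹ * (x ^ t) ^ c := by
    rw [← pow_mul, ← pow_mul]
    generalize t * c / p = d at h2 ⊢
    rw [← h2, pow_add, pow_one, inv_mul_cancel_left]
  rw [h3]
  exact mul_mem (inv_mem (pow_mem B.hxp _)) (pow_mem h _)

theorem norm_congr {i j k i' j' k' : ℤ} {t t' : ℕ}
    (h : wrd e1 e2 e3 i j k * x ^ t = wrd e1 e2 e3 i' j' k' * x ^ t') :
    (t : ZMod p) = t' := by
  wlog hle : t ≤ t' generalizing i j k i' j' k' t t'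
  · exact (this h.symm (le_of_not_ge hle)).symm
  obtain ⟨d, rfl⟩ := Nat.exists_eq_add_of_le hle
  have hd : x ^ d ∈ Subgroup.closure {e1, e2, e3} := by
    rw [add_comm t d, pow_add, ← mul_assoc, mul_left_inj] at h
    have e : x ^ d = (wrd e1 e2 e3 i' j' k')⁻¹ * wrd e1 e2 e3 i j k := by
      rw [h, inv_mul_cancel_left]
    rw [e]
    exact mul_mem (inv_mem (B.wrd_mem _ _ _)) (B.wrd_mem i j k)
  obtain ⟨c, rfl⟩ := B.x_pow_mem hd
  simp

/-- `x` has order `p`. -/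
theorem x_pow_p (hp5 : 5 ≤ p) {β : MulAut Q} {a b : ℕ} (T : Torus p e1 e2 e3 x β a b) :
    x ^ p = 1 := by
  obtain ⟨i, j, k, hw⟩ := B.mem_closure B.hxp
  have hj : (j : ZMod p) = 0 := by
    have e : x * x ^ p * x⁻¹ = x ^ p := by group
    rw [hw] at e
    have e' := B.x_conj 1 i j k
    rw [pow_one, e] at e'
    have := (B.wrd_inj e').1
    push_cast at this
    simpa using this
  obtain ⟨z1, z2, z3, hz⟩ := B.mem_closure T.bx
  have hbx : β x = wrd e1 e2 e3 z1 z2 z3 * x ^ (a * a) := by rw [← hz]; group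
  have e0 := congrArg β hw
  rw [map_pow, hbx, B.pow_formula, mul_comm (a * a) p, pow_mul, hw, B.wrd_pow, B.wrd_mul,
    show β (wrd e1 e2 e3 i j k) = wrd e1 e2 e3 (a * i) (b * j) k by
      simp [wrd, T.b1, T.b2, T.b3, ← zpow_natCast, ← zpow_mul]] at e0
  obtain ⟨h1, -, h3⟩ := B.wrd_inj e0
  have hch : ((p.choose 2 : ℕ) : ZMod p) = 0 :=
    (ZMod.natCast_eq_zero_iff _ _).2 (hp.out.dvd_choose_self two_ne_zero (by omega))
  push_cast at h1 h3
  rw [hch] at h1
  simp only [ZMod.natCast_self, zero_mul, zero_add] at h1 h3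
  have ha0 : (a : ZMod p) ≠ 0 := fun h => by simpa [h] using T.hab
  have hi : (i : ZMod p) = 0 :=
    (mul_eq_zero.1 (show ((a : ZMod p) * ((a : ZMod p) - 1)) * i = 0 by
      linear_combination h1)).resolve_left (mul_ne_zero ha0 (sub_ne_zero.2 fun h =>
        T.ha2 (by rw [h]; ring)))
  have hk : (k : ZMod p) = 0 :=
    (mul_eq_zero.1 (show ((a : ZMod p) ^ 2 - 1) * k = 0 by
      linear_combination h3)).resolve_left (sub_ne_zero.2 T.ha2)
  rw [hw, B.wrd_congr (i' := 0) (j' := 0) (k' := 0) (by simpa using hi) (by simpa using hj)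
    (by simpa using hk)]
  simp [wrd]

theorem exp_p (hp5 : 5 ≤ p) (hx1 : x ^ p = 1) (q : Q) : q ^ p = 1 := by
  obtain ⟨i, j, k, t, rfl⟩ := B.exists_norm q
  rw [B.pow_formula, pow_mul', hx1, one_pow, mul_one,
    B.wrd_congr (i' := 0) (j' := 0) (k' := 0)]
  · simp [wrd]
  · push_cast
    rw [(ZMod.natCast_eq_zero_iff (p.choose 2) p).2 (hp.out.dvd_choose_self two_ne_zero (by omega))]
    simp
  · simp
  · simp

/-- The torus has an eigenvector outside `⟨e1, e2, e3⟩`. -/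
theorem exists_eigen (hp5 : 5 ≤ p) {β : MulAut Q} {a b : ℕ} (T : Torus p e1 e2 e3 x β a b) :
    ∃ i j k : ℤ, β (wrd e1 e2 e3 i j k * x) = (wrd e1 e2 e3 i j k * x) ^ (a * a) := by
  obtain ⟨z1, z2, z3, hz⟩ := B.mem_closure T.bx
  have hbx : β x = wrd e1 e2 e3 z1 z2 z3 * x ^ (a * a) := by rw [← hz]; group
  set A := (a : ZMod p)
  set m : ℕ := a * a
  have ha0 : A ≠ 0 := fun h => by
    have := T.hab
    push_cast at this
    rw [show (a : ZMod p) = 0 from h, zero_mul] at this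
    exact zero_ne_one this
  have hb : (b : ZMod p) = A⁻¹ := by
    have := T.hab
    push_cast at this
    exact eq_inv_of_mul_eq_one_right this
  have hA1 : A ≠ 1 := fun h => T.ha2 (by rw [show (a : ZMod p) = 1 from h]; ring)
  have n1 : A * A - A ≠ 0 := by
    rw [← mul_sub_one]; exact mul_ne_zero ha0 (sub_ne_zero.2 hA1)
  have n2 : A * A - A⁻¹ ≠ 0 := fun h => T.ha3 (by
    have h' := congrArg (· * A) h
    simp only [sub_mul, zero_mul, inv_mul_cancel₀ ha0] at h'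
    linear_combination h')
  have n3 : A * A - 1 ≠ 0 := fun h => T.ha2 (by linear_combination h)
  set v : ZMod p := (z2 : ZMod p) / (A * A - A⁻¹) with hv
  set s : ZMod p := (z3 : ZMod p) / (A * A - 1) with hs
  set u : ZMod p := ((z1 : ZMod p) - (m.choose 2 : ℕ) * v) / (A * A - A) with hu
  refine ⟨u.val, v.val, s.val, ?_⟩
  have e := B.pow_formula 1 u.val v.val s.val m
  rw [pow_one, one_mul] at e
  rw [e, map_mul, hbx, show β (wrd e1 e2 e3 u.val v.val s.val) =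
      wrd e1 e2 e3 (a * u.val) (b * v.val) s.val by
    simp [wrd, T.b1, T.b2, T.b3, ← zpow_natCast, ← zpow_mul], ← mul_assoc, B.wrd_mul, mul_left_inj]
  refine B.wrd_congr ?_ ?_ ?_
  · push_cast
    rw [ZMod.natCast_zmod_val, ZMod.natCast_zmod_val]
    have := div_mul_cancel₀ ((z1 : ZMod p) - (m.choose 2 : ℕ) * v) n1
    rw [← hu] at this
    simp only [m, A] at this ⊢
    push_cast
    linear_combination -this
  · push_cast
    rw [ZMod.natCast_zmod_val, hb]
    have := div_mul_cancel₀ (z2 : ZMod p) n2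
    rw [← hv] at this
    simp only [m, A] at this ⊢
    push_cast
    linear_combination -this
  · push_cast
    rw [ZMod.natCast_zmod_val]
    have := div_mul_cancel₀ (z3 : ZMod p) n3
    rw [← hs] at this
    simp only [m, A] at this ⊢
    push_cast
    linear_combination -this

end Base

end Cfsg.Agent.FusRankThree
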