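import Cfsg.Agent.FusRankThree.JordanTools

/-!
# The single Jordan block case (S5180)
-/

set_option autoImplicit false
set_option linter.unusedSectionVars false
set_option linter.style.haveILetI false

open Cfsg
open scoped commutatorElement IsMulCommutative

namespace Cfsg.Agent.FusRankThree

universe u

open Jordan in
set_option maxHeartbeats 1600000 in
theorem jordan_false {p : ℕ} [Fact p.Prime] (hp : 5 ≤ p) {N : Type u} [Group N] [Finite N]
    (hN : IsPGroup p N) (h3 : RankThree p N) {E : Subgroup N} (hE : E.index = p)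
    (hV : (frattini E).index = p ^ 3)
    (hirr : ∀ X : Subgroup E, X.Characteristic → frattini E ≤ X → X = frattini E ∨ X = ⊤)
    {e : N} (he : e ∈ E)
    (hJ : ∀ x : N, x ∉ E → ⁅⁅e, x⁆, x⁆ ∉ (frattini E).map E.subtype)
    (γ : MulAut N) (hγp : ∃ k : ℕ, γ ^ p ^ k = 1) (hγ : E.map γ.toMonoidHom ≠ E) : False := by
  have hpp : p.Prime := Fact.out
  have hodd : Odd p := hpp.odd_of_ne_two (by omega)
  have hEP : IsPGroup p E := hN.to_subgroup E
  have hγinj : Function.Injective γ.toMonoidHom := γ.injective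
  have hγsurj : Function.Surjective γ.toMonoidHom := γ.surjective
  have cmm : ∀ {A B : Subgroup N} {a b : N}, a ∈ A → b ∈ B → ⁅a, b⁆ ∈ ⁅A, B⁆ := fun ha hb =>
    Subgroup.commutator_mem_commutator ha hb
  -- a subgroup of index `p` is normal, contains the powers and the commutators
  have maxfacts : ∀ A : Subgroup N, A.index = p →
      A.Normal ∧ (∀ a : N, a ^ p ∈ A) ∧ (∀ a b : N, ⁅a, b⁆ ∈ A) ∧ IsCoatom A := by
    intro A hA
    have hco : IsCoatom A := by
      refine ⟨fun h => hpp.ne_one (by rw [← hA, h, Subgroup.index_top]), fun B hB => ?_⟩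
      exact (between hB.le le_top (by rw [Subgroup.relIndex_top_right, hA])).resolve_left hB.ne'
    haveI hn : A.Normal := Cfsg.Agent.PGroup.normal_of_isCoatom hN hco
    refine ⟨hn, fun a => ?_, fun a b => ?_, hco⟩
    · exact frattini_le_coatom hco (Cfsg.Agent.PGroup.pow_mem_frattini hN a)
    · exact frattini_le_coatom hco (Cfsg.Agent.PGroup.commutatorElement_mem_frattini hN a b)
  obtain ⟨hEn, hEpow, hEcom, hEco⟩ := maxfacts E hE
  obtain ⟨E', hE'⟩ : ∃ E', E' = E.map γ.toMonoidHom := ⟨_, rfl⟩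
  have hE'i : E'.index = p := by
    rw [hE']; exact (Subgroup.index_map_of_bijective γ.bijective E).trans hE
  obtain ⟨hE'n, hE'pow, hE'com, hE'co⟩ := maxfacts E' hE'i
  have hEE' : E' ≠ E := by rw [hE']; exact hγ
  haveI := hEn
  haveI := hE'n
  obtain ⟨W, hWdef⟩ : ∃ W, W = E ⊓ E' := ⟨_, rfl⟩
  haveI hWn : W.Normal := hWdef ▸ Subgroup.normal_inf_normal E E'
  have hWE : W ≤ E := hWdef ▸ inf_le_left
  have hWE' : W ≤ E' := hWdef ▸ inf_le_right
  have hWrel : W.relIndex E = p := by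
    have h1 : E'.relIndex E ∣ p := hE'i ▸ Subgroup.relIndex_dvd_index_of_normal E' E
    rw [hWdef, Subgroup.inf_relIndex_left]
    refine ((hpp.eq_one_or_self_of_dvd _ h1).resolve_left fun h => hEE' ?_)
    have h2 := Subgroup.relIndex_eq_one.mp h
    exact ((hEco.le_iff.mp h2).resolve_left hE'co.1)
  -- `D = Φ(E)`
  obtain ⟨D, hDdef⟩ : ∃ D, D = (frattini E).map E.subtype := ⟨_, rfl⟩
  haveI hDn : D.Normal := hDdef ▸ inferInstance
  rw [← hDdef] at hJ
  have hDE : D ≤ E := hDdef ▸ Subgroup.map_subtype_le _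
  have hDΦ : D ≤ frattini N := hDdef ▸ Cfsg.Agent.PGroup.map_subtype_frattini_le hN E
  have hDW : D ≤ W := hWdef ▸ le_inf hDE (hDΦ.trans (frattini_le_coatom hE'co))
  have hDmem : ∀ v : E, (v : N) ∈ D ↔ v ∈ frattini E := fun v => by
    rw [hDdef, Subgroup.mem_map]
    exact ⟨fun ⟨w, hw, hwv⟩ => by rwa [← Subtype.ext hwv], fun hv => ⟨v, hv, rfl⟩⟩
  have hDc : ∀ a ∈ E, ∀ b ∈ E, ⁅a, b⁆ ∈ D := fun a ha b hb =>
    (hDmem ⁅⟨a, ha⟩, ⟨b, hb⟩⁆).2 (Cfsg.Agent.PGroup.commutatorElement_mem_frattini hEP _ _)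
  have hDp : ∀ a ∈ E, a ^ p ∈ D := fun a ha =>
    (hDmem (⟨a, ha⟩ ^ p)).2 (Cfsg.Agent.PGroup.pow_mem_frattini hEP _)
  have hDrelE : D.relIndex E = p ^ 3 := by
    have hsub : D.subgroupOf E = frattini E := by
      rw [hDdef]; exact Subgroup.comap_map_eq_self_of_injective E.subtype_injective _
    rw [Subgroup.relIndex, hsub, hV]
  have hDrelW : D.relIndex W = p ^ 2 := by
    have h := Subgroup.relIndex_mul_relIndex D W E hDW hWE
    rw [hWrel, hDrelE, pow_succ p 2] at h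
    exact Nat.eq_of_mul_eq_mul_right hpp.pos h
  -- the chain `W > C > D` for any element outside `E`
  obtain ⟨C, hCdef⟩ : ∃ C, C = ⁅W, (⊤ : Subgroup N)⁆ ⊔ D := ⟨_, rfl⟩
  haveI hCn : C.Normal := hCdef ▸ inferInstance
  have hDC : D ≤ C := hCdef ▸ le_sup_right
  have hCW : C ≤ W := hCdef ▸ sup_le (Subgroup.commutator_le_left W ⊤) hDW
  have hC1 : D.relIndex C ≤ p := by
    rw [hCdef]; simpa using relIndex_step hN hDW (k := 1) hDrelW.le
  have hCD : ∀ c ∈ C, ∀ n : N, ⁅c, n⁆ ∈ D := fun c hc n =>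
    commutator_le_of_relIndex hN hDC hC1 (cmm hc (Subgroup.mem_top n))
  have heW : e ∉ W := by
    intro heW
    obtain ⟨x0, hx0, hx0E⟩ : ∃ x, x ∈ E' ∧ x ∉ E := by
      refine Set.not_subset.mp fun h => hEE' ?_
      exact (hE'co.le_iff.mp (show E' ≤ E from h)).resolve_left hEco.1 |>.symm
    exact hJ x0 hx0E (hCD _ (hCdef ▸ Subgroup.mem_sup_left (cmm heW (Subgroup.mem_top x0))) x0)
  have gen2 : ∀ x : N, x ∉ E → ⁅e, x⁆ ∈ W ∧ ⁅e, x⁆ ∉ C ∧ ⁅⁅e, x⁆, x⁆ ∈ C ∧ ⁅⁅e, x⁆, x⁆ ∉ D ∧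
      ∀ S : Subgroup N, D ≤ S → ⁅⁅e, x⁆, x⁆ ∈ S → C ≤ S ∧ (⁅e, x⁆ ∈ S → W ≤ S) := by
    intro x hx
    have hz := hJ x hx
    have he1 : ⁅e, x⁆ ∈ W := by rw [hWdef]; exact ⟨hEcom e x, hE'com e x⟩
    have hzC : ⁅⁅e, x⁆, x⁆ ∈ C := hCdef ▸ Subgroup.mem_sup_left (cmm he1 (Subgroup.mem_top x))
    have he1C : ⁅e, x⁆ ∉ C := fun h => hz (hCD _ h x)
    have hlt : D < C := lt_of_le_not_ge hDC fun h => hz (h hzC)
    have hDrelC : D.relIndex C = p := le_antisymm hC1 (le_relIndex_of_lt hN hlt)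
    have hCrelW : C.relIndex W = p := by
      have h := Subgroup.relIndex_mul_relIndex D C W hDC hCW
      rw [hDrelC, hDrelW, sq] at h
      exact Nat.eq_of_mul_eq_mul_left hpp.pos h
    refine ⟨he1, he1C, hzC, hz, fun S hDS hzS => ?_⟩
    have hCS : C ≤ S := by
      rcases between (le_inf hDC hDS) inf_le_left hDrelC with h | h
      · exact absurd (h.le ⟨hzC, hzS⟩) hz
      · exact inf_eq_left.mp h
    refine ⟨hCS, fun he1S => ?_⟩
    rcases between (le_inf hCW hCS) inf_le_left hCrelW with h | h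
    · exact absurd (h.le ⟨he1, he1S⟩) he1C
    · exact inf_eq_left.mp h
  have hWΦ : W = frattini N := by
    refine le_antisymm ?_ ?_
    · obtain ⟨x0, hx0⟩ : ∃ x, x ∉ E := by
        by_contra! h
        exact hEco.1 (eq_top_iff.mpr fun v _ => h v)
      obtain ⟨-, -, -, -, hgen⟩ := gen2 x0 hx0
      exact (hgen _ hDΦ (Cfsg.Agent.PGroup.commutatorElement_mem_frattini hN _ _)).2
        (Cfsg.Agent.PGroup.commutatorElement_mem_frattini hN _ _)
    · rw [hWdef]; exact le_inf (frattini_le_coatom hEco) (frattini_le_coatom hE'co)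
  have hγW : W.map γ.toMonoidHom = W := by
    rw [hWΦ]; exact Cfsg.Agent.PGroup.map_frattini hN _ hγsurj
  have hγmem : ∀ a : N, γ a ∈ W ↔ a ∈ W := fun a => by
    conv_lhs => rw [← hγW]
    exact Subgroup.mem_map_iff_mem hγinj
  obtain ⟨x, hxdef⟩ : ∃ x, x = γ e := ⟨_, rfl⟩
  have hxE' : x ∈ E' := by rw [hxdef, hE']; exact ⟨e, he, rfl⟩
  have hxE : x ∉ E := fun h => heW ((hγmem e).1 (by
    rw [← hxdef, hWdef]; exact ⟨h, hxE'⟩))
  obtain ⟨e1, he1def⟩ : ∃ e1, e1 = ⁅e, x⁆ := ⟨_, rfl⟩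
  obtain ⟨z, hzdef⟩ : ∃ z, z = ⁅e1, x⁆ := ⟨_, rfl⟩
  obtain ⟨he1W, he1C, hzC, hzD, hgen⟩ := gen2 x hxE
  rw [← he1def] at he1W he1C hzC hzD hgen
  rw [← hzdef] at hzC hzD hgen
  -- `D' = γ(D)`
  obtain ⟨D', hD'def⟩ : ∃ D', D' = D.map γ.toMonoidHom := ⟨_, rfl⟩
  haveI hD'n : D'.Normal := hD'def ▸ Subgroup.Normal.map inferInstance _ hγsurj
  have hD'W : D' ≤ W := by
    rw [hD'def, ← hγW]; exact Subgroup.map_mono hDW
  have hD'rel : D'.relIndex W = p ^ 2 := by
    rw [hD'def, ← hγW, Subgroup.relIndex_map_map_of_injective _ _ hγinj, hDrelW]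
  have hD'c : ∀ a ∈ E', ∀ b ∈ E', ⁅a, b⁆ ∈ D' := by
    rw [hE', hD'def]
    rintro _ ⟨a, ha, rfl⟩ _ ⟨b, hb, rfl⟩
    exact ⟨⁅a, b⁆, hDc a ha b hb, map_commutatorElement _ _ _⟩
  have hD'p : ∀ a ∈ E', a ^ p ∈ D' := by
    rw [hE', hD'def]
    rintro _ ⟨a, ha, rfl⟩
    exact ⟨a ^ p, hDp a ha, map_pow _ _ _⟩
  have hzD' : z ∈ D' := hzdef ▸ hD'c _ (hWE' he1W) _ hxE'
  have hsupne : D ⊔ D' ≠ W := by
    intro hW
    have hH : ((Subgroup.zpowers e ⊔ D').subgroupOf E) ⊔ frattini E = ⊤ := by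
      rw [eq_top_iff]
      have hWlt : W < Subgroup.zpowers e ⊔ W :=
        lt_of_le_not_ge le_sup_right fun h => heW (h (Subgroup.mem_sup_left
          (Subgroup.mem_zpowers e)))
      have hgenE : Subgroup.zpowers e ⊔ W = E :=
        ((between le_sup_right (sup_le (by rwa [Subgroup.zpowers_le]) hWE) hWrel).resolve_left
          hWlt.ne')
      rintro ⟨v, hv⟩ -
      rw [← hgenE, ← hW, sup_comm D D', ← sup_assoc] at hv
      obtain ⟨a, ha, d, hd, had⟩ := Subgroup.mem_sup_of_normal_right.mp hv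
      have haE : a ∈ E := (sup_le (by rwa [Subgroup.zpowers_le]) (hD'W.trans hWE) :
        Subgroup.zpowers e ⊔ D' ≤ E) ha
      have hd2 : (⟨d, hDE hd⟩ : E) ∈ frattini E := (hDmem _).1 hd
      have heq : ((⟨v, by rw [← hgenE, ← hW, sup_comm D D', ← sup_assoc]; exact hv⟩ : E)) =
          ⟨a, haE⟩ * ⟨d, hDE hd⟩ := Subtype.ext had.symm
      rw [heq]
      exact Subgroup.mul_mem_sup (Subgroup.mem_subgroupOf.2 ha) hd2
    have hEle : E ≤ Subgroup.zpowers e ⊔ D' :=
      Subgroup.subgroupOf_eq_top.mp (Cfsg.Agent.PGroup.eq_top_of_sup_frattini hH)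
    have hWle : W ≤ D' ⊔ Subgroup.zpowers (e ^ p) := by
      intro w hw
      obtain ⟨a, ha, d, hd, rfl⟩ := Subgroup.mem_sup_of_normal_right.mp (hEle (hWE hw))
      obtain ⟨i, rfl⟩ := Subgroup.mem_zpowers_iff.mp ha
      have hi : e ^ i ∈ W := by
        have := mul_mem hw (inv_mem (hD'W hd))
        rwa [mul_inv_cancel_right] at this
      obtain ⟨m, rfl⟩ := dvd_of_zpow_mem heW (hDW (hDp e he)) hi
      refine mul_mem (Subgroup.mem_sup_right ?_) (Subgroup.mem_sup_left hd)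
      rw [zpow_mul, zpow_natCast]
      exact Subgroup.zpow_mem_zpowers _ m
    have hep : (e ^ p) ^ p ∈ D' := hD'p _ (hWE' (hDW (hDp e he)))
    have h1 := Cfsg.Agent.PGroup.card_sup_zpowers_le hpp.pos hep
    have h2 : Nat.card W ≤ Nat.card ↥(D' ⊔ Subgroup.zpowers (e ^ p)) := Subgroup.card_le_of_le hWle
    have h3' : Nat.card D' * D'.relIndex W = Nat.card W := by
      rw [← Subgroup.relIndex_bot_left, ← Subgroup.relIndex_bot_left]
      exact Subgroup.relIndex_mul_relIndex ⊥ D' W bot_le hD'W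
    rw [hD'rel] at h3'
    have h4 : Nat.card D' * p ^ 2 ≤ Nat.card D' * p := by rw [h3']; exact le_trans h2 h1
    have h5 := Nat.le_of_mul_le_mul_left h4 Nat.card_pos
    nlinarith
  have hsup : D ⊔ D' = C := by
    obtain ⟨hCle, -⟩ := hgen _ le_sup_left (Subgroup.mem_sup_right hzD')
    have hlt : D < C := lt_of_le_not_ge hDC fun h => hzD (h hzC)
    have hDrelC : D.relIndex C = p := le_antisymm hC1 (le_relIndex_of_lt hN hlt)
    have hCrelW : C.relIndex W = p := by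
      have h := Subgroup.relIndex_mul_relIndex D C W hDC hCW
      rw [hDrelC, hDrelW, sq] at h
      exact Nat.eq_of_mul_eq_mul_left hpp.pos h
    exact (between hCle (sup_le hDW hD'W) hCrelW).resolve_right hsupne
  have hCrelW : C.relIndex W = p := by
    have hlt : D < C := lt_of_le_not_ge hDC fun h => hzD (h hzC)
    have h := Subgroup.relIndex_mul_relIndex D C W hDC hCW
    rw [le_antisymm hC1 (le_relIndex_of_lt hN hlt), hDrelW, sq] at h
    exact Nat.eq_of_mul_eq_mul_left hpp.pos h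
  -- `D₀ = D ∩ D'`
  obtain ⟨D0, hD0def⟩ : ∃ D0, D0 = D ⊓ D' := ⟨_, rfl⟩
  haveI hD0n : D0.Normal := hD0def ▸ Subgroup.normal_inf_normal D D'
  have hD0D : D0 ≤ D := hD0def ▸ inf_le_left
  have hD0D' : D0 ≤ D' := hD0def ▸ inf_le_right
  have hD'C : D' ≤ C := hsup ▸ le_sup_right
  have hD0relD : D0.relIndex D = p := by
    rw [hD0def, Subgroup.inf_relIndex_left, ← Subgroup.relIndex_sup_right (H := D) (K := D'), hsup]
    have h := Subgroup.relIndex_mul_relIndex D' C W hD'C hCW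
    rw [hCrelW, hD'rel, sq] at h
    exact Nat.eq_of_mul_eq_mul_right hpp.pos h
  have hD0relW : D0.relIndex W = p ^ 3 := by
    rw [← Subgroup.relIndex_mul_relIndex D0 D W hD0D hDW, hD0relD, hDrelW]; ring
  have hD0relD' : D0.relIndex D' = p := by
    have h := Subgroup.relIndex_mul_relIndex D0 D' W hD0D' hD'W
    rw [hD'rel, hD0relW, pow_succ' p 2] at h
    exact Nat.eq_of_mul_eq_mul_right (pow_pos hpp.pos 2) h
  have hWc : ∀ a ∈ W, ∀ b ∈ W, ⁅a, b⁆ ∈ D0 := fun a ha b hb => by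
    rw [hD0def]; exact ⟨hDc a (hWE ha) b (hWE hb), hD'c a (hWE' ha) b (hWE' hb)⟩
  have hWp : ∀ a ∈ W, a ^ p ∈ D0 := fun a ha => by
    rw [hD0def]; exact ⟨hDp a (hWE ha), hD'p a (hWE' ha)⟩
  have hγD0 : ∀ d ∈ D0, γ d ∈ D0 := by
    obtain ⟨R0, hR0⟩ : ∃ R0, R0 = Subgroup.closure ({n : N | ∃ a ∈ W, n = a ^ p} ∪
        {n : N | ∃ a ∈ W, ∃ b ∈ W, n = ⁅a, b⁆}) := ⟨_, rfl⟩
    have hR0D0 : R0 ≤ D0 := by
      rw [hR0, Subgroup.closure_le]
      rintro n (⟨a, ha, rfl⟩ | ⟨a, ha, b, hb, rfl⟩)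
      · exact hWp a ha
      · exact hWc a ha b hb
    have hle : R0.relIndex W ≤ p ^ 3 :=
      h3 W R0 (hR0D0.trans (hD0D.trans hDW))
        (fun a ha => hR0 ▸ Subgroup.subset_closure (Or.inl ⟨a, ha, rfl⟩))
        (fun a ha b hb => hR0 ▸ Subgroup.subset_closure
          (Or.inr ⟨a, ha, b, hb, (commutatorElement_def a b).symm⟩))
    have heq : R0 = D0 := by
      rcases eq_or_lt_of_le hR0D0 with h | h
      · exact h
      · have h1 := le_relIndex_of_lt hN h
        rw [← Subgroup.relIndex_mul_relIndex R0 D0 W hR0D0 (hD0D.trans hDW), hD0relW] at hle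
        have h2 : R0.relIndex D0 ≤ 1 := Nat.le_of_mul_le_mul_right
          (show R0.relIndex D0 * p ^ 3 ≤ 1 * p ^ 3 by simpa using hle) (pow_pos hpp.pos 3)
        omega
    intro d hd
    have hinv : R0.map γ.toMonoidHom ≤ D0 := by
      rw [hR0, MonoidHom.map_closure, Subgroup.closure_le]
      rintro _ ⟨n, (⟨a, ha, rfl⟩ | ⟨a, ha, b, hb, rfl⟩), rfl⟩
      · show γ (a ^ p) ∈ D0
        rw [map_pow]; exact hWp _ ((hγmem a).2 ha)
      · show γ ⁅a, b⁆ ∈ D0
        rw [map_commutatorElement]; exact hWc _ ((hγmem a).2 ha) _ ((hγmem b).2 hb)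
    exact hinv ⟨d, heq.symm ▸ hd, rfl⟩
  -- `C` is central modulo `D₀`
  obtain ⟨π0, hπ0⟩ : ∃ π0 : N →* N ⧸ D0, π0 = QuotientGroup.mk' D0 := ⟨_, rfl⟩
  have hπ0mem : ∀ a : N, π0 a = 1 ↔ a ∈ D0 := fun a => by
    rw [hπ0]; exact QuotientGroup.eq_one_iff a
  have hπ0surj : Function.Surjective π0 := hπ0 ▸ QuotientGroup.mk'_surjective D0
  have hCc : ∀ c ∈ C, ∀ n : N, ⁅c, n⁆ ∈ D0 := by
    have hcent : C ≤ (Subgroup.center (N ⧸ D0)).comap π0 := by
      rw [← hsup]
      refine sup_le (fun c hc => ?_) (fun c hc => ?_) <;>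
      · rw [Subgroup.mem_comap, Subgroup.mem_center_iff]
        intro q
        obtain ⟨n, rfl⟩ := hπ0surj q
        refine ((commutatorElement_eq_one_iff_mul_comm).1 ?_).symm
        rw [← map_commutatorElement, hπ0mem]
        first
          | exact commutator_le_of_relIndex hN hD0D hD0relD.le (cmm hc (Subgroup.mem_top n))
          | exact commutator_le_of_relIndex hN hD0D' hD0relD'.le (cmm hc (Subgroup.mem_top n))
    intro c hc n
    rw [← hπ0mem, map_commutatorElement, commutatorElement_eq_one_iff_mul_comm]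
    exact (Subgroup.mem_center_iff.1 (hcent hc) (π0 n)).symm
  have he1zD0 : z ∉ D0 := fun h => hzD (hD0D h)
  have hγC : ∀ c ∈ C, γ c ∈ C := by
    intro c hc
    by_contra hnot
    have hγcW : γ c ∈ W := (hγmem c).2 (hCW hc)
    have hcentral : ∀ n : N, ⁅γ c, n⁆ ∈ D0 := fun n => by
      obtain ⟨m, rfl⟩ := γ.surjective n
      rw [← map_commutatorElement]; exact hγD0 _ (hCc c hc m)
    have hS : W ≤ (Subgroup.center (N ⧸ D0)).comap π0 := by
      have h1 : C ⊔ Subgroup.zpowers (γ c) = W :=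
        (between le_sup_left (sup_le hCW (by rwa [Subgroup.zpowers_le])) hCrelW).resolve_left
          fun h => hnot (h.le (Subgroup.mem_sup_right (Subgroup.mem_zpowers _)))
      rw [← h1]
      refine sup_le (fun d hd => ?_) ?_
      · rw [Subgroup.mem_comap, Subgroup.mem_center_iff]
        intro q
        obtain ⟨n, rfl⟩ := hπ0surj q
        refine ((commutatorElement_eq_one_iff_mul_comm).1 ?_).symm
        rw [← map_commutatorElement, hπ0mem]; exact hCc d hd n
      · rw [Subgroup.zpowers_le, Subgroup.mem_comap, Subgroup.mem_center_iff]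
        intro q
        obtain ⟨n, rfl⟩ := hπ0surj q
        refine ((commutatorElement_eq_one_iff_mul_comm).1 ?_).symm
        rw [← map_commutatorElement, hπ0mem]; exact hcentral n
    refine he1zD0 ?_
    rw [← hπ0mem, hzdef, map_commutatorElement, commutatorElement_eq_one_iff_mul_comm]
    exact (Subgroup.mem_center_iff.1 (hS he1W) (π0 x)).symm
  have hγe1 : γ e1 * e1⁻¹ ∈ C := by
    have hWgen : C ⊔ Subgroup.zpowers e1 = W :=
      (between le_sup_left (sup_le hCW (by rwa [Subgroup.zpowers_le])) hCrelW).resolve_left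
        fun h => he1C (h.le (Subgroup.mem_sup_right (Subgroup.mem_zpowers _)))
    obtain ⟨c, hc, g, hg, hcg⟩ := Subgroup.mem_sup_of_normal_left.mp
      (hWgen.symm ▸ (hγmem e1).2 he1W : γ e1 ∈ C ⊔ Subgroup.zpowers e1)
    obtain ⟨i, rfl⟩ := Subgroup.mem_zpowers_iff.mp hg
    have hkey : ∀ n : ℕ, (γ ^ n) e1 * (e1 ^ (i ^ n))⁻¹ ∈ C := by
      intro n
      induction n with
      | zero => simp
      | succ n ih =>
        have h1 : (γ ^ (n + 1)) e1 = γ ((γ ^ n) e1) := by rw [pow_succ']; rfl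
        obtain ⟨q, hq⟩ : ∃ q, q = QuotientGroup.mk' C := ⟨_, rfl⟩
        have hqm : ∀ a : N, q a = 1 ↔ a ∈ C := fun a => by
          rw [hq]; exact QuotientGroup.eq_one_iff a
        have h2 := (hqm _).2 (hγC _ ih)
        rw [map_mul γ, map_inv γ, map_zpow γ, ← hcg, map_mul, map_inv, map_zpow, map_mul,
          (hqm c).2 hc, one_mul, map_zpow, ← zpow_mul, mul_inv_eq_one, ← h1] at h2
        rw [← hqm, map_mul, map_inv, h2, map_zpow, pow_succ', mul_inv_eq_one]
    obtain ⟨k, hk⟩ := hγp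
    have h1 := hkey (p ^ k)
    rw [hk, MulAut.one_apply] at h1
    have he1p : e1 ^ p ∈ C := hDC (hDp e1 (hWE he1W))
    have h2 : e1 ^ (1 - i ^ p ^ k) ∈ C := by rw [zpow_sub, zpow_one]; exact h1
    have h3' := dvd_of_zpow_mem he1C he1p h2
    rw [← ZMod.intCast_zmod_eq_zero_iff_dvd, Int.cast_sub, Int.cast_one, Int.cast_pow,
      ZMod.pow_card_pow, sub_eq_zero] at h3'
    obtain ⟨m, hm⟩ : (p : ℤ) ∣ i - 1 := by
      rw [← ZMod.intCast_zmod_eq_zero_iff_dvd, Int.cast_sub, Int.cast_one, ← h3', sub_self]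
    rw [← hcg, show i = (p : ℤ) * m + 1 by omega, zpow_add, zpow_one, ← mul_assoc,
      mul_inv_cancel_right, zpow_mul, zpow_natCast]
    exact mul_mem hc (zpow_mem he1p m)
  -- generators of `E`
  have hEgen : ∀ S : Subgroup N, D ≤ S → e ∈ S → e1 ∈ S → z ∈ S → E ≤ S := by
    intro S hDS heS he1S hzS
    have hWS : W ≤ S := (hgen S hDS hzS).2 he1S
    rcases between (le_inf hWE hWS) inf_le_left hWrel with h | h
    · exact absurd (h.le ⟨he, heS⟩) heW
    · exact inf_eq_left.mp h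
  -- class two quotients of `E`
  obtain ⟨eE, heE⟩ : ∃ v : E, v = ⟨e, he⟩ := ⟨_, rfl⟩
  obtain ⟨e1E, he1E⟩ : ∃ v : E, v = ⟨e1, hWE he1W⟩ := ⟨_, rfl⟩
  obtain ⟨zE, hzE⟩ : ∃ v : E, v = ⟨z, hWE (hCW hzC)⟩ := ⟨_, rfl⟩
  have hΦmap : ∀ φ : E ≃* E, ∀ d ∈ frattini E, φ d ∈ frattini E := fun φ d hd =>
    (Subgroup.characteristic_iff_le_comap.mp (inferInstance : (frattini E).Characteristic)) φ hd
  have hquot : ∀ (L : Subgroup E) [L.Normal], (∀ d ∈ frattini E, ∀ v : E, ⁅v, d⁆ ∈ L) →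
      commutator (E ⧸ L) ≤ Subgroup.center (E ⧸ L) ∧
      ∀ q : E ⧸ L, q ^ p ∈ Subgroup.center (E ⧸ L) := by
    intro L _ hL
    have hd : ∀ d ∈ frattini E, (QuotientGroup.mk' L d) ∈ Subgroup.center (E ⧸ L) := by
      intro d hd
      rw [Subgroup.mem_center_iff]
      intro q
      obtain ⟨v, rfl⟩ := QuotientGroup.mk'_surjective L q
      rw [← commutatorElement_eq_one_iff_mul_comm, ← map_commutatorElement]
      exact (QuotientGroup.eq_one_iff _).2 (hL d hd v)
    refine ⟨?_, fun q => ?_⟩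
    · rw [commutator_eq_closure, Subgroup.closure_le]
      rintro _ ⟨a, b, rfl⟩
      obtain ⟨a, rfl⟩ := QuotientGroup.mk'_surjective L a
      obtain ⟨b, rfl⟩ := QuotientGroup.mk'_surjective L b
      rw [SetLike.mem_coe, ← map_commutatorElement]
      exact hd _ (Cfsg.Agent.PGroup.commutatorElement_mem_frattini hEP a b)
    · obtain ⟨v, rfl⟩ := QuotientGroup.mk'_surjective L q
      rw [← map_pow]; exact hd _ (Cfsg.Agent.PGroup.pow_mem_frattini hEP v)
  obtain ⟨G, hGdef⟩ : ∃ G : Set E, G = (frattini E : Set E) ∪ {eE, e1E, zE} := ⟨_, rfl⟩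
  have hGtop : Subgroup.closure G = ⊤ := by
    rw [eq_top_iff]
    intro v _
    have hsub : E ≤ (Subgroup.closure G).map E.subtype := by
      refine hEgen _ (fun d hd => ?_) ?_ ?_ ?_
      · exact ⟨⟨d, hDE hd⟩, Subgroup.subset_closure (hGdef ▸ Or.inl ((hDmem _).1 hd)), rfl⟩
      · exact ⟨eE, Subgroup.subset_closure (hGdef ▸ Or.inr (by simp)), by rw [heE]; rfl⟩
      · exact ⟨e1E, Subgroup.subset_closure (hGdef ▸ Or.inr (by simp)), by rw [he1E]; rfl⟩
      · exact ⟨zE, Subgroup.subset_closure (hGdef ▸ Or.inr (by simp)), by rw [hzE]; rfl⟩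
    obtain ⟨w, hw, hwv⟩ := hsub v.2
    rwa [← Subtype.ext hwv]
  -- facts modulo `D₀`
  obtain ⟨D0E, hD0E⟩ : ∃ L, L = D0.subgroupOf E := ⟨_, rfl⟩
  haveI hD0En : D0E.Normal := hD0E ▸ inferInstance
  have hD0Em : ∀ v : E, v ∈ D0E ↔ (v : N) ∈ D0 := fun v => by rw [hD0E]; exact Iff.rfl
  have hDD0 : ∀ d ∈ D, ∀ n : N, ⁅n, d⁆ ∈ D0 := fun d hd n => by
    rw [← commutatorElement_inv]
    exact inv_mem (commutator_le_of_relIndex hN hD0D hD0relD.le (cmm hd (Subgroup.mem_top n)))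
  obtain ⟨hD0cl, hD0pc⟩ := hquot D0E fun d hd v => (hD0Em _).2 (hDD0 d ((hDmem d).2 hd) v)
  have hezD0 : ⁅e, z⁆ ∈ D0 := by rw [← commutatorElement_inv]; exact inv_mem (hCc z hzC e)
  have he1zmem : ⁅e1, z⁆ ∈ D0 := hWc e1 he1W z (hCW hzC)
  have hpowD0 : e ^ p ∈ D0 → ∀ v : E, (v : N) ^ p ∈ D0 := by
    intro hA v
    have h1 : (QuotientGroup.mk' D0E v) ^ p ∈ (⊥ : Subgroup (E ⧸ D0E)) := by
      refine pow_mem_of_closure hD0cl hodd hD0pc (S := QuotientGroup.mk' D0E '' G) ?_ ?_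
      · rintro _ ⟨g, hg, rfl⟩
        rw [Subgroup.mem_bot, ← map_pow]
        refine (QuotientGroup.eq_one_iff _).2 ((hD0Em _).2 ?_)
        rw [hGdef] at hg
        rcases hg with hg | hg | hg | hg
        · exact hWp _ (hDW ((hDmem g).2 hg))
        · rw [hg, heE]; exact hA
        · rw [hg, he1E]; exact hWp _ he1W
        · rw [Set.mem_singleton_iff.mp hg, hzE]; exact hWp _ (hCW hzC)
      · rw [← MonoidHom.map_closure, hGtop]
        exact ⟨v, Subgroup.mem_top v, rfl⟩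
    rw [Subgroup.mem_bot, ← map_pow] at h1
    exact (hD0Em _).1 ((QuotientGroup.eq_one_iff _).1 h1)
  -- conjugation by `x`
  obtain ⟨cx, hcx⟩ : ∃ φ : E ≃* E, φ = MulAut.conjNormal x := ⟨_, rfl⟩
  have hcxv : ∀ v : E, ((cx v : E) : N) = x * v * x⁻¹ := fun v => by rw [hcx]; rfl
  obtain ⟨d1, hd1D, hd1⟩ : ∃ d1 ∈ D, x * z * x⁻¹ = z * d1 := by
    refine ⟨z⁻¹ * (x * z * x⁻¹), ?_, by rw [mul_inv_cancel_left]⟩
    have h1 := hCD _ hzC x
    have h2 : z⁻¹ * (x * z * x⁻¹) = z⁻¹ * ⁅z, x⁆⁻¹ * z := by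
      rw [commutatorElement_def]; group
    rw [h2]
    exact hDn.conj_mem' _ (inv_mem h1) z
  have hcxe : cx eE = e1E⁻¹ * eE := Subtype.ext (by
    rw [hcxv, heE, he1E]
    show x * e * x⁻¹ = e1⁻¹ * e
    rw [he1def, commutatorElement_def]; group)
  have hcxe1 : cx e1E = zE⁻¹ * e1E := Subtype.ext (by
    rw [hcxv, hzE, he1E]
    show x * e1 * x⁻¹ = z⁻¹ * e1
    rw [hzdef, commutatorElement_def]; group)
  have hcxz : cx zE = zE * ⟨d1, hDE hd1D⟩ := Subtype.ext (by
    rw [hcxv, hzE]; exact hd1)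
  have hd1Φ : (⟨d1, hDE hd1D⟩ : E) ∈ frattini E := (hDmem _).1 hd1D
  by_cases hA : e ^ p ∈ D0
  · -- the second case
    have hee1 : ⁅e, e1⁆ ∉ D0 := by
      intro hB
      have hcomm : ∀ a ∈ E, ∀ b ∈ E, a * b * a⁻¹ * b⁻¹ ∈ D0 := by
        intro a ha b hb
        have h1 : ⁅QuotientGroup.mk' D0E ⟨a, ha⟩, QuotientGroup.mk' D0E ⟨b, hb⟩⁆ ∈
            (⊥ : Subgroup (E ⧸ D0E)) := by
          refine commutator_mem_of_closure hD0cl (S := QuotientGroup.mk' D0E '' G) ?_ ?_ ?_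
          · rintro _ ⟨g, hg, rfl⟩ _ ⟨g', hg', rfl⟩
            rw [Subgroup.mem_bot, ← map_commutatorElement]
            refine (QuotientGroup.eq_one_iff _).2 ((hD0Em _).2 ?_)
            show ⁅(g : N), (g' : N)⁆ ∈ D0
            have hsym : ∀ a b : N, ⁅a, b⁆ ∈ D0 → ⁅b, a⁆ ∈ D0 := fun a b h => by
              rw [← commutatorElement_inv]; exact inv_mem h
            rw [hGdef] at hg hg'
            rcases hg with hg | hg | hg | hg
            · exact hsym _ _ (hDD0 _ ((hDmem g).2 hg) _)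
            all_goals rcases hg' with hg' | hg' | hg' | hg'
            all_goals first
              | exact hDD0 _ ((hDmem g').2 hg') _
              | (try simp only [Set.mem_singleton_iff] at hg
                 try simp only [Set.mem_singleton_iff] at hg'
                 rw [hg, hg']
                 simp only [heE, he1E, hzE]
                 first
                   | exact hB | exact hsym _ _ hB | exact hezD0 | exact hsym _ _ hezD0
                   | exact he1zmem | exact hsym _ _ he1zmem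
                   | (rw [commutatorElement_self]; exact one_mem D0))
          all_goals (rw [← MonoidHom.map_closure, hGtop]; exact ⟨_, Subgroup.mem_top _, rfl⟩)
        rw [Subgroup.mem_bot, ← map_commutatorElement] at h1
        have h2 := (hD0Em _).1 ((QuotientGroup.eq_one_iff _).1 h1)
        rw [← commutatorElement_def]; exact h2
      have hle := h3 E D0 (hD0D.trans hDE) (fun a ha => hpowD0 hA ⟨a, ha⟩) hcomm
      rw [← Subgroup.relIndex_mul_relIndex D0 W E (hD0D.trans hDW) hWE, hD0relW, hWrel] at hle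
      have : p ^ 3 * 1 < p ^ 3 * p := Nat.mul_lt_mul_of_pos_left hpp.one_lt (pow_pos hpp.pos 3)
      omega
    obtain ⟨L, hLdef⟩ : ∃ L : Subgroup E, L = Subgroup.closure
        ({v | ∃ a : E, v = a ^ p} ∪ {v | ∃ a : E, ∃ d ∈ frattini E, v = ⁅a, d⁆}) := ⟨_, rfl⟩
    haveI hLch : L.Characteristic := by
      rw [hLdef]
      refine characteristic_closure _ fun φ => ?_
      rintro s (⟨a, rfl⟩ | ⟨a, d, hd, rfl⟩)
      · exact Or.inl ⟨φ a, map_pow _ _ _⟩
      · exact Or.inr ⟨φ a, φ d, hΦmap φ d hd, map_commutatorElement _ _ _⟩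
    have hLD0 : ∀ v ∈ L, (v : N) ∈ D0 := by
      have : L ≤ D0E := by
        rw [hLdef, Subgroup.closure_le]
        rintro s (⟨a, rfl⟩ | ⟨a, d, hd, rfl⟩)
        · exact (hD0Em _).2 (hpowD0 hA a)
        · exact (hD0Em _).2 (hDD0 _ ((hDmem d).2 hd) a)
      exact fun v hv => (hD0Em v).1 (this hv)
    have hLd : ∀ d ∈ frattini E, ∀ v : E, ⁅v, d⁆ ∈ L := fun d hd v =>
      hLdef ▸ Subgroup.subset_closure (Or.inr ⟨v, d, hd, rfl⟩)
    obtain ⟨hQcl, hQpc⟩ := hquot L hLd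
    obtain ⟨π, hπ⟩ : ∃ π : E →* E ⧸ L, π = QuotientGroup.mk' L := ⟨_, rfl⟩
    have hπsurj : Function.Surjective π := hπ ▸ QuotientGroup.mk'_surjective L
    have hπm : ∀ v : E, π v = 1 ↔ v ∈ L := fun v => by rw [hπ]; exact QuotientGroup.eq_one_iff v
    have hπd : ∀ d ∈ frattini E, π d ∈ Subgroup.center (E ⧸ L) := by
      intro d hd
      rw [Subgroup.mem_center_iff]
      intro q
      obtain ⟨v, rfl⟩ := hπsurj q
      rw [← commutatorElement_eq_one_iff_mul_comm, ← map_commutatorElement, hπm]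
      exact hLd d hd v
    obtain ⟨T, hT⟩ : ∃ T : E ⧸ L ≃* E ⧸ L, ∀ v, T (π v) = π (cx v) := by
      refine ⟨QuotientGroup.congr L L cx (Subgroup.characteristic_iff_map_eq.mp hLch cx),
        fun v => ?_⟩
      rw [hπ]; rfl
    obtain ⟨-, hTB, hTC⟩ := jordan_comm hQcl T (e := π eE) (e1 := π e1E) (z := π zE)
      (d1 := π ⟨d1, hDE hd1D⟩) (by rw [hT, hcxe, map_mul, map_inv])
      (by rw [hT, hcxe1, map_mul, map_inv]) (by rw [hT, hcxz, map_mul]) (hπd _ hd1Φ)
    obtain ⟨B, hB⟩ : ∃ B, B = ⁅π eE, π zE⁆ := ⟨_, rfl⟩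
    obtain ⟨Cq, hCq⟩ : ∃ Cq, Cq = ⁅π e1E, π zE⁆ := ⟨_, rfl⟩
    rw [← hB, ← hCq] at hTB
    rw [← hCq] at hTC
    have hBmem : B ∈ Subgroup.zpowers Cq := by
      by_contra hBn
      obtain ⟨R, hR⟩ : ∃ R, R = ((Subgroup.zpowers Cq).comap π).map E.subtype := ⟨_, rfl⟩
      have hRm : ∀ v : E, (v : N) ∈ R ↔ π v ∈ Subgroup.zpowers Cq := fun v => by
        rw [hR, Subgroup.mem_map]
        exact ⟨fun ⟨w, hw, hwv⟩ => by rwa [← Subtype.ext hwv], fun hv => ⟨v, hv, rfl⟩⟩
      have hRD0 : R ≤ D0 := by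
        rw [hR]
        rintro _ ⟨v, hv, rfl⟩
        obtain ⟨i, hi⟩ := Subgroup.mem_zpowers_iff.mp (Subgroup.mem_comap.mp hv)
        have h1 : π ((⁅e1E, zE⁆ ^ i)⁻¹ * v) = 1 := by
          rw [map_mul, map_inv, map_zpow, map_commutatorElement, ← hCq, hi, inv_mul_cancel]
        have h2 := hLD0 _ ((hπm _).1 h1)
        have h3' : ((⁅e1E, zE⁆ ^ i : E) : N) ∈ D0 := by
          rw [SubgroupClass.coe_zpow]
          refine zpow_mem ?_ i
          rw [he1E, hzE]; exact he1zmem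
        have h4 := mul_mem h3' h2
        rw [← Subgroup.coe_mul, mul_inv_cancel_left] at h4
        exact h4
      have hlt : R < D0 := by
        refine lt_of_le_not_ge hRD0 fun h => hBn ?_
        have h1 : (⁅eE, zE⁆ : E).1 ∈ R := h (by rw [heE, hzE]; exact hezD0)
        have h2 := (hRm _).1 h1
        rwa [map_commutatorElement, ← hB] at h2
      have hW2 : ∀ a ∈ W, ∀ ha : a ∈ E, π ⟨a, ha⟩ ∈
          Subgroup.closure (π '' ((frattini E : Set E) ∪ {e1E, zE})) := by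
        intro a ha haE
        rw [← MonoidHom.map_closure]
        refine ⟨⟨a, haE⟩, ?_, rfl⟩
        have hsub : W ≤ (Subgroup.closure ((frattini E : Set E) ∪ {e1E, zE})).map E.subtype := by
          have h1 := hgen ((Subgroup.closure ((frattini E : Set E) ∪ {e1E, zE})).map E.subtype)
            (fun d hd => ⟨⟨d, hDE hd⟩, Subgroup.subset_closure (Or.inl ((hDmem _).1 hd)), rfl⟩)
            ⟨zE, Subgroup.subset_closure (Or.inr (by simp)), by rw [hzE]; rfl⟩
          exact h1.2 ⟨e1E, Subgroup.subset_closure (Or.inr (by simp)), by rw [he1E]; rfl⟩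
        obtain ⟨w, hw, hwv⟩ := hsub ha
        rwa [← Subtype.ext (show ((w : E) : N) = ((⟨a, haE⟩ : E) : N) from hwv)]
      have hle : R.relIndex W ≤ p ^ 3 := by
        refine h3 W R (hRD0.trans (hD0D.trans hDW)) (fun a ha => ?_) (fun a ha b hb => ?_)
        · refine (hRm ((⟨a, hWE ha⟩ : E) ^ p)).2 ?_
          have hmem : ((⟨a, hWE ha⟩ : E) ^ p) ∈ L :=
            hLdef ▸ Subgroup.subset_closure (Or.inl ⟨_, rfl⟩)
          rw [(hπm _).2 hmem]
          exact one_mem _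
        · rw [← commutatorElement_def]
          refine (hRm ⁅(⟨a, hWE ha⟩ : E), (⟨b, hWE hb⟩ : E)⁆).2 ?_
          rw [map_commutatorElement]
          refine commutator_mem_of_closure hQcl ?_ (hW2 a ha _) (hW2 b hb _)
          have hz1 : ∀ (d : E) (q : E ⧸ L), d ∈ frattini E →
              ⁅π d, q⁆ = 1 ∧ ⁅q, π d⁆ = 1 := fun d q hd => by
            have h1 := Subgroup.mem_center_iff.1 (hπd d hd) q
            exact ⟨commutatorElement_eq_one_iff_mul_comm.2 h1.symm,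
              commutatorElement_eq_one_iff_mul_comm.2 h1⟩
          rintro _ ⟨g, hg, rfl⟩ _ ⟨g', hg', rfl⟩
          rcases hg with hg | hg | hg
          · rw [(hz1 g _ hg).1]; exact one_mem _
          all_goals rcases hg' with hg' | hg' | hg'
          all_goals first
            | (rw [(hz1 g' _ hg').2]; exact one_mem _)
            | (try simp only [Set.mem_singleton_iff] at hg
               try simp only [Set.mem_singleton_iff] at hg'
               rw [hg, hg']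
               first
                 | (rw [commutatorElement_self]; exact one_mem _)
                 | (rw [← hCq]; exact Subgroup.mem_zpowers _)
                 | (rw [← commutatorElement_inv, ← hCq]; exact inv_mem (Subgroup.mem_zpowers _)))
      rw [← Subgroup.relIndex_mul_relIndex R D0 W hRD0 (hD0D.trans hDW), hD0relW] at hle
      have := le_relIndex_of_lt hN hlt
      have h5 : R.relIndex D0 ≤ 1 := Nat.le_of_mul_le_mul_right
        (show R.relIndex D0 * p ^ 3 ≤ 1 * p ^ 3 by simpa using hle) (pow_pos hpp.pos 3)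
      omega
    have hC1' : Cq = 1 := by
      obtain ⟨i, hi⟩ := Subgroup.mem_zpowers_iff.mp hBmem
      rw [← hi, map_zpow, hTC, eq_comm, mul_eq_right, inv_eq_one] at hTB
      exact hTB
    have hB1 : B = 1 := by
      rw [hC1', Subgroup.zpowers_one_eq_bot, Subgroup.mem_bot] at hBmem
      exact hBmem
    obtain ⟨X, hX⟩ : ∃ X : Subgroup E, X = (Subgroup.center (E ⧸ L)).comap π := ⟨_, rfl⟩
    have hXm : ∀ v : E, v ∈ X ↔ ∀ w : E, ⁅v, w⁆ ∈ L := fun v => by
      rw [hX, Subgroup.mem_comap, Subgroup.mem_center_iff]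
      refine ⟨fun h w => (hπm _).1 ?_, fun h q => ?_⟩
      · rw [map_commutatorElement]
        exact commutatorElement_eq_one_iff_mul_comm.2 (h (π w)).symm
      · obtain ⟨w, rfl⟩ := hπsurj q
        refine (commutatorElement_eq_one_iff_mul_comm.1 ?_).symm
        rw [← map_commutatorElement, hπm]; exact h w
    haveI hXch : X.Characteristic := by
      rw [Subgroup.characteristic_iff_le_comap]
      intro φ v hv
      rw [Subgroup.mem_comap]
      refine (hXm _).2 fun w => ?_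
      obtain ⟨w, rfl⟩ := φ.surjective w
      show ⁅φ v, φ w⁆ ∈ L
      rw [← map_commutatorElement]
      exact Subgroup.characteristic_iff_le_comap.mp hLch φ ((hXm v).1 hv w)
    have hzX : zE ∈ X := by
      have h1 : π '' G ⊆ (Subgroup.centralizer {π zE} : Set (E ⧸ L)) := by
        rintro _ ⟨g, hg, rfl⟩
        rw [SetLike.mem_coe, Subgroup.mem_centralizer_singleton_iff]
        rw [hGdef] at hg
        rcases hg with hg | hg | hg | hg
        · exact (Subgroup.mem_center_iff.1 (hπd g hg) _).symm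
        · rw [hg]; exact commutatorElement_eq_one_iff_mul_comm.1 (hB ▸ hB1)
        · rw [hg]; exact commutatorElement_eq_one_iff_mul_comm.1 (hCq ▸ hC1')
        · rw [Set.mem_singleton_iff.mp hg]
      have h2 := (Subgroup.closure_le _).2 h1
      rw [← MonoidHom.map_closure, hGtop] at h2
      rw [hX, Subgroup.mem_comap, Subgroup.mem_center_iff]
      intro q
      obtain ⟨w, rfl⟩ := hπsurj q
      exact Subgroup.mem_centralizer_singleton_iff.1 (h2 ⟨w, Subgroup.mem_top w, rfl⟩)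
    rcases hirr X hXch (fun d hd => by rw [hX]; exact hπd d hd) with h | h
    · exact hzD (by
        have h1 := (hDmem zE).2 (h ▸ hzX)
        rwa [hzE] at h1)
    · have h1 := (hXm eE).1 (h.symm ▸ Subgroup.mem_top eE) e1E
      have h2 := hLD0 _ h1
      rw [heE, he1E] at h2
      exact hee1 h2
  · -- the first case
    obtain ⟨L, hLdef⟩ : ∃ L : Subgroup E, L = Subgroup.closure
        ({v | ∃ d ∈ frattini E, v = d ^ p} ∪ {v | ∃ a : E, ∃ d ∈ frattini E, v = ⁅a, d⁆}) :=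
      ⟨_, rfl⟩
    haveI hLch : L.Characteristic := by
      rw [hLdef]
      refine characteristic_closure _ fun φ => ?_
      rintro s (⟨d, hd, rfl⟩ | ⟨a, d, hd, rfl⟩)
      · exact Or.inl ⟨φ d, hΦmap φ d hd, map_pow _ _ _⟩
      · exact Or.inr ⟨φ a, φ d, hΦmap φ d hd, map_commutatorElement _ _ _⟩
    have hLd : ∀ d ∈ frattini E, ∀ v : E, ⁅v, d⁆ ∈ L := fun d hd v =>
      hLdef ▸ Subgroup.subset_closure (Or.inr ⟨v, d, hd, rfl⟩)
    have hLp : ∀ d ∈ frattini E, d ^ p ∈ L := fun d hd =>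
      hLdef ▸ Subgroup.subset_closure (Or.inl ⟨d, hd, rfl⟩)
    obtain ⟨K, hKdef⟩ : ∃ K, K = L.map E.subtype := ⟨_, rfl⟩
    haveI hKn : K.Normal := hKdef ▸ inferInstance
    have hKm : ∀ v : E, (v : N) ∈ K ↔ v ∈ L := fun v => by
      rw [hKdef, Subgroup.mem_map]
      exact ⟨fun ⟨w, hw, hwv⟩ => by rwa [← Subtype.ext hwv], fun hv => ⟨v, hv, rfl⟩⟩
    have hKD0 : K ≤ D0 := by
      rw [hKdef, Subgroup.map_le_iff_le_comap, hLdef, Subgroup.closure_le]
      rintro s (⟨d, hd, rfl⟩ | ⟨a, d, hd, rfl⟩)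
      · exact hWp _ (hDW ((hDmem d).2 hd))
      · exact hDD0 _ ((hDmem d).2 hd) a
    have hKD : ∀ d ∈ D, d ^ p ∈ K := fun d hd =>
      (hKm (⟨d, hDE hd⟩ ^ p)).2 (hLp _ ((hDmem _).1 hd))
    have hKc : ∀ v ∈ E, ∀ d ∈ D, ⁅v, d⁆ ∈ K := fun v hv d hd =>
      (hKm ⁅⟨v, hv⟩, ⟨d, hDE hd⟩⁆).2 (hLd _ ((hDmem _).1 hd) _)
    -- `[[D₀, N], N] ≤ K`
    obtain ⟨B1, hB1⟩ : ∃ B1, B1 = ⁅D0, (⊤ : Subgroup N)⁆ ⊔ K := ⟨_, rfl⟩
    haveI hB1n : B1.Normal := hB1 ▸ inferInstance
    have hB1c : ∀ b ∈ B1, ∀ n : N, ⁅n, b⁆ ∈ K := by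
      have h1 : K.relIndex D ≤ p ^ 3 := h3 D K (hKD0.trans hD0D) hKD
        (fun a ha b hb => by rw [← commutatorElement_def]; exact hKc a (hDE ha) b hb)
      rw [← Subgroup.relIndex_mul_relIndex K D0 D hKD0 hD0D, hD0relD, pow_succ p 2] at h1
      have h2 : K.relIndex D0 ≤ p ^ (1 + 1) := Nat.le_of_mul_le_mul_right h1 hpp.pos
      have h3' : K.relIndex B1 ≤ p := by
        rw [hB1]; simpa using relIndex_step hN hKD0 h2
      intro b hb n
      rw [← commutatorElement_inv]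
      exact inv_mem (commutator_le_of_relIndex hN (hB1 ▸ le_sup_right) h3'
        (cmm hb (Subgroup.mem_top n)))
    have hdB1 : ∀ d ∈ D0, ∀ n : N, ⁅n, d⁆ ∈ B1 := fun d hd n => by
      rw [← commutatorElement_inv, hB1]
      exact inv_mem (Subgroup.mem_sup_left (cmm hd (Subgroup.mem_top n)))
    -- the exponent `l`
    have hDgen : D0 ⊔ Subgroup.zpowers (e ^ p) = D :=
      (between le_sup_left (sup_le hD0D (by rw [Subgroup.zpowers_le]; exact hDp e he))
        hD0relD).resolve_left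
        fun h => hA (h.le (Subgroup.mem_sup_right (Subgroup.mem_zpowers _)))
    obtain ⟨d0, hd0, g, hg, hAeq⟩ := Subgroup.mem_sup_of_normal_left.mp
      (hDgen.symm ▸ hDc e he e1 (hWE he1W) : ⁅e, e1⁆ ∈ D0 ⊔ Subgroup.zpowers (e ^ p))
    obtain ⟨l, rfl⟩ := Subgroup.mem_zpowers_iff.mp hg
    have hxpW : x ^ p ∈ W := hWdef ▸ ⟨hEpow x, hE'pow x⟩
    have hdd : (x ^ p) ^ l * z ∈ D0 := by
      rw [← hπ0mem]
      have h1 := congrArg (fun a => π0 (γ a)) hAeq
      simp only [map_mul, map_zpow, map_pow, map_commutatorElement] at h1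
      rw [← hxdef, (hπ0mem _).2 (hγD0 d0 hd0), one_mul] at h1
      have hc : π0 (γ e1 * e1⁻¹) ∈ Subgroup.center (N ⧸ D0) := by
        rw [Subgroup.mem_center_iff]
        intro q
        obtain ⟨n, rfl⟩ := hπ0surj q
        refine (commutatorElement_eq_one_iff_mul_comm.1 ?_).symm
        rw [← map_commutatorElement, hπ0mem]
        exact hCc _ hγe1 n
      have h2 : ⁅π0 x, π0 (γ e1)⁆ = (π0 z)⁻¹ := by
        rw [show π0 (γ e1) = π0 (γ e1 * e1⁻¹) * π0 e1 by rw [← map_mul, inv_mul_cancel_right],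
          commutatorElement_def, mul_inv_rev]
        have h3' : π0 x * (π0 (γ e1 * e1⁻¹) * π0 e1) = π0 (γ e1 * e1⁻¹) * (π0 x * π0 e1) := by
          rw [← mul_assoc, Subgroup.mem_center_iff.1 hc, mul_assoc]
        rw [h3', hzdef, map_commutatorElement, commutatorElement_inv, commutatorElement_def]
        rw [show π0 (γ e1 * e1⁻¹) * (π0 x * π0 e1) * (π0 x)⁻¹ *
            ((π0 e1)⁻¹ * (π0 (γ e1 * e1⁻¹))⁻¹) = π0 (γ e1 * e1⁻¹) *
              (π0 x * π0 e1 * (π0 x)⁻¹ * (π0 e1)⁻¹) * (π0 (γ e1 * e1⁻¹))⁻¹ by group,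
          ← Subgroup.mem_center_iff.1 hc, mul_inv_cancel_right]
      rw [h2] at h1
      rw [map_mul, map_zpow, map_pow, h1, inv_mul_cancel]
    have hl : ¬ (p : ℤ) ∣ l := by
      rintro ⟨m, rfl⟩
      refine he1zD0 ?_
      have h1 : (x ^ p) ^ ((p : ℤ) * m) ∈ D0 := by
        rw [zpow_mul, zpow_natCast]; exact zpow_mem (hWp _ hxpW) m
      have h2 := mul_mem (inv_mem h1) hdd
      rwa [inv_mul_cancel_left] at h2
    -- the two expressions for `[e₁, z]`
    obtain ⟨π, hπ⟩ : ∃ π : E →* E ⧸ L, π = QuotientGroup.mk' L := ⟨_, rfl⟩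
    have hπm : ∀ v : E, π v = 1 ↔ v ∈ L := fun v => by rw [hπ]; exact QuotientGroup.eq_one_iff v
    have hπsurj : Function.Surjective π := hπ ▸ QuotientGroup.mk'_surjective L
    obtain ⟨hQcl, hQpc⟩ := hquot L hLd
    have hπd : ∀ d ∈ frattini E, π d ∈ Subgroup.center (E ⧸ L) := by
      intro d hd
      rw [Subgroup.mem_center_iff]
      intro q
      obtain ⟨v, rfl⟩ := hπsurj q
      rw [← commutatorElement_eq_one_iff_mul_comm, ← map_commutatorElement, hπm]
      exact hLd d hd v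
    obtain ⟨T, hT⟩ : ∃ T : E ⧸ L ≃* E ⧸ L, ∀ v, T (π v) = π (cx v) := by
      refine ⟨QuotientGroup.congr L L cx (Subgroup.characteristic_iff_map_eq.mp hLch cx),
        fun v => ?_⟩
      rw [hπ]; rfl
    obtain ⟨hTA, hTB, hTC⟩ := jordan_comm hQcl T (e := π eE) (e1 := π e1E) (z := π zE)
      (d1 := π ⟨d1, hDE hd1D⟩) (by rw [hT, hcxe, map_mul, map_inv])
      (by rw [hT, hcxe1, map_mul, map_inv]) (by rw [hT, hcxz, map_mul]) (hπd _ hd1Φ)
    obtain ⟨d0E, hd0E⟩ : ∃ v : E, v = ⟨d0, hDE (hD0D hd0)⟩ := ⟨_, rfl⟩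
    have hd0Φ : d0E ∈ frattini E := (hDmem _).1 (by rw [hd0E]; exact hD0D hd0)
    have hTzp : T (π zE ^ p) = π zE ^ p := by
      rw [map_pow, hT, hcxz, map_mul, Cfsg.Agent.PGroup.mul_pow_of_classTwo hQcl hodd (hQpc _)]
      rw [← map_pow π ⟨d1, _⟩, (hπm _).2 (hLp _ hd1Φ), mul_one]
    have hTe : T (π eE ^ p) = (π e1E ^ p)⁻¹ * π eE ^ p := by
      rw [map_pow, hT, hcxe, map_mul, map_inv,
        Cfsg.Agent.PGroup.mul_pow_of_classTwo hQcl hodd (hQpc _), inv_pow]
    have hTe1 : T (π e1E ^ p) = (π zE ^ p)⁻¹ * π e1E ^ p := by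
      rw [map_pow, hT, hcxe1, map_mul, map_inv,
        Cfsg.Agent.PGroup.mul_pow_of_classTwo hQcl hodd (hQpc _), inv_pow]
    have hAQ : ⁅π eE, π e1E⁆ = (π eE ^ p) ^ l * π d0E := by
      rw [← map_commutatorElement, ← map_pow, ← map_zpow]
      rw [← (Subgroup.mem_center_iff.1 (hπd d0E hd0Φ) _).symm, ← map_mul]
      congr 1
      apply Subtype.ext
      rw [heE, he1E, hd0E]
      show ⁅e, e1⁆ = d0 * (e ^ p) ^ l
      exact hAeq.symm
    have hTd : T (T (π d0E) * (π d0E)⁻¹) = T (π d0E) * (π d0E)⁻¹ := by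
      rw [hT, ← map_inv, ← map_mul, hT]
      obtain ⟨w, hw⟩ : ∃ w, w = cx d0E * d0E⁻¹ := ⟨_, rfl⟩
      rw [← hw, ← mul_inv_eq_one, ← map_inv, ← map_mul, hπm, ← hKm]
      have hwv : (w : N) = ⁅x, d0⁆ := by
        rw [hw, Subgroup.coe_mul, hcxv, hd0E, commutatorElement_def]; rfl
      rw [Subgroup.coe_mul, hcxv, Subgroup.coe_inv, ← commutatorElement_def]
      exact hB1c _ (hwv ▸ hdB1 d0 hd0 x) x
    have hQ : ⁅π e1E, π zE⁆ = (π zE ^ p) ^ l := by
      obtain ⟨Tc, hTc⟩ : ∃ Tc : Subgroup.center (E ⧸ L) →* Subgroup.center (E ⧸ L),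
          ∀ q, ((Tc q : Subgroup.center (E ⧸ L)) : E ⧸ L) = T q := by
        refine ⟨(T.toMonoidHom.comp (Subgroup.center (E ⧸ L)).subtype).codRestrict _
          fun q => ?_, fun q => rfl⟩
        rw [Subgroup.mem_center_iff]
        intro r
        obtain ⟨s, rfl⟩ := T.surjective r
        show T s * T q = T q * T s
        rw [← map_mul, ← map_mul, Subgroup.mem_center_iff.1 q.2]
      have hm := fun a b : E ⧸ L =>
        Cfsg.Agent.PGroup.commutatorElement_mem_center hQcl a b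
      have key := Jordan.solve Tc (Pe := ⟨_, hQpc (π eE)⟩) (P1 := ⟨_, hQpc (π e1E)⟩)
        (Pz := ⟨_, hQpc (π zE)⟩) (A := ⟨_, hm (π eE) (π e1E)⟩) (B := ⟨_, hm (π eE) (π zE)⟩)
        (C := ⟨_, hm (π e1E) (π zE)⟩) (d := ⟨_, hπd d0E hd0Φ⟩) (l := l)
        (Subtype.ext (by rw [hTc]; exact hTe)) (Subtype.ext (by rw [hTc]; exact hTe1))
        (Subtype.ext (by rw [hTc]; exact hTA)) (Subtype.ext (by rw [hTc]; exact hTB))
        (Subtype.ext (by rw [hTc]; exact hTC)) (Subtype.ext hAQ)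
        (Subtype.ext (by simp only [hTc, Subgroup.coe_mul, Subgroup.coe_inv]; exact hTd))
      exact congrArg Subtype.val key
    obtain ⟨f, hf⟩ : ∃ f : N →* N ⧸ K, f = QuotientGroup.mk' K := ⟨_, rfl⟩
    have hfm : ∀ a : N, f a = 1 ↔ a ∈ K := fun a => by rw [hf]; exact QuotientGroup.eq_one_iff a
    obtain ⟨d, hdd'⟩ : ∃ d, d = (x ^ p) ^ l * z := ⟨_, rfl⟩
    rw [← hdd'] at hdd
    have hxdB1 : ⁅x, d⁆ ∈ B1 := hdB1 d hdd x
    have hM := power_side (p := p) hodd (X := f x) (E1 := f e1) (Z := f z) (d := f d) (l := l)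
      (by rw [hzdef, map_commutatorElement])
      (by rw [hdd', map_mul, map_zpow, map_pow, inv_mul_cancel_left])
      (by
        rw [← map_pow, ← commutatorElement_eq_one_iff_commute, ← map_commutatorElement, hfm]
        exact hKc _ (hWE hxpW) d (hD0D hdd))
      (by rw [← map_pow, hfm]; exact hKD _ (hD0D hdd))
      (by
        rw [← commutatorElement_eq_one_iff_commute, ← map_commutatorElement, hfm]
        exact hKc _ (hWE he1W) d (hD0D hdd))
      (by
        rw [Subgroup.mem_center_iff]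
        intro q
        obtain ⟨n, rfl⟩ := (hf ▸ QuotientGroup.mk'_surjective K : Function.Surjective f) q
        rw [← commutatorElement_eq_one_iff_mul_comm, ← map_commutatorElement,
          ← map_commutatorElement, hfm]
        exact hB1c _ hxdB1 n)
      (by
        rw [← map_commutatorElement, ← map_pow, hfm]
        refine hKD _ ?_
        have hB1D : B1 ≤ D := by
          rw [hB1]
          exact sup_le ((Subgroup.commutator_le_left D0 ⊤).trans hD0D) (hKD0.trans hD0D)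
        exact hB1D hxdB1)
    have hM' : ⁅f e1, f z⁆ = (f z ^ p) ^ l := by
      rw [← map_commutatorElement, ← map_pow, ← map_zpow, ← mul_inv_eq_one, ← map_inv, ← map_mul,
        hfm]
      rw [← map_commutatorElement, ← map_pow, ← map_zpow, ← mul_inv_eq_one, ← map_inv, ← map_mul,
        hπm, ← hKm] at hQ
      rw [he1E, hzE] at hQ
      exact hQ
    have hzpK : z ^ p ∈ K := by
      rw [← hfm, map_pow]
      refine Jordan.eq_one_of_zpow (p := p) (n := 2 * l) ?_ ?_ ?_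
      · intro h
        rcases (Int.prime_iff_natAbs_prime.2 (by simpa using hpp) :
          Prime (p : ℤ)).dvd_or_dvd h with h | h
        · have := Int.le_of_dvd (by norm_num) h
          omega
        · exact hl h
      · rw [← map_pow, ← map_pow, hfm]
        exact hKD _ (hDp z (hWE (hCW hzC)))
      · rw [two_mul, zpow_add]
        nth_rw 1 [← hM']
        rw [hM, inv_mul_cancel]
    obtain ⟨X, hX⟩ : ∃ X : Subgroup E, ∀ v, v ∈ X ↔ v ^ p ∈ L := by
      refine ⟨{ carrier := {v | v ^ p ∈ L}, mul_mem' := ?_, one_mem' := ?_, inv_mem' := ?_ },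
        fun v => Iff.rfl⟩
      · intro a b ha hb
        show (a * b) ^ p ∈ L
        rw [← hπm, map_pow, map_mul,
          Cfsg.Agent.PGroup.mul_pow_of_classTwo hQcl hodd (hQpc _), ← map_pow, ← map_pow,
          (hπm _).2 ha, (hπm _).2 hb, one_mul]
      · show (1 : E) ^ p ∈ L
        rw [one_pow]; exact one_mem L
      · intro a ha
        show a⁻¹ ^ p ∈ L
        rw [inv_pow]; exact inv_mem ha
    haveI hXch : X.Characteristic := by
      rw [Subgroup.characteristic_iff_le_comap]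
      intro φ v hv
      rw [Subgroup.mem_comap, hX]
      show φ v ^ p ∈ L
      rw [← map_pow]
      exact Subgroup.characteristic_iff_le_comap.mp hLch φ ((hX v).1 hv)
    rcases hirr X hXch (fun d hd => (hX d).2 (hLp d hd)) with h | h
    · refine hzD ?_
      have hzX : zE ∈ X := (hX zE).2 ((hKm _).1 (by rw [hzE]; exact hzpK))
      have h1 := (hDmem zE).2 (h ▸ hzX)
      rwa [hzE] at h1
    · refine hA (hKD0 ?_)
      have h1 := (hKm _).2 ((hX eE).1 (h.symm ▸ Subgroup.mem_top eE))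
      rw [heE] at h1
      exact h1

end Cfsg.Agent.FusRankThree
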