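import Cfsg.Agent.FusRankThree.CaseI
import Cfsg.Agent.FusRankThree.Lin
import Cfsg.Agent.FusRankThree.Jordan
import Cfsg.Agent.FusRankThree.Transv
import Cfsg.Agent.FusionAux.Induction

/-!
# Rank three essential subgroups are normal (S5180)
-/

set_option autoImplicit false

open Cfsg Cfsg.FusionSystem Cfsg.Agent.FusionSys
open scoped commutatorElement

namespace Cfsg.Agent.FusRankThree

universe u

variable {p : ℕ}

/-- Three generators of an elementary abelian group of order `p ^ 3` are independent. -/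
theorem indep_of_gen [Fact p.Prime] {V : Type u} [Group V] (hexp : ∀ v : V, v ^ p = 1)
    (hcomm : ∀ a b : V, a * b = b * a) (hcard : Nat.card V = p ^ 3) {e1 e2 e3 : V}
    (hgen : Subgroup.closure {e1, e2, e3} = ⊤) (i j k : ℤ) (h : e1 ^ i * e2 ^ j * e3 ^ k = 1) :
    (p : ℤ) ∣ i ∧ (p : ℤ) ∣ j ∧ (p : ℤ) ∣ k := by
  let : CommGroup V := { ‹Group V› with mul_comm := hcomm }
  haveI : Finite V := Nat.finite_of_card_ne_zero (by
    rw [hcard]; exact pow_ne_zero 3 (Fact.out : p.Prime).ne_zero)
  set g : ZMod p × ZMod p × ZMod p → V :=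
    fun v => e1 ^ v.1.val * e2 ^ v.2.1.val * e3 ^ v.2.2.val with hg
  have hgint : ∀ i j k : ℤ, g ((i : ZMod p), (j : ZMod p), (k : ZMod p)) =
      e1 ^ i * e2 ^ j * e3 ^ k := fun i j k => by
    simp only [hg, ← zpow_natCast]
    rw [zpow_congr (hexp e1) (j := i) (by simp), zpow_congr (hexp e2) (j := j) (by simp),
      zpow_congr (hexp e3) (j := k) (by simp)]
  have hsurj : Function.Surjective g := by
    intro v
    have hv : v ∈ Subgroup.closure {e1, e2, e3} := hgen ▸ Subgroup.mem_top v
    suffices ∃ i j k : ℤ, v = e1 ^ i * e2 ^ j * e3 ^ k by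
      obtain ⟨i, j, k, rfl⟩ := this
      exact ⟨_, hgint i j k⟩
    induction hv using Subgroup.closure_induction with
    | mem y hy =>
      rcases hy with rfl | rfl | rfl
      · exact ⟨1, 0, 0, by simp⟩
      · exact ⟨0, 1, 0, by simp⟩
      · exact ⟨0, 0, 1, by simp⟩
    | one => exact ⟨0, 0, 0, by simp⟩
    | mul a b _ _ ha hb =>
      obtain ⟨i, j, k, rfl⟩ := ha
      obtain ⟨i', j', k', rfl⟩ := hb
      exact ⟨i + i', j + j', k + k', by simp only [zpow_add]; ac_rfl⟩
    | inv a _ ha =>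
      obtain ⟨i, j, k, rfl⟩ := ha
      exact ⟨-i, -j, -k, by simp only [zpow_neg, mul_inv]⟩
  have hinj : Function.Injective g :=
    (hsurj.bijective_of_nat_card_le (by
      rw [Nat.card_prod, Nat.card_prod, Nat.card_zmod, hcard]
      exact le_of_eq (by ring))).1
  have h0 : g ((i : ZMod p), (j : ZMod p), (k : ZMod p)) =
      g (((0 : ℤ) : ZMod p), ((0 : ℤ) : ZMod p), ((0 : ℤ) : ZMod p)) := by
    rw [hgint, hgint, h]
    simp
  have h' := hinj h0
  simp only [Int.cast_zero, Prod.mk.injEq] at h'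
  exact ⟨(ZMod.intCast_zmod_eq_zero_iff_dvd i p).1 h'.1,
    (ZMod.intCast_zmod_eq_zero_iff_dvd j p).1 h'.2.1,
    (ZMod.intCast_zmod_eq_zero_iff_dvd k p).1 h'.2.2⟩

variable {Ω : Type u} [Group Ω] {S : Subgroup Ω}

set_option maxHeartbeats 1600000 in
theorem essential_normal [Finite S] [Fact p.Prime] (hp : 5 ≤ p) (hS : IsPGroup p S)
    (h3 : RankThree p S) {F : FusionSystem S} (hF : F.IsSaturated p) {E : Subgroup Ω}
    (hE : F.IsEssential p E) (hrk : (frattini ↥E).index = p ^ 3) :
    S ≤ Subgroup.normalizer (E : Set Ω) := by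
  classical
  by_contra hcon
  have hpp : p.Prime := Fact.out
  have hES : E ≤ S := hE.1.1
  haveI : Finite E := finite_of_le ‹_› hES
  have hEp : IsPGroup p E := hS.to_le hES
  have hNS : normalizerIn S E ≤ S := normalizerIn_le E
  haveI : Finite (normalizerIn S E) := finite_of_le ‹_› hNS
  have hNp : IsPGroup p (normalizerIn S E) := hS.to_le hNS
  have h3N : RankThree p (normalizerIn S E) :=
    rankThree_of_injective h3 (Subgroup.inclusion hNS) (Subgroup.inclusion_injective hNS)
  have hEN : E ≤ normalizerIn S E := le_normalizerIn hES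
  -- the linear data
  obtain ⟨R, Y, hRne, hY, hN, hmem⟩ := exists_lin_data hS hF hE
  have hVcard : Nat.card (FQ E) = p ^ 3 := by rw [← hrk, Subgroup.index_eq_card]
  have hR := lin_sylow_card hp (FQ_pow hEp) (FQ_comm hEp) hVcard R hRne hY hN
  set π : normalizerIn S E →* (rho F E).range := (rho F E).rangeRestrict.comp (conjAut F hES)
    with hπ
  have hπR : π.range = (R : Subgroup (rho F E).range) := by
    ext r
    constructor
    · rintro ⟨g, rfl⟩
      exact (hmem _).2 (mem_autInducedBy.2 ⟨g, g.2.1, fun _ => rfl⟩)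
    · intro hr
      obtain ⟨α, rfl⟩ := MonoidHom.rangeRestrict_surjective (rho F E) r
      obtain ⟨g, hg, hge⟩ := mem_autInducedBy.1 ((hmem α).1 hr)
      refine ⟨⟨g, hg, mem_normalizer_of_conj_eq (α : MulAut E) hge⟩, ?_⟩
      rw [hπ, MonoidHom.comp_apply]
      congr 1
      exact Subtype.ext (MulEquiv.ext fun z => Subtype.ext (hge z).symm)
  set E0 := E.subgroupOf (normalizerIn S E) with hE0
  have hker : π.ker = E0 := by
    ext g
    rw [MonoidHom.mem_ker, hE0, Subgroup.mem_subgroupOf, hπ, MonoidHom.comp_apply,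
      ← rho_conjAut_eq_one hS hE g, Subtype.ext_iff]
    rfl
  haveI hE0n : E0.Normal := hker ▸ inferInstance
  have hidx : E0.index = p := by rw [← hker, Subgroup.index_ker, hπR, hR]
  set eq : E0 ≃* E := Subgroup.subgroupOfEquivOfLe hEN with heq
  have hE0p : IsPGroup p E0 := hNp.to_subgroup E0
  have hfr : (frattini E0).map eq.toMonoidHom = frattini E :=
    PGroup.map_frattini hE0p eq.toMonoidHom eq.surjective
  have hV : (frattini E0).index = p ^ 3 := by
    rw [← hrk, ← hfr]; exact (Subgroup.index_map_equiv (frattini E0) eq).symm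
  set f : E0 →* FQ E := (QuotientGroup.mk' (frattini ↥E)).comp eq.toMonoidHom with hf
  have hfker : f.ker = frattini E0 := by
    rw [hf, ← MonoidHom.comap_ker, QuotientGroup.ker_mk', ← hfr]
    exact Subgroup.comap_map_eq_self_of_injective eq.injective _
  have hcong : ∀ w w' : E0, f w = f w' → CongMod (frattini E0) w w' := fun w w' h => by
    rw [CongMod, ← hfker, MonoidHom.mem_ker, map_mul, map_inv, h, inv_mul_cancel]
  set DN := (frattini E0).map E0.subtype with hDN
  haveI hDNn : DN.Normal := by rw [hDN]; infer_instance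
  have hDNE : ∀ d ∈ DN, (d : Ω) ∈ E := by
    rintro _ ⟨w, -, rfl⟩
    exact w.2
  have keyq : ∀ w w' : E0, f w = f w' →
      ((w : normalizerIn S E) : normalizerIn S E ⧸ DN) = ((w' : normalizerIn S E) : _ ⧸ DN) :=
    fun w w' h => QuotientGroup.eq.2 ⟨w⁻¹ * w', hcong w w' h, rfl⟩
  have keyq1 : ∀ w : E0, ((w : normalizerIn S E) : normalizerIn S E ⧸ DN) = 1 → f w = 1 := by
    intro w h
    obtain ⟨d, hd, hdw⟩ := (QuotientGroup.eq_one_iff _).1 h
    rw [← MonoidHom.mem_ker, hfker, ← E0.subtype_injective hdw]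
    exact hd
  -- the action of `N_S(E)` on `E / Φ(E)`
  have hact : ∀ (g : normalizerIn S E) (w : E0),
      f (MulAut.conjNormal g w) = ((π g : (rho F E).range) : MulAut (FQ E)) (f w) := fun g w => rfl
  -- an element moving `E`
  have hne : normalizerIn S E ≠ S := fun h => hcon (h ▸ inf_le_right)
  obtain ⟨g, hg, hgN⟩ := SetLike.exists_of_lt (FusionAux.lt_normalizerIn hS hNS hne)
  set γ : MulAut (normalizerIn S E) :=
    (normalizerIn S E).normalizerMonoidHom ⟨g, hg.2⟩ with hγ
  have hγF : γ ∈ F.autGroup (normalizerIn S E) :=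
    autInducedBy_le_autGroup F hNS (mem_autInducedBy.2 ⟨g, hg.1, fun _ => rfl⟩)
  have hγp : ∃ m : ℕ, γ ^ p ^ m = 1 := by
    obtain ⟨m, hm⟩ := hS ⟨g, hg.1⟩
    refine ⟨m, ?_⟩
    rw [hγ, ← map_pow]
    convert map_one (normalizerIn S E).normalizerMonoidHom
    exact Subtype.ext (by simpa using congrArg Subtype.val hm)
  have hγE : ∃ n : normalizerIn S E, (n : Ω) ∈ E ∧ ((γ n : normalizerIn S E) : Ω) ∉ E := by
    by_contra hall
    simp only [not_exists, not_and, not_not] at hall
    refine hgN ⟨hg.1, Subgroup.mem_normalizer_fintype (S := (E : Set Ω)) fun z hz => ?_⟩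
    exact hall ⟨z, hEN hz⟩ hz
  have hγmap : E0.map γ.toMonoidHom ≠ E0 := fun h => by
    obtain ⟨n, hn, hn'⟩ := hγE
    exact hn' (h.le ⟨n, hn, rfl⟩)
  rcases lin_cases hp (FQ_pow hEp) (FQ_comm hEp) hVcard R hRne hY hN with
    ⟨⟨v, hv⟩, hirr⟩ | ⟨x, hxR, y, hy, e1, e2, e3, hgen, ⟨hx1, hx2, hx3⟩, ⟨hy1, hy2, hy3⟩, htor⟩
  · -- a single Jordan block
    obtain ⟨z, rfl⟩ := QuotientGroup.mk'_surjective (frattini ↥E) v
    refine jordan_false hp hNp h3N hidx hV ?_ (e := ((eq.symm z : E0) : normalizerIn S E))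
      (eq.symm z).2 ?_ γ hγp hγmap
    · intro X hX hΦX
      have hX2 : ∀ α : MulAut E, ∀ w ∈ X.map eq.toMonoidHom, α w ∈ X.map eq.toMonoidHom := by
        rintro α _ ⟨w, hw, rfl⟩
        refine ⟨MulAut.congr eq.symm α w,
          (Subgroup.characteristic_iff_map_eq.1 hX (MulAut.congr eq.symm α)).le ⟨w, hw, rfl⟩, ?_⟩
        simp [autCongr_apply]
      have hXf : ∀ G ∈ (rho F E).range, ∀ v ∈ X.map f, G v ∈ X.map f := by
        rintro _ ⟨α, rfl⟩ _ ⟨w, hw, rfl⟩
        obtain ⟨w', hw', hww⟩ := hX2 (α : MulAut E) _ ⟨w, hw, rfl⟩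
        refine ⟨w', hw', ?_⟩
        show ((eq w' : E) : FQ E) = rho F E α ((eq w : E) : FQ E)
        rw [rho_mk]
        exact congrArg _ hww
      rcases hirr (X.map f) hXf with h | h
      · left
        refine le_antisymm ?_ hΦX
        rwa [Subgroup.map_eq_bot_iff, hfker] at h
      · right
        have := Subgroup.comap_map_eq f X
        rw [h, Subgroup.comap_top, hfker, sup_eq_left.2 hΦX] at this
        exact this.symm
    · intro n hn hmem'
      have hne1 : π n ≠ 1 := fun h => hn (hker ▸ MonoidHom.mem_ker.2 h)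
      have hnR : π n ∈ (R : Subgroup (rho F E).range) := hπR ▸ ⟨n, rfl⟩
      have hstep : ∀ w : E0, ⁅(w : normalizerIn S E), n⁆ =
          ((w * MulAut.conjNormal n w⁻¹ : E0) : normalizerIn S E) := fun w => by
        simp [commutatorElement_def, mul_assoc]
      rw [hstep, hstep] at hmem'
      obtain ⟨d, hd, hdw⟩ := hmem'
      rw [SetLike.mem_coe, ← hfker, Subtype.ext (a1 := d) (a2 := _) hdw, MonoidHom.mem_ker] at hd
      simp only [map_mul, map_inv, hact,
        show f (eq.symm z) = QuotientGroup.mk' (frattini ↥E) z by simp [hf]] at hd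
      refine hv _ hnR hne1 ?_
      rw [mul_inv_eq_one] at hd
      have hd' := congrArg (·⁻¹) hd
      simp only [mul_inv_rev, inv_inv] at hd'
      simp only [map_mul, map_inv]
      rw [FQ_comm hEp (((π n : (rho F E).range) : MulAut (FQ E)) _)⁻¹,
        FQ_comm hEp (QuotientGroup.mk' (frattini ↥E) z)⁻¹]
      exact hd'.symm
  · -- a transvection
    obtain ⟨gx, hgx⟩ : ∃ gx, π gx = x := by rwa [← MonoidHom.mem_range, hπR]
    obtain ⟨z1, rfl⟩ := QuotientGroup.mk'_surjective (frattini ↥E) e1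
    obtain ⟨z2, rfl⟩ := QuotientGroup.mk'_surjective (frattini ↥E) e2
    obtain ⟨z3, rfl⟩ := QuotientGroup.mk'_surjective (frattini ↥E) e3
    obtain ⟨αy, rfl⟩ := hy
    set w1 := eq.symm z1
    set w2 := eq.symm z2
    set w3 := eq.symm z3
    have hfw : ∀ z, f (eq.symm z) = QuotientGroup.mk' (frattini ↥E) z := fun z => by simp [hf]
    set v1 := QuotientGroup.mk' (frattini ↥E) z1
    set v2 := QuotientGroup.mk' (frattini ↥E) z2
    set v3 := QuotientGroup.mk' (frattini ↥E) z3
    have hind : ∀ i j k : ℤ, v1 ^ i * v2 ^ j * v3 ^ k = 1 →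
        (p : ℤ) ∣ i ∧ (p : ℤ) ∣ j ∧ (p : ℤ) ∣ k :=
      indep_of_gen (FQ_pow hEp) (FQ_comm hEp) hVcard hgen
    have hv1 : v1 ≠ 1 := fun h => by
      obtain ⟨d, -, -⟩ := hind 1 0 0 (by simp [h])
      exact hpp.ne_one (by exact_mod_cast Int.eq_one_of_dvd_one (by positivity) d)
    have hxne : x ≠ 1 := by
      rintro rfl
      simp only [OneMemClass.coe_one, MulAut.one_apply, left_eq_mul] at hx2
      exact hv1 hx2
    have hgx' : gx ∉ E0 := by
      rw [← hker, MonoidHom.mem_ker, hgx]
      exact hxne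
    have hsup : Subgroup.closure {w1, w2, w3} ⊔ frattini E0 = ⊤ := by
      have h1 : (Subgroup.closure {w1, w2, w3}).map f = ⊤ := by
        rw [MonoidHom.map_closure]
        simp only [Set.image_insert_eq, Set.image_singleton, w1, w2, w3, hfw]
        exact hgen
      have := Subgroup.comap_map_eq f (Subgroup.closure {w1, w2, w3})
      rw [h1, Subgroup.comap_top, hfker] at this
      exact this.symm
    -- the frame
    set q1 : normalizerIn S E ⧸ DN := ((w1 : normalizerIn S E) : normalizerIn S E ⧸ DN)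
    set q2 : normalizerIn S E ⧸ DN := ((w2 : normalizerIn S E) : normalizerIn S E ⧸ DN)
    set q3 : normalizerIn S E ⧸ DN := ((w3 : normalizerIn S E) : normalizerIn S E ⧸ DN)
    set qx : normalizerIn S E ⧸ DN := (gx : normalizerIn S E ⧸ DN) with hqx
    have hbar : ∀ n : normalizerIn S E, (n : Ω) ∈ E ↔
        (n : normalizerIn S E ⧸ DN) ∈ Subgroup.closure {q1, q2, q3} := by
      intro n
      constructor
      · intro hn
        have hle : Subgroup.closure {w1, w2, w3} ⊔ frattini E0 ≤ (Subgroup.closure {q1, q2, q3}).comap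
            ((QuotientGroup.mk' DN).comp E0.subtype) := by
          refine sup_le ((Subgroup.closure_le _).2 ?_) fun d hd => ?_
          · rintro w (rfl | rfl | rfl) <;>
              exact Subgroup.subset_closure (by simp [q1, q2, q3])
          · rw [Subgroup.mem_comap]
            show ((d : normalizerIn S E) : normalizerIn S E ⧸ DN) ∈ _
            rw [(QuotientGroup.eq_one_iff _).2
              (show (d : normalizerIn S E) ∈ DN from ⟨d, hd, rfl⟩)]
            exact one_mem _
        exact hle (hsup ▸ Subgroup.mem_top (⟨n, hn⟩ : E0))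
      · intro hn
        have hle : Subgroup.closure {q1, q2, q3} ≤ E0.map (QuotientGroup.mk' DN) := by
          rw [Subgroup.closure_le]
          rintro _ (rfl | rfl | rfl) <;> exact ⟨_, Subtype.prop _, rfl⟩
        obtain ⟨w, hw, hwn⟩ := hle hn
        have h1 := hDNE _ (QuotientGroup.eq.1 hwn)
        have h2 := E.mul_mem hw h1
        simpa using h2
    have hxi : ∀ w w' : E0, ((π gx : (rho F E).range) : MulAut (FQ E)) (f w) = f w' →
        qx * ((w : normalizerIn S E) : normalizerIn S E ⧸ DN) * qx⁻¹ =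
          ((w' : normalizerIn S E) : normalizerIn S E ⧸ DN) := fun w w' h => by
      rw [← keyq (MulAut.conjNormal gx w) w' ((hact gx w).trans h)]
      rfl
    have hB : Base p q1 q2 q3 qx := by
      refine ⟨?_, ?_, ?_, ?_, ?_, ?_, ?_, ?_, ?_, ?_, ?_, ?_, ?_⟩
      · exact keyq (w1 ^ p) 1 (by rw [map_pow, FQ_pow hEp, map_one])
      · exact keyq (w2 ^ p) 1 (by rw [map_pow, FQ_pow hEp, map_one])
      · exact keyq (w3 ^ p) 1 (by rw [map_pow, FQ_pow hEp, map_one])
      · exact keyq (w1 * w2) (w2 * w1) (by rw [map_mul, map_mul, FQ_comm hEp])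
      · exact keyq (w1 * w3) (w3 * w1) (by rw [map_mul, map_mul, FQ_comm hEp])
      · exact keyq (w2 * w3) (w3 * w2) (by rw [map_mul, map_mul, FQ_comm hEp])
      · exact (mul_inv_eq_iff_eq_mul.1 (hxi w1 w1 (by rw [hgx, hfw]; exact hx1))).symm
      · exact (mul_inv_eq_iff_eq_mul.1 (hxi w3 w3 (by rw [hgx, hfw]; exact hx3))).symm
      · exact hxi w2 (w2 * w1) (by rw [hgx, map_mul, hfw, hfw]; exact hx2)
      · intro i j k hijk
        have := keyq1 (w1 ^ i * w2 ^ j * w3 ^ k) hijk
        rw [map_mul, map_mul, map_zpow, map_zpow, map_zpow, hfw, hfw, hfw] at this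
        exact hind i j k this
      · refine eq_top_iff.2 fun q _ => ?_
        obtain ⟨n, rfl⟩ := QuotientGroup.mk'_surjective DN q
        haveI : Finite R := inferInstance
        have hzp : (R : Subgroup (rho F E).range) = Subgroup.zpowers x := by
          refine (Subgroup.eq_of_le_of_card_ge (Subgroup.zpowers_le.2 hxR) ?_).symm
          have hd : orderOf x ∣ p := hR ▸ (Subgroup.orderOf_dvd_natCard _ hxR)
          rcases (Nat.dvd_prime hpp).1 hd with h | h
          · exact absurd (orderOf_eq_one_iff.1 h) hxne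
          · rw [Nat.card_zpowers, h, hR]
        obtain ⟨m, hm⟩ : π n ∈ Subgroup.zpowers x := by rw [← hzp, ← hπR]; exact ⟨n, rfl⟩
        have hn0 : n * (gx ^ m)⁻¹ ∈ E0 := by
          rw [← hker, MonoidHom.mem_ker, map_mul, map_inv, map_zpow, hgx, ← hm, mul_inv_cancel]
        have h1 := Subgroup.closure_mono (show ({q1, q2, q3} : Set _) ⊆ {q1, q2, q3, qx} by
          simp [Set.subset_def]) ((hbar _).1 (Subgroup.mem_subgroupOf.1 hn0))
        have h2 := mul_mem h1 (zpow_mem (Subgroup.subset_closure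
          (show qx ∈ ({q1, q2, q3, qx} : Set _) by simp)) m)
        rwa [hqx, QuotientGroup.mk_mul, QuotientGroup.mk_inv, QuotientGroup.mk_zpow,
          inv_mul_cancel_right] at h2
      · exact fun h => hgx' ((hbar gx).2 h)
      · rw [hqx, ← QuotientGroup.mk_pow, ← hbar]
        exact hidx ▸ E0.pow_index_mem gx
    -- the torus
    obtain ⟨u, hu⟩ := IsCyclic.exists_generator (α := (ZMod p)ˣ)
    have hord : orderOf u = p - 1 := by
      rw [orderOf_eq_card_of_forall_mem_zpowers hu, Nat.card_eq_fintype_card, ZMod.card_units]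
    set a : ℕ := (u : ZMod p).val with ha
    have hau : (a : ZMod p) = u := ZMod.natCast_zmod_val _
    have hpow : ∀ k : ℕ, (a : ZMod p) ^ k = 1 → p - 1 ∣ k := fun k hk => by
      rw [← hord]
      refine orderOf_dvd_of_pow_eq_one (Units.ext ?_)
      rw [Units.val_pow_eq_pow_val, ← hau, hk, Units.val_one]
    have ha2 : (a : ZMod p) ^ 2 ≠ 1 := fun h => by
      have := Nat.le_of_dvd (by norm_num) (hpow 2 h); omega
    have ha3 : (a : ZMod p) ^ 3 ≠ 1 := fun h => by
      have := Nat.le_of_dvd (by norm_num) (hpow 3 h); omega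
    have ha5 : (a : ZMod p) ^ 5 ≠ 1 := fun h => by
      rcases (Nat.dvd_prime (by norm_num : Nat.Prime 5)).1 (hpow 5 h) with h' | h'
      · omega
      · exact absurd hpp (by rw [show p = 6 by omega]; norm_num)
    have hpa : ¬ p ∣ a := fun h => u.ne_zero (by rw [← hau]; exact (ZMod.natCast_eq_zero_iff _ _).2 h)
    obtain ⟨b, hab, t, ht, ht1, ht2, ht3⟩ := htor a hpa
    obtain ⟨αt, rfl⟩ := ht
    have hab' : ((a * b : ℕ) : ZMod p) = 1 := by
      rw [← ZMod.natCast_mod, hab, Nat.cast_one]
    set n2 := a * a with hn2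
    have hxpow : ∀ m : ℕ, ((x : MulAut (FQ E)) ^ m) v1 = v1 ∧
        ((x : MulAut (FQ E)) ^ m) v2 = v2 * v1 ^ m ∧ ((x : MulAut (FQ E)) ^ m) v3 = v3 := by
      intro m
      induction m with
      | zero => simp
      | succ m ih =>
        obtain ⟨i1, i2, i3⟩ := ih
        refine ⟨?_, ?_, ?_⟩
        · rw [pow_succ', MulAut.mul_apply, i1, hx1]
        · rw [pow_succ', MulAut.mul_apply, i2, map_mul, map_pow, hx1, hx2, mul_assoc, ← pow_succ']
        · rw [pow_succ', MulAut.mul_apply, i3, hx3]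
    have htx : (rho F E).rangeRestrict αt * x * ((rho F E).rangeRestrict αt)⁻¹ = x ^ n2 := by
      rw [mul_inv_eq_iff_eq_mul]
      refine Subtype.ext (MulEquiv.toMonoidHom_injective
        (MonoidHom.eq_of_eqOn_dense hgen ?_))
      obtain ⟨i1, i2, i3⟩ := hxpow n2
      rintro w (rfl | rfl | rfl)
      · show rho F E αt ((x : MulAut (FQ E)) v1) = ((x : MulAut (FQ E)) ^ n2) (rho F E αt v1)
        rw [hx1, ht1, map_pow, i1]
      · show rho F E αt ((x : MulAut (FQ E)) v2) = ((x : MulAut (FQ E)) ^ n2) (rho F E αt v2)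
        rw [hx2, map_mul, ht1, ht2, map_pow, i2,
          (show Commute v2 (v1 ^ n2) from FQ_comm hEp _ _).mul_pow, ← pow_mul]
        congr 1
        rw [← zpow_natCast, ← zpow_natCast]
        refine zpow_congr (FQ_pow hEp v1) ?_
        have hab'' : (a : ZMod p) * (b : ZMod p) = 1 := by exact_mod_cast hab'
        simp only [hn2]
        push_cast
        linear_combination -(a : ZMod p) * hab''
      · show rho F E αt ((x : MulAut (FQ E)) v3) = ((x : MulAut (FQ E)) ^ n2) (rho F E αt v3)
        rw [hx3, ht3, i3]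
    obtain ⟨ψ, hψ, hψe, hψN, -⟩ := receptive_extend
      (saturated_receptive_of_fullyNormalized hS hF hE.2.1)
      (φ := E.subtype.comp (αt : MulAut E).toMonoidHom) (autGroup_mem_hom F hES αt.2)
      (range_subtype_comp _)
    have hext : extender S E (E.subtype.comp (αt : MulAut E).toMonoidHom) = normalizerIn S E := by
      refine extender_eq_normalizerIn fun n hn => ?_
      have hnR : (rho F E).rangeRestrict (αt * conjAut F hES ⟨n, hn⟩ * αt⁻¹) ∈
          (R : Subgroup (rho F E).range) := by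
        rw [map_mul, map_mul, map_inv]
        have hzp : π ⟨n, hn⟩ ∈ Subgroup.zpowers x := by
          have hzp : (R : Subgroup (rho F E).range) = Subgroup.zpowers x := by
            refine (Subgroup.eq_of_le_of_card_ge (Subgroup.zpowers_le.2 hxR) ?_).symm
            have hd : orderOf x ∣ p := hR ▸ (Subgroup.orderOf_dvd_natCard _ hxR)
            rcases (Nat.dvd_prime hpp).1 hd with h | h
            · exact absurd (orderOf_eq_one_iff.1 h) hxne
            · rw [Nat.card_zpowers, h, hR]
          rw [← hzp, ← hπR]; exact ⟨_, rfl⟩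
        obtain ⟨m, hm⟩ := hzp
        show (rho F E).rangeRestrict αt * π ⟨n, hn⟩ * ((rho F E).rangeRestrict αt)⁻¹ ∈ _
        rw [← hm, ← conj_zpow, htx]
        exact zpow_mem (pow_mem hxR _) m
      obtain ⟨k, hk, hke⟩ := mem_autInducedBy.1 ((hmem _).1 hnR)
      refine ⟨k, hk, fun w hw => ?_⟩
      have := hke ((αt : MulAut E) w)
      show (((αt : MulAut E) ⟨n * w * n⁻¹, hw⟩ : E) : Ω) = k * (((αt : MulAut E) w : E) : Ω) * k⁻¹
      rw [← this]
      simp only [Subgroup.coe_mul, MulAut.mul_apply, Subgroup.coe_inv]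
      rw [show (αt : MulAut E)⁻¹ ((αt : MulAut E) w) = w from MulEquiv.symm_apply_apply _ w]
      rfl
    have hψe' : ∀ (z : Ω) (h1 : z ∈ E)
        (h2 : z ∈ extender S E (E.subtype.comp (αt : MulAut E).toMonoidHom)),
        ψ ⟨z, h2⟩ = (((αt : MulAut E) ⟨z, h1⟩ : E) : Ω) := fun z h1 h2 => hψe ⟨z, h1⟩
    clear hψe
    generalize extender S E (E.subtype.comp (αt : MulAut E).toMonoidHom) = N' at *
    subst hext
    have hr : ψ.range = normalizerIn S E :=
      range_eq_of_image_le (F.injective_of_mem hψ) (by rintro _ ⟨n, rfl⟩; exact hψN n) le_rfl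
    set β : MulAut (normalizerIn S E) := toIso F hψ hr with hβ
    have hβw : ∀ w : E0, β (w : normalizerIn S E) =
        ((eq.symm ((αt : MulAut E) (eq w)) : E0) : normalizerIn S E) := fun w =>
      Subtype.ext (hψe' _ (eq w).2 w.1.2)
    have hDβ : DN.map β.toMonoidHom = DN := by
      haveI : Finite DN := inferInstance
      refine Subgroup.eq_of_le_of_card_ge ?_ (Subgroup.card_map_of_injective β.injective).ge
      rintro _ ⟨_, ⟨w, hw, rfl⟩, rfl⟩
      refine ⟨eq.symm ((αt : MulAut E) (eq w)), ?_, (hβw w).symm⟩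
      exact (Subgroup.characteristic_iff_map_eq.1 inferInstance
        (MulAut.congr eq.symm (αt : MulAut E))).le ⟨w, hw, rfl⟩
    have hβq : ∀ w w' : E0, rho F E αt (f w) = f w' →
        ((β (w : normalizerIn S E) : normalizerIn S E) : normalizerIn S E ⧸ DN) =
          ((w' : normalizerIn S E) : normalizerIn S E ⧸ DN) := fun w w' h => by
      rw [hβw]
      refine keyq _ _ (Eq.trans ?_ h)
      simp [hf, rho_mk]
    have hT : Torus p q1 q2 q3 qx (red DN ⟨β, hDβ⟩) a b := by
      refine ⟨hab', ha2, ha3, ?_, ?_, ?_, ?_⟩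
      · exact hβq w1 (w1 ^ a) (by rw [map_pow, hfw]; exact ht1)
      · exact hβq w2 (w2 ^ b) (by rw [map_pow, hfw]; exact ht2)
      · exact hβq w3 w3 (by rw [hfw]; exact ht3)
      · rw [hqx, red_mk, ← QuotientGroup.mk_pow, ← QuotientGroup.mk_inv, ← QuotientGroup.mk_mul,
          ← hbar]
        have hconj' : conjAut F hES (β gx) = αt * conjAut F hES gx * αt⁻¹ := by
          refine Subtype.ext (MulEquiv.ext fun w => Subtype.ext ?_)
          obtain ⟨w, rfl⟩ := (αt : MulAut E).surjective w
          simp only [Subgroup.coe_mul, MulAut.mul_apply, Subgroup.coe_inv]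
          rw [show (αt : MulAut E)⁻¹ ((αt : MulAut E) w) = w from MulEquiv.symm_apply_apply _ w,
            conjAut_apply]
          show ψ gx * (((αt : MulAut E) w : E) : Ω) * (ψ gx)⁻¹ = _
          have e1' := hψe' (w : Ω) w.2 (hEN w.2)
          have e2' := hψe' _ (((conjAut F hES gx : F.autGroup E) : MulAut E) w).2
            (hEN (((conjAut F hES gx : F.autGroup E) : MulAut E) w).2)
          refine Eq.trans ?_ e2'
          rw [show ((αt : MulAut E) w : Ω) = _ from e1'.symm, ← map_inv, ← map_mul, ← map_mul]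
          rfl
        have hπβ : π (β gx) = π (gx ^ n2) := by
          rw [map_pow, hgx, ← htx, ← hgx, hπ, MonoidHom.comp_apply, MonoidHom.comp_apply, hconj',
            map_mul, map_mul, map_inv]
        show β gx * (gx ^ n2)⁻¹ ∈ E0
        rw [← hker, MonoidHom.mem_ker, map_mul, map_inv, hπβ, mul_inv_cancel]
    have hqx1 : qx ^ p = 1 := hB.x_pow_p hp hT
    have hexp : ∀ v : normalizerIn S E, v ^ p ∈ DN := fun v =>
      (QuotientGroup.eq_one_iff _).1 (hB.exp_p hp hqx1 (v : normalizerIn S E ⧸ DN))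
    by_cases hγD : DN.map γ.toMonoidHom = DN
    · -- invariant Frattini subgroup: normalise the torus
      obtain ⟨i, j, k, heig⟩ := hB.exists_eigen hp hT
      have hB' := hB.replace hp hqx1 i j k
      have hx' := hB.exp_p hp hqx1 (wrd q1 q2 q3 i j k * qx)
      have hT' : Torus p q1 q2 q3 (wrd q1 q2 q3 i j k * qx) (red DN ⟨β, hDβ⟩) a b :=
        ⟨hT.hab, hT.ha2, hT.ha3, hT.b1, hT.b2, hT.b3, by
          rw [heig, mul_inv_cancel]; exact one_mem _⟩
      exact caseI_false hp hS h3 hF hE.2.1 DN hDNE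
        (PGroup.map_subtype_frattini_le hNp E0) hB' hbar hx' ⟨γ, hγD⟩ ⟨β, hDβ⟩ hγF
        (toIso_mem_autGroup F hψ hr) hγp hγE hT' heig ha5
    · -- moved Frattini subgroup
      have hy' : ∀ w w' : E0, rho F E αy (f w) = f w' →
          CongMod (frattini E0) (MulAut.congr eq.symm (αy : MulAut E) w) w' := fun w w' h =>
        hcong _ _ (Eq.trans (by simp [hf, rho_mk, autCongr_apply]) h)
      exact transv_false hp hNp h3N hidx hV hexp hgx' w1 w2 w3 hsup
        (hcong _ _ (by rw [hact, hgx, hfw]; exact hx1))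
        (hcong _ _ (by rw [hact, hgx, map_mul, hfw, hfw]; exact hx2))
        (hcong _ _ (by rw [hact, hgx, hfw]; exact hx3))
        (MulAut.congr eq.symm (αy : MulAut E))
        (hy' _ _ (by rw [map_mul, hfw, hfw]; exact hy1)) (hy' _ _ (by rw [hfw]; exact hy2))
        (hy' _ _ (by rw [hfw]; exact hy3)) γ hγmap hγD

end Cfsg.Agent.FusRankThree
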