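import Cfsg.Agent.FusRankThree.Defs
import Cfsg.Agent.FusionSys.EssentialFlag
import Cfsg.Agent.FusionSys.Essential
import Cfsg.Agent.FusionSys.Saturation
import Cfsg.Agent.FusionBatch.Basic
import Cfsg.Agent.FusionAlperin.Alperin

/-!
# The action of the automizer of an essential subgroup on its Frattini quotient (S5180)
-/

set_option autoImplicit false

open Cfsg Cfsg.FusionSystem Cfsg.Agent.FusionSys

namespace Cfsg.Agent.FusRankThree

universe u

variable {p : ℕ}

theorem rankThree_of_injective {N M : Type*} [Group N] [Group M] (h : RankThree p M)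
    (f : N →* M) (hf : Function.Injective f) : RankThree p N := by
  intro H R hRH hpow hcomm
  rw [← Subgroup.relIndex_map_map_of_injective R H hf]
  refine h _ _ (Subgroup.map_mono hRH) ?_ ?_
  · rintro _ ⟨a, ha, rfl⟩
    exact ⟨a ^ p, hpow a ha, map_pow _ _ _⟩
  · rintro _ ⟨a, ha, rfl⟩ _ ⟨b, hb, rfl⟩
    exact ⟨_, hcomm a ha b hb, by simp⟩

theorem rankThree_of_surjective {N M : Type*} [Group N] [Group M] (h : RankThree p N)
    (f : N →* M) (hf : Function.Surjective f) : RankThree p M := by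
  intro H R hRH hpow hcomm
  have e := Subgroup.relIndex_comap R f (H.comap f)
  rw [Subgroup.map_comap_eq_self_of_surjective hf] at e
  rw [← e]
  refine h _ _ (Subgroup.comap_mono hRH) ?_ ?_
  · intro a ha
    rw [Subgroup.mem_comap, map_pow]
    exact hpow _ ha
  · intro a ha b hb
    rw [Subgroup.mem_comap]
    simpa using hcomm _ ha _ hb

variable {Ω : Type u} [Group Ω] {S : Subgroup Ω}

/-- The Frattini quotient. -/
abbrev FQ (E : Subgroup Ω) : Type u := ↥E ⧸ frattini ↥E

theorem frattini_map_aut {E : Subgroup Ω} (α : MulAut E) :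
    (frattini ↥E).map (α : E ≃* E).toMonoidHom = frattini ↥E :=
  Subgroup.characteristic_iff_map_eq.1 inferInstance α

/-- The action of an automorphism of `E` on the Frattini quotient. -/
noncomputable def rho (F : FusionSystem S) (E : Subgroup Ω) :
    F.autGroup E →* MulAut (FQ E) where
  toFun α := QuotientGroup.congr (frattini ↥E) (frattini ↥E) (α : MulAut E)
    (frattini_map_aut (α : MulAut E))
  map_one' := by
    refine MulEquiv.ext fun z => ?_
    obtain ⟨z, rfl⟩ := QuotientGroup.mk'_surjective (frattini ↥E) z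
    rfl
  map_mul' a b := by
    refine MulEquiv.ext fun z => ?_
    obtain ⟨z, rfl⟩ := QuotientGroup.mk'_surjective (frattini ↥E) z
    rfl

theorem rho_mk (F : FusionSystem S) (E : Subgroup Ω) (α : F.autGroup E) (z : E) :
    rho F E α (z : FQ E) = (((α : MulAut E) z : E) : FQ E) := rfl

/-- The automorphisms of `E` induced by `N_S(E)`. -/
noncomputable def conjAut (F : FusionSystem S) {E : Subgroup Ω} (hE : E ≤ S) :
    normalizerIn S E →* F.autGroup E :=
  (E.normalizerMonoidHom.comp (Subgroup.inclusion inf_le_right)).codRestrict _ fun g =>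
    autInducedBy_le_autGroup F hE (mem_autInducedBy.2 ⟨g, g.2.1, fun _ => rfl⟩)

theorem conjAut_apply (F : FusionSystem S) {E : Subgroup Ω} (hE : E ≤ S) (g : normalizerIn S E)
    (z : E) : (((conjAut F hE g : MulAut E) z : E) : Ω) = (g : Ω) * z * (g : Ω)⁻¹ := rfl

variable [Finite S] [Fact p.Prime]

theorem FQ_pow {E : Subgroup Ω} [Finite E] (hE : IsPGroup p E) (v : FQ E) : v ^ p = 1 := by
  obtain ⟨z, rfl⟩ := QuotientGroup.mk'_surjective (frattini ↥E) v
  rw [← map_pow]
  exact (QuotientGroup.eq_one_iff _).2 (PGroup.pow_mem_frattini hE z)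

theorem FQ_comm {E : Subgroup Ω} [Finite E] (hE : IsPGroup p E) (a b : FQ E) : a * b = b * a := by
  obtain ⟨a, rfl⟩ := QuotientGroup.mk'_surjective (frattini ↥E) a
  obtain ⟨b, rfl⟩ := QuotientGroup.mk'_surjective (frattini ↥E) b
  rw [← map_mul, ← map_mul]
  refine QuotientGroup.eq.2 ?_
  have h := PGroup.commutatorElement_mem_frattini hE b⁻¹ a⁻¹
  simpa [commutatorElement_def, mul_assoc] using h

/-- The kernel of the action is `Inn(E)`. -/
theorem rho_ker (hS : IsPGroup p S) {F : FusionSystem S} {E : Subgroup Ω}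
    (hE : F.IsEssential p E) (α : F.autGroup E) : rho F E α = 1 ↔ (α : MulAut E) ∈ Inn E := by
  haveI : Finite E := finite_of_le ‹_› hE.1.1
  have hEp : IsPGroup p E := hS.to_le hE.1.1
  constructor
  · intro h
    have hrad := FusionAlperin.isRadical_of_essential hS hE
    have hker : IsPGroup p (rho F E).ker := FusionAux.isPGroup_of_pow_eq_one _ fun a ha => by
      have h1 : ∀ z : E, z⁻¹ * (a : MulAut E) z ∈ frattini ↥E := fun z => by
        have h2 : rho F E a (z : FQ E) = (z : FQ E) := by rw [MonoidHom.mem_ker.1 ha]; rfl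
        exact QuotientGroup.eq.1 h2.symm
      obtain ⟨e, he⟩ := exists_pow_eq_one_of_stab hEp (M := ⊤) le_top (γ := (a : MulAut E))
        (fun z _ => h1 z) (fun z => Subgroup.mem_top _)
      exact ⟨e, Subtype.ext (by simpa using he)⟩
    rw [← hrad.2]
    exact Subgroup.mem_map_of_mem _ (Cores.le_pCore inferInstance hker h)
  · rintro ⟨z, hz⟩
    refine MulEquiv.ext fun v => ?_
    obtain ⟨w, rfl⟩ := QuotientGroup.mk'_surjective (frattini ↥E) v
    show rho F E α (w : FQ E) = (w : FQ E)
    rw [rho_mk, ← hz, MulAut.conj_apply]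
    refine QuotientGroup.eq.2 ?_
    have h := PGroup.commutatorElement_mem_frattini hEp z w⁻¹
    simpa [commutatorElement_def, mul_assoc] using h

theorem rho_conjAut_eq_one (hS : IsPGroup p S) {F : FusionSystem S} {E : Subgroup Ω}
    (hE : F.IsEssential p E) (g : normalizerIn S E) :
    rho F E (conjAut F hE.1.1 g) = 1 ↔ (g : Ω) ∈ E :=
  (rho_ker hS hE _).trans (FusionAlperin.autInducedBy_mem_inn_iff hE.1 g.2)

/-- The image of `Aut_F(E)` has a Sylow subgroup, the image of `N_S(E)`, controlling fusion inside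
a proper subgroup. -/
theorem exists_lin_data (hS : IsPGroup p S) {F : FusionSystem S} (hF : F.IsSaturated p)
    {E : Subgroup Ω} (hE : F.IsEssential p E) :
    ∃ (R : Sylow p (rho F E).range) (Y : Subgroup (rho F E).range),
      (R : Subgroup (rho F E).range) ≠ ⊥ ∧ Y ≠ ⊤ ∧
      (∀ Q ≤ (R : Subgroup (rho F E).range), Q ≠ ⊥ →
        Subgroup.normalizer (Q : Set (rho F E).range) ≤ Y) ∧
      ∀ α : F.autGroup E, (rho F E).rangeRestrict α ∈ (R : Subgroup (rho F E).range) ↔
        (α : MulAut E) ∈ autInducedBy S E := by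
  have hES := hE.1.1
  haveI : Finite E := finite_of_le ‹_› hES
  obtain ⟨-, hFA⟩ := saturated_fullyNormalized hS hF hE.2.1
  obtain ⟨R₀, hR₀⟩ := hFA.2
  have hE' := hE
  obtain ⟨-, -, hI, Y₀, hY₀⟩ := hE'
  set ρ := (rho F E).rangeRestrict with hρ
  have hρs : Function.Surjective ρ := MonoidHom.rangeRestrict_surjective _
  set I := (Inn E).subgroupOf (F.autGroup E)
  have hker : ρ.ker = I := by
    ext α
    rw [hρ, MonoidHom.ker_rangeRestrict, MonoidHom.mem_ker]
    exact rho_ker hS hE α
  let e : F.autGroup E ⧸ I ≃* (rho F E).range :=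
    (QuotientGroup.quotientMulEquivOfEq hker.symm).trans
      (QuotientGroup.quotientKerEquivOfSurjective ρ hρs)
  have he : ∀ α : F.autGroup E, e (QuotientGroup.mk' I α) = ρ α := fun α => rfl
  set R₁ := R₀.mapSurjective (QuotientGroup.mk'_surjective I) with hR₁
  obtain ⟨Y₁, hY₁, hN₁⟩ := spe_forall_sylow hY₀ R₁
  have hRmap : (R₀ : Subgroup (F.autGroup E)).map ρ =
      (R₁ : Subgroup (F.autGroup E ⧸ I)).map e.toMonoidHom := by
    rw [hR₁, Sylow.coe_mapSurjective, Subgroup.map_map]
    rfl
  refine ⟨R₀.mapSurjective hρs, Y₁.map e.toMonoidHom, ?_, ?_, ?_, ?_⟩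
  · refine Sylow.ne_bot_of_dvd_card _ ?_
    rw [← Nat.card_congr e.toEquiv]
    exact hY₀.1
  · intro h
    exact hY₁ (Subgroup.map_injective (f := e.toMonoidHom) e.injective
      (h.trans (Subgroup.map_top_of_surjective e.toMonoidHom e.surjective).symm))
  · intro Q hQ hne
    rw [Sylow.coe_mapSurjective, hRmap] at hQ
    obtain ⟨Q₁, hQ₁, rfl⟩ : ∃ Q₁ ≤ (R₁ : Subgroup (F.autGroup E ⧸ I)),
        Q₁.map e.toMonoidHom = Q := by
      refine ⟨Q.comap e.toMonoidHom, fun z hz => ?_,
        Subgroup.map_comap_eq_self_of_surjective e.surjective Q⟩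
      obtain ⟨y, hy, hyz⟩ := hQ hz
      rwa [← e.injective hyz]
    refine (le_of_eq (Subgroup.map_equiv_normalizer_eq Q₁ e).symm).trans ?_
    exact Subgroup.map_mono (hN₁ Q₁ hQ₁ fun h => hne (by rw [h, Subgroup.map_bot]))
  · intro α
    rw [Sylow.coe_mapSurjective]
    constructor
    · rintro ⟨β, hβ, hβα⟩
      have hd : β⁻¹ * α ∈ I := by
        rw [← hker, MonoidHom.mem_ker, map_mul, map_inv, hβα, inv_mul_cancel]
      rw [hR₀] at hβ
      have := mul_mem (Subgroup.mem_subgroupOf.1 hβ) (inn_le_autInducedBy hES hd)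
      simpa using this
    · intro h
      exact ⟨α, hR₀ ▸ Subgroup.mem_subgroupOf.2 h, rfl⟩

end Cfsg.Agent.FusRankThree
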